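import Groth.Agent.FlatLoc6.BaseChangeEss
import Groth.Agent.RegFS6.Field
import Groth.Agent.CplFib6.PS
import Groth.Agent.FormalFib6.Cplt
import Mathlib.RingTheory.TensorProduct.Quotient

/-!
Regularity of power series and completions over regular rings.
-/

set_option linter.style.haveILetI false

namespace Groth.Agent.Jacob4

open TensorProduct IsLocalRing

universe u

/-- A flat extension of a regular ring whose maximal ideals lie over maximal ideals with regular fibres is regular. -/
theorem regular_of_flat_of_maximal_fibres (R S : Type u) [CommRing R] [CommRing S] [IsNoetherianRing S] [Algebra R S]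
    [Module.Flat R S] [IsRegularRing R]
    (hmax : ∀ (M : Ideal S) [M.IsMaximal], (M.comap (algebraMap R S)).IsMaximal)
    (hfib : ∀ (p : Ideal R) [p.IsMaximal] (M : Ideal S) [M.IsMaximal], M.comap (algebraMap R S) = p →
      IsRegularRing (S ⧸ p.map (algebraMap R S))) :
    IsRegularRing S := by
  refine RegFS6.isRegularRing_of_maximal S fun q _ => ?_
  set p := q.comap (algebraMap R S) with hp
  haveI : p.IsMaximal := hmax q
  haveI : q.LiesOver p := ⟨rfl⟩
  letI := Localization.AtPrime.algebraOfLiesOver p q
  haveI := FlatLoc6.isLocalHom_atPrime p q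
  haveI : IsNoetherianRing (Localization.AtPrime q) := IsLocalization.isNoetherianRing q.primeCompl _ inferInstance
  haveI : IsRegularLocalRing (Localization.AtPrime p) := IsRegularRing.isRegularLocalRing_localization p
  refine FlatLoc6.isRegularLocalRing_of_flat_fibre (A := Localization.AtPrime p) ?_
  obtain ⟨Q, hQ⟩ := FlatLoc6.exists_fiber_prime p q rfl
  haveI : IsRegularRing (p.Fiber S) := by
    let e : (R ⧸ p) ≃ₐ[R] p.ResidueField :=
      AlgEquiv.ofBijective (IsScalarTower.toAlgHom R (R ⧸ p) p.ResidueField) p.bijective_algebraMap_quotient_residueField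
    haveI := hfib p q rfl
    exact IsRegularRing.of_ringEquiv (R := S ⧸ p.map (algebraMap R S))
      ((Algebra.TensorProduct.quotIdealMapEquivQuotTensor S p).toRingEquiv.trans
        (Algebra.TensorProduct.congr e AlgEquiv.refl).toRingEquiv)
  have key : ∀ (q' : Ideal S) [q'.IsPrime],
      Q.asIdeal.comap Algebra.TensorProduct.includeRight = q' → IsRegularLocalRing (EGA4.FibLocRing R S q') := by
    intro q' _ h
    subst h
    obtain ⟨e⟩ := FlatLoc6.exists_fibLocEquiv p Q.asIdeal
    exact IsRegularLocalRing.of_ringEquiv (R := Localization.AtPrime Q.asIdeal) e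
  haveI := key q hQ
  exact IsRegularLocalRing.of_ringEquiv (R := EGA4.FibLocRing R S q)
    (Ideal.quotEquivOfEq (FlatLoc6.map_maximalIdeal_eq (A := R) (B := S) p q).symm)

/-- Power series over a regular ring form a regular ring. -/
theorem isRegularRing_mvPowerSeries (A : Type u) [CommRing A] [IsRegularRing A] (n : ℕ) :
    IsRegularRing (MvPowerSeries (Fin n) A) := by
  classical
  let S := MvPowerSeries (Fin n) A
  haveI := CplFib6.flat_mvPowerSeries A n
  have hvars : ∀ (M : Ideal S) [M.IsMaximal], PSLib.vars n A ≤ M := fun M hM =>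
    (IsAdicComplete.le_jacobson_bot (PSLib.vars n A)).trans (sInf_le ⟨bot_le, hM⟩)
  have hC : ∀ (M : Ideal S) [M.IsMaximal] (f : S),
      (f ∈ M ↔ MvPowerSeries.constantCoeff f ∈ M.comap (algebraMap A S)) := fun M _ f => by
    rw [Ideal.mem_comap]
    constructor
    · intro hf
      have := sub_mem hf (hvars M (CplFib6.sub_C_mem_vars f))
      rwa [sub_sub_cancel] at this
    · intro hf
      have := add_mem (hvars M (CplFib6.sub_C_mem_vars f)) hf
      rwa [sub_add_cancel] at this
  refine regular_of_flat_of_maximal_fibres A S (fun M _ => ?_) fun p _ M _ _ => ?_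
  · have hsurj : Function.Surjective ((Ideal.Quotient.mk M).comp (algebraMap A S)) := fun z => by
      obtain ⟨f, rfl⟩ := Ideal.Quotient.mk_surjective z
      refine ⟨MvPowerSeries.constantCoeff f, ?_⟩
      rw [RingHom.comp_apply, Ideal.Quotient.eq, ← neg_mem_iff, neg_sub]
      exact hvars M (CplFib6.sub_C_mem_vars f)
    letI : Field (S ⧸ M) := Ideal.Quotient.field M
    have := RingHom.ker_isMaximal_of_surjective _ hsurj
    rwa [← RingHom.comap_ker, Ideal.mk_ker] at this
  · letI : Field (A ⧸ p) := Ideal.Quotient.field p
    let F := MvPowerSeries (Fin n) (A ⧸ p)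
    haveI : IsRegularLocalRing F := PSLib.isRegularLocalRing (A ⧸ p) n
    haveI : IsRegularRing F :=
      RegFS6.isRegularRing_of_maximal F fun N _ => RegLoc6.isRegularLocalRing_localization F N
    let π : S →+* F := MvPowerSeries.map (Ideal.Quotient.mk p)
    have hπ : Function.Surjective π := fun g => by
      choose c hc using fun d => Ideal.Quotient.mk_surjective (MvPowerSeries.coeff d g)
      exact ⟨(c : MvPowerSeries (Fin n) A), MvPowerSeries.ext fun d => (MvPowerSeries.coeff_map _ _ _).trans (hc d)⟩
    have hker : RingHom.ker π = p.map (algebraMap A S) := by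
      refine le_antisymm (fun f hf => ?_) (Ideal.map_le_iff_le_comap.2 fun a ha => ?_)
      · obtain ⟨r, g, hg⟩ := Submodule.fg_iff_exists_fin_generating_family.1 (IsNoetherian.noetherian p)
        have hco : ∀ d, MvPowerSeries.coeff d f ∈ Submodule.span A (Set.range g) := fun d => by
          rw [hg, ← Ideal.Quotient.eq_zero_iff_mem, ← MvPowerSeries.coeff_map]
          show MvPowerSeries.coeff d (π f) = 0
          rw [RingHom.mem_ker.1 hf, map_zero]
        choose c hc using fun d => (Submodule.mem_span_range_iff_exists_fun A).1 (hco d)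
        let c' : Fin r → MvPowerSeries (Fin n) A := fun i d => c d i
        have e : f = ∑ i, c' i * algebraMap A S (g i) :=
          MvPowerSeries.ext fun d => by
            rw [map_sum, ← hc d]
            refine Finset.sum_congr rfl fun i _ => ?_
            rw [MvPowerSeries.algebraMap_apply, Algebra.algebraMap_self, RingHom.id_apply, MvPowerSeries.coeff_mul_C]
            rfl
        rw [e]
        exact Ideal.sum_mem _ fun i _ => Ideal.mul_mem_left _ _
          (Ideal.mem_map_of_mem _ (hg ▸ Submodule.subset_span ⟨i, rfl⟩))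
      · rw [Ideal.mem_comap, RingHom.mem_ker]
        show MvPowerSeries.map (Ideal.Quotient.mk p) (MvPowerSeries.C a) = 0
        rw [MvPowerSeries.map_C, Ideal.Quotient.eq_zero_iff_mem.2 ha, map_zero]
    exact IsRegularRing.of_ringEquiv (R := F)
      ((Ideal.quotEquivOfEq hker.symm).trans (RingHom.quotientKerEquivOfSurjective hπ)).symm

/-- An adic completion of a regular ring is regular. -/
theorem isRegularRing_adicCompletion (A : Type u) [CommRing A] [IsRegularRing A] (J : Ideal A) :
    IsRegularRing (AdicCompletion J A) := by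
  let S := AdicCompletion J A
  have fg : J.FG := IsNoetherian.noetherian _
  haveI := FormalFib6.isNoetherianRing_adicCompletion A J
  haveI := AdicCompletion.isAdicComplete_self J fg
  haveI : Module.Flat A S := AdicCompletion.flat_of_isNoetherian J
  have hJ : ∀ (M : Ideal S) [M.IsMaximal], J.map (algebraMap A S) ≤ M := fun M hM =>
    (IsAdicComplete.le_jacobson_bot _).trans (sInf_le ⟨bot_le, hM⟩)
  let ev : S →+* A ⧸ J := (AdicCompletion.evalOneₐ J).toRingHom
  have hev : ∀ a, ev (algebraMap A S a) = Ideal.Quotient.mk J a := fun a => AlgHom.commutes _ a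
  have hevk : RingHom.ker ev = J.map (algebraMap A S) := AdicCompletion.ker_evalOneₐ_eq_map J fg
  have hdec : ∀ z : S, ∃ a, z - algebraMap A S a ∈ J.map (algebraMap A S) := fun z => by
    obtain ⟨a, ha⟩ := Ideal.Quotient.mk_surjective (ev z)
    refine ⟨a, ?_⟩
    rw [← hevk, RingHom.mem_ker, map_sub, hev, ha, sub_self]
  have hsurj : ∀ (M : Ideal S) [M.IsMaximal],
      Function.Surjective ((Ideal.Quotient.mk M).comp (algebraMap A S)) := fun M _ z => by
    obtain ⟨f, rfl⟩ := Ideal.Quotient.mk_surjective z
    obtain ⟨a, ha⟩ := hdec f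
    exact ⟨a, (Ideal.Quotient.eq.2 (hJ M ha)).symm⟩
  refine regular_of_flat_of_maximal_fibres A S (fun M _ => ?_) fun p _ M _ hM => ?_
  · letI : Field (S ⧸ M) := Ideal.Quotient.field M
    have := RingHom.ker_isMaximal_of_surjective _ (hsurj M)
    rwa [← RingHom.comap_ker, Ideal.mk_ker] at this
  · have hJp : J ≤ p := hM ▸ Ideal.map_le_iff_le_comap.1 (hJ M)
    letI : Field (A ⧸ p) := Ideal.Quotient.field p
    let π : S →+* A ⧸ p := (Ideal.Quotient.factor hJp).comp ev
    have hπ : Function.Surjective π := fun z => by
      obtain ⟨a, rfl⟩ := Ideal.Quotient.mk_surjective z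
      exact ⟨algebraMap A S a, by simp [π, hev]⟩
    have hker : RingHom.ker π = p.map (algebraMap A S) := by
      refine le_antisymm (fun z hz => ?_) (Ideal.map_le_iff_le_comap.2 fun a ha => ?_)
      · obtain ⟨a, ha⟩ := hdec z
        have h0 : π (z - algebraMap A S a) = 0 := by
          show Ideal.Quotient.factor hJp (ev _) = 0
          rw [← hevk, RingHom.mem_ker] at ha
          rw [ha, map_zero]
        rw [map_sub, RingHom.mem_ker.1 hz, zero_sub, neg_eq_zero] at h0
        have hap : a ∈ p := by
          rw [← Ideal.Quotient.eq_zero_iff_mem, ← h0]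
          simp [π, hev]
        have := add_mem (Ideal.map_mono hJp ha) (Ideal.mem_map_of_mem (algebraMap A S) hap)
        rwa [sub_add_cancel] at this
      · rw [Ideal.mem_comap, RingHom.mem_ker]
        simp [π, hev, Ideal.Quotient.eq_zero_iff_mem.2 ha]
    exact IsRegularRing.of_ringEquiv (R := A ⧸ p)
      ((Ideal.quotEquivOfEq hker.symm).trans (RingHom.quotientKerEquivOfSurjective hπ)).symm

end Groth.Agent.Jacob4
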