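import Mathlib.RingTheory.KrullDimension.Regular
import Mathlib.RingTheory.KrullDimension.NonZeroDivisors
import Mathlib.RingTheory.Ideal.KrullsHeightTheorem
import Mathlib.RingTheory.Spectrum.Maximal.Basic
import Mathlib.RingTheory.HopkinsLevitzki
import Mathlib.RingTheory.KrullDimension.Field
import Mathlib.RingTheory.Regular.RegularSequence

/-!
Dimension of modules over semilocal Noetherian rings.
-/

namespace Groth.Agent.Jacob4

open Module Order

universe u

variable {A : Type u} [CommRing A] [IsNoetherianRing A]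

theorem exists_ringKrullDim_le [Finite (MaximalSpectrum A)] : ∃ N : ℕ, ringKrullDim A ≤ N := by
  have hfin : ∀ m : MaximalSpectrum A, ∃ n : ℕ, m.asIdeal.height = n := fun m =>
    ⟨_, (ENat.natCast_toNat (Ideal.height_ne_top m.isMaximal.ne_top)).symm⟩
  choose n hn using hfin
  obtain ⟨N, hN⟩ := Set.Finite.bddAbove (Set.finite_range n)
  refine ⟨N, (ringKrullDim_le_iff_height_le _).2 fun p hp => ?_⟩
  obtain ⟨m, hm, hpm⟩ := Ideal.exists_le_maximal p hp.ne_top
  refine WithBot.coe_le_coe.2 ((Ideal.height_mono hpm).trans ?_)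
  rw [hn ⟨m, hm⟩]
  exact Nat.cast_le.2 (hN ⟨⟨m, hm⟩, rfl⟩)

variable (M : Type u) [AddCommGroup M] [Module A M] [Module.Finite A M]

theorem exists_supportDim_eq [Finite (MaximalSpectrum A)] [Nontrivial M] : ∃ d : ℕ, supportDim A M = d := by
  obtain ⟨N, hN⟩ := exists_ringKrullDim_le (A := A)
  have h1 := (supportDim_le_ringKrullDim A M).trans hN
  have h2 := supportDim_ne_bot_of_nontrivial A M
  obtain ⟨z, hz⟩ := WithBot.ne_bot_iff_exists.1 h2
  rw [← hz] at h1
  have h3 : z ≤ (N : ℕ∞) := WithBot.coe_le_coe.1 h1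
  obtain ⟨d, hd⟩ := ENat.ne_top_iff_exists.1 (ne_top_of_le_ne_top (ENat.natCast_ne_top N) h3)
  exact ⟨d, by rw [← hz, ← hd]; rfl⟩

variable {M}

/-- A chain in the support bounds the dimension of the quotient by its least prime. -/
theorem length_le_ringKrullDim_head {N : Type u} [AddCommGroup N] [Module A N] (s : LTSeries (support A N)) :
    (s.length : WithBot ℕ∞) ≤ ringKrullDim (A ⧸ s.head.1.asIdeal) := by
  rw [ringKrullDim_quotient]
  let s' : LTSeries (PrimeSpectrum.zeroLocus (R := A) s.head.1.asIdeal) :=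
    { length := s.length
      toFun := fun i => ⟨(s i).1, (PrimeSpectrum.mem_zeroLocus _ _).2 (s.head_le i)⟩
      step := fun i => s.step i }
  exact Order.LTSeries.length_le_krullDim s'

theorem ringKrullDim_quot_le_supportDim {p : PrimeSpectrum A} (hp : p ∈ support A M) :
    ringKrullDim (A ⧸ p.asIdeal) ≤ supportDim A M := by
  rw [supportDim_eq_ringKrullDim_quotient_annihilator]
  exact ringKrullDim_le_of_surjective (Ideal.Quotient.factor (mem_support_iff_of_finite.1 hp))
    (Ideal.Quotient.factor_surjective _)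

theorem supportDim_quotSMulTop_add_one_eq_iff [Finite (MaximalSpectrum A)] (x : A) (hx : x ∈ Ring.jacobson A) :
    supportDim A (QuotSMulTop x M) + 1 = supportDim A M ↔
      ∀ p : PrimeSpectrum A, p ∈ support A M → ringKrullDim (A ⧸ p.asIdeal) = supportDim A M → x ∉ p.asIdeal := by
  rcases subsingleton_or_nontrivial M with hM | hM
  · refine iff_of_true ?_ fun p hp => ?_
    · rw [supportDim_eq_bot_of_subsingleton, supportDim_eq_bot_of_subsingleton, WithBot.bot_add]
    · rw [support_eq_empty_iff.2 hM] at hp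
      exact absurd hp (Set.notMem_empty p)
  obtain ⟨d, hd⟩ := exists_supportDim_eq (A := A) M
  have hj : x ∈ (annihilator A M).jacobson :=
    Ideal.jacobson_mono bot_le (by rwa [Ideal.jacobson_bot])
  have hge := supportDim_le_supportDim_quotSMulTop_succ_of_mem_jacobson hj
  constructor
  · intro h p hp hpd hxp
    have h1 : p ∈ support A (QuotSMulTop x M) := by
      rw [support_quotSMulTop]
      exact ⟨hp, (PrimeSpectrum.mem_zeroLocus _ _).2 (Set.singleton_subset_iff.2 hxp)⟩
    have h2 := ringKrullDim_quot_le_supportDim h1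
    rw [hpd] at h2
    have h3 := add_le_add_left h2 1
    rw [h, hd] at h3
    have : d + 1 ≤ d := by exact_mod_cast h3
    omega
  · intro h
    refine le_antisymm ?_ hge
    rcases subsingleton_or_nontrivial (QuotSMulTop x M) with hQ | hQ
    · rw [supportDim_eq_bot_of_subsingleton, WithBot.bot_add]
      exact bot_le
    obtain ⟨e, he⟩ := exists_supportDim_eq (A := A) (QuotSMulTop x M)
    haveI : Nonempty (support A (QuotSMulTop x M)) := nonempty_support_of_nontrivial.to_subtype
    obtain ⟨s, hs⟩ : ∃ s : LTSeries (support A (QuotSMulTop x M)), s.length = e := by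
      have h1 : (e : WithBot ℕ∞) ≤ Order.krullDim (support A (QuotSMulTop x M)) := he.ge
      exact (Order.le_krullDim_iff).1 h1
    obtain ⟨h01, h02⟩ := (Set.ext_iff.1 (support_quotSMulTop (R := A) (M := M) x) s.head.1).1 s.head.2
    have hhead : s.head.1 ∈ support A M ∧ x ∈ s.head.1.asIdeal :=
      ⟨h01, Set.singleton_subset_iff.1 ((PrimeSpectrum.mem_zeroLocus _ _).1 h02)⟩
    have h1 := length_le_ringKrullDim_head s
    have h2 := ringKrullDim_quot_le_supportDim hhead.1
    have h4 : (e : WithBot ℕ∞) ≤ supportDim A M := hs ▸ h1.trans h2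
    rw [hd, Nat.cast_le] at h4
    have h5 : e ≠ d := fun heq => h s.head.1 hhead.1
      (le_antisymm h2 (by rw [hd, ← heq, ← hs]; exact h1)) hhead.2
    rw [he, hd]
    have : e + 1 ≤ d := by omega
    exact_mod_cast this

theorem isFiniteLength_iff_supportDim_le_zero : IsFiniteLength A M ↔ supportDim A M ≤ 0 := by
  rw [supportDim_eq_ringKrullDim_quotient_annihilator, ← Nat.cast_zero, ← Ring.krullDimLE_iff]
  have hart : IsArtinianRing (A ⧸ annihilator A M) ↔ Ring.KrullDimLE 0 (A ⧸ annihilator A M) := by
    rw [isArtinianRing_iff_isNoetherianRing_krullDimLE_zero, and_iff_right]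
    infer_instance
  rw [← hart, isFiniteLength_iff_isNoetherian_isArtinian, and_iff_right (by infer_instance)]
  constructor
  · intro h
    obtain ⟨n, g, hg⟩ := Module.Finite.exists_fin (R := A) (M := M)
    let φ : A →ₗ[A] (Fin n → M) := LinearMap.pi fun i => LinearMap.toSpanSingleton A M (g i)
    have hker : annihilator A M = LinearMap.ker φ := by
      ext a
      rw [Module.mem_annihilator, LinearMap.mem_ker]
      refine ⟨fun ha => funext fun i => ha _, fun ha m => ?_⟩
      have hm : m ∈ Submodule.span A (Set.range g) := hg ▸ Submodule.mem_top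
      obtain ⟨c, rfl⟩ := (Submodule.mem_span_range_iff_exists_fun A).1 hm
      rw [Finset.smul_sum]
      refine Finset.sum_eq_zero fun i _ => ?_
      rw [smul_comm, show a • g i = 0 from congrFun ha i, smul_zero]
    haveI : IsArtinian A (A ⧸ annihilator A M) := by
      rw [hker]
      exact isArtinian_of_injective ((LinearMap.ker φ).liftQ φ le_rfl)
        (LinearMap.ker_eq_bot.1 (Submodule.ker_liftQ_eq_bot' _ φ rfl))
    exact isArtinian_of_tower A inferInstance
  · intro h
    letI : Module (A ⧸ annihilator A M) M :=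
      Module.IsTorsionBySet.module (fun m a => Module.mem_annihilator.1 a.2 m)
    haveI : IsScalarTower A (A ⧸ annihilator A M) M := Module.IsTorsionBySet.isScalarTower _
    haveI : Module.Finite (A ⧸ annihilator A M) M := Module.Finite.of_restrictScalars_finite A _ _
    haveI : IsArtinian (A ⧸ annihilator A M) M := inferInstance
    exact isArtinian_of_surjective_algebraMap (S := A) (R := A ⧸ annihilator A M) Ideal.Quotient.mk_surjective

variable (A)

/-- Elements of the radical avoid the primes of positive dimension. -/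
theorem exists_mem_jacobson_drop [Finite (MaximalSpectrum A)] (M : Type u) [AddCommGroup M] [Module A M]
    [Module.Finite A M] {d : ℕ} (hd : supportDim A M = (d + 1 : ℕ)) :
    ∃ y ∈ Ring.jacobson A, supportDim A (QuotSMulTop y M) + 1 = supportDim A M := by
  classical
  let S : Set (Ideal A) := {q | q ∈ (annihilator A M).minimalPrimes ∧ ¬ q.IsMaximal}
  have hSfin : S.Finite := ((annihilator A M).finite_minimalPrimes_of_isNoetherianRing A).subset fun q hq => hq.1
  have hnle : ¬ ((Ring.jacobson A : Ideal A) : Set A) ⊆ ⋃ q ∈ (hSfin.toFinset : Set (Ideal A)), (q : Set A) := by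
    rw [Ideal.subset_union_prime ⊥ ⊥ (fun q hq _ _ => (hSfin.mem_toFinset.1 hq).1.isPrime)]
    rintro ⟨q, hq, hle⟩
    obtain ⟨hq1, hq2⟩ := hSfin.mem_toFinset.1 hq
    haveI := hq1.isPrime
    haveI : Fintype (MaximalSpectrum A) := Fintype.ofFinite _
    have hprod : ∏ m : MaximalSpectrum A, m.asIdeal ≤ q := by
      refine Ideal.prod_le_inf.trans (le_trans (fun z hz => ?_) hle)
      rw [← Ideal.jacobson_bot, Ideal.jacobson, Submodule.mem_sInf]
      rintro m ⟨-, hm⟩
      exact (Finset.inf_le (f := fun m : MaximalSpectrum A => m.asIdeal) (Finset.mem_univ (⟨m, hm⟩ : MaximalSpectrum A))) hz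
    obtain ⟨m, -, hm⟩ := (Ideal.IsPrime.prod_le inferInstance).1 hprod
    exact hq2 (m.isMaximal.eq_of_le (Ideal.IsPrime.ne_top inferInstance) hm ▸ m.isMaximal)
  obtain ⟨y, hy, hyn⟩ := Set.not_subset.1 hnle
  refine ⟨y, hy, (supportDim_quotSMulTop_add_one_eq_iff y hy).2 fun p hp hpd hyp => hyn ?_⟩
  have hmin : p.asIdeal ∈ (annihilator A M).minimalPrimes := by
    obtain ⟨r, hr, hrp⟩ := Ideal.exists_minimalPrimes_le (mem_support_iff_of_finite.1 hp)
    rcases eq_or_lt_of_le hrp with h | h
    · exact h ▸ hr
    · exfalso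
      haveI := hr.isPrime
      have h1 : ringKrullDim (A ⧸ p.asIdeal) + 1 ≤ ringKrullDim (A ⧸ r) := by
        obtain ⟨z, hzp, hzr⟩ := Set.exists_of_ssubset h
        refine le_trans (add_le_add_left ?_ 1) (ringKrullDim_quotient_succ_le_of_nonZeroDivisor
          (r := Ideal.Quotient.mk r z) (mem_nonZeroDivisors_of_ne_zero (by rwa [Ne, Ideal.Quotient.eq_zero_iff_mem])))
        let g : (A ⧸ r) →+* A ⧸ p.asIdeal := Ideal.Quotient.factor hrp
        have hg : ∀ w ∈ Ideal.span {Ideal.Quotient.mk r z}, g w = 0 := fun w hw => by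
          obtain ⟨c, rfl⟩ := Ideal.mem_span_singleton'.1 hw
          rw [map_mul, Ideal.Quotient.factor_mk, Ideal.Quotient.eq_zero_iff_mem.2 hzp, mul_zero]
        exact ringKrullDim_le_of_surjective (Ideal.Quotient.lift _ g hg)
          (Ideal.Quotient.lift_surjective_of_surjective _ hg (Ideal.Quotient.factor_surjective hrp))
      have h2 := h1.trans (ringKrullDim_quot_le_supportDim (p := ⟨r, hr.isPrime⟩) (M := M)
        (mem_support_iff_of_finite.2 hr.1.2))
      rw [hpd, hd] at h2
      have : d + 1 + 1 ≤ d + 1 := by exact_mod_cast h2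
      omega
  refine Set.mem_biUnion (hSfin.mem_toFinset.2 ⟨hmin, fun hmax => ?_⟩) hyp
  haveI := hmax
  letI : Field (A ⧸ p.asIdeal) := Ideal.Quotient.field _
  rw [ringKrullDim_eq_zero_of_field, hd] at hpd
  have : 0 = d + 1 := by exact_mod_cast hpd
  omega

/-- Existence of systems of parameters in the radical. -/
theorem exists_parameters [Finite (MaximalSpectrum A)] : ∀ (d : ℕ) (M : Type u) [AddCommGroup M] [Module A M]
    [Module.Finite A M], supportDim A M = d →
      ∃ ys : List A, (∀ y ∈ ys, y ∈ Ring.jacobson A) ∧ ys.length = d ∧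
        IsFiniteLength A (M ⧸ (Ideal.ofList ys • ⊤ : Submodule A M)) := by
  intro d
  induction d with
  | zero =>
    intro M _ _ _ hd
    refine ⟨[], fun y hy => absurd hy List.not_mem_nil, rfl, isFiniteLength_iff_supportDim_le_zero.2 ?_⟩
    exact (supportDim_le_of_surjective _ (Submodule.mkQ_surjective _)).trans hd.le
  | succ d ih =>
    intro M _ _ _ hd
    obtain ⟨y, hy, hyd⟩ := exists_mem_jacobson_drop A M hd
    rw [hd] at hyd
    have hne : supportDim A (QuotSMulTop y M) ≠ ⊥ := fun h => by
      rw [h, WithBot.bot_add] at hyd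
      exact WithBot.bot_ne_coe hyd
    haveI := (supportDim_ne_bot_iff_nontrivial A (QuotSMulTop y M)).1 hne
    obtain ⟨e, he⟩ := exists_supportDim_eq (A := A) (QuotSMulTop y M)
    rw [he] at hyd
    have : e + 1 = d + 1 := by exact_mod_cast hyd
    obtain ⟨ys, h1, h2, h3⟩ := ih (QuotSMulTop y M) (by rw [he]; exact_mod_cast congrArg (fun n : ℕ => n) (by omega : e = d))
    exact ⟨y :: ys, List.forall_mem_cons.2 ⟨hy, h1⟩, by rw [List.length_cons, h2],
      (Submodule.quotOfListConsSMulTopEquivQuotSMulTopInner M y ys).symm.isFiniteLength h3⟩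

variable {A}

theorem supportDim_le_add_length : ∀ (xs : List A) (M : Type u) [AddCommGroup M] [Module A M] [Module.Finite A M],
    (∀ x ∈ xs, x ∈ Ring.jacobson A) →
      supportDim A M ≤ supportDim A (M ⧸ (Ideal.ofList xs • ⊤ : Submodule A M)) + xs.length := by
  intro xs
  induction xs with
  | nil =>
    intro M _ _ _ _
    rw [List.length_nil, Nat.cast_zero, add_zero]
    refine (supportDim_eq_of_equiv (Submodule.quotEquivOfEqBot _ ?_)).ge
    rw [Ideal.ofList_nil, Submodule.bot_smul]
  | cons x xs ih =>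
    intro M _ _ _ h
    obtain ⟨hx, hxs⟩ := List.forall_mem_cons.1 h
    have hj : x ∈ (annihilator A M).jacobson := Ideal.jacobson_mono bot_le (by rwa [Ideal.jacobson_bot])
    refine (supportDim_le_supportDim_quotSMulTop_succ_of_mem_jacobson hj).trans ?_
    refine (add_le_add_left (ih (QuotSMulTop x M) hxs) 1).trans (le_of_eq ?_)
    rw [supportDim_eq_of_equiv (Submodule.quotOfListConsSMulTopEquivQuotSMulTopInner M x xs), List.length_cons,
      Nat.cast_add, Nat.cast_one, add_assoc]

theorem supportDim_add_length_eq_iff [Finite (MaximalSpectrum A)] : ∀ (xs : List A) (M : Type u) [AddCommGroup M]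
    [Module A M] [Module.Finite A M] [Nontrivial M], (∀ x ∈ xs, x ∈ Ring.jacobson A) →
    (supportDim A (M ⧸ (Ideal.ofList xs • (⊤ : Submodule A M))) + xs.length = supportDim A M ↔
      ∃ ys : List A, (∀ y ∈ ys, y ∈ Ring.jacobson A) ∧
        ((xs ++ ys).length : WithBot ℕ∞) = supportDim A M ∧
        IsFiniteLength A (M ⧸ (Ideal.ofList (xs ++ ys) • (⊤ : Submodule A M)))) := by
  intro xs
  induction xs with
  | nil =>
    intro M _ _ _ _ _
    obtain ⟨d, hd⟩ := exists_supportDim_eq (A := A) M
    refine iff_of_true ?_ ?_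
    · rw [List.length_nil, Nat.cast_zero, add_zero]
      refine supportDim_eq_of_equiv (Submodule.quotEquivOfEqBot _ ?_)
      rw [Ideal.ofList_nil, Submodule.bot_smul]
    · obtain ⟨ys, h1, h2, h3⟩ := exists_parameters A d M hd
      exact ⟨ys, h1, by rw [List.nil_append, h2, hd], h3⟩
  | cons x xs ih =>
    intro M _ _ _ _ h
    obtain ⟨hx, hxs⟩ := List.forall_mem_cons.1 h
    have hj : x ∈ (annihilator A M).jacobson := Ideal.jacobson_mono bot_le (by rwa [Ideal.jacobson_bot])
    haveI : Nontrivial (QuotSMulTop x M) :=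
      Submodule.Quotient.nontrivial_iff.mpr (Submodule.top_ne_pointwise_smul_of_mem_jacobson_annihilator hj).symm
    obtain ⟨d, hd⟩ := exists_supportDim_eq (A := A) M
    obtain ⟨d', hd'⟩ := exists_supportDim_eq (A := A) (QuotSMulTop x M)
    have hstep := supportDim_le_supportDim_quotSMulTop_succ_of_mem_jacobson hj
    rw [hd, hd'] at hstep
    have hstep' : d ≤ d' + 1 := by exact_mod_cast hstep
    have e1 := supportDim_eq_of_equiv (Submodule.quotOfListConsSMulTopEquivQuotSMulTopInner M x xs)
    constructor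
    · intro heq
      rw [e1, List.length_cons, Nat.cast_add, Nat.cast_one, ← add_assoc, hd] at heq
      have h2 := add_le_add_left (supportDim_le_add_length xs (QuotSMulTop x M) hxs) 1
      rw [heq, hd'] at h2
      have h3 : d' + 1 ≤ d := by exact_mod_cast h2
      obtain ⟨ys, hys, hlen, hfl⟩ := (ih (QuotSMulTop x M) hxs).1 (by
        refine le_antisymm ?_ (supportDim_le_add_length xs _ hxs)
        rcases eq_or_ne (supportDim A (QuotSMulTop x M ⧸ (Ideal.ofList xs • ⊤ : Submodule A (QuotSMulTop x M)))) ⊥ with hb | hb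
        · rw [hb, WithBot.bot_add]
          exact bot_le
        haveI := (supportDim_ne_bot_iff_nontrivial A _).1 hb
        obtain ⟨e, he⟩ := exists_supportDim_eq (A := A) (QuotSMulTop x M ⧸ (Ideal.ofList xs • ⊤ : Submodule A (QuotSMulTop x M)))
        rw [he] at heq
        have h4 : e + xs.length + 1 = d := by exact_mod_cast heq
        rw [he, hd']
        have : e + xs.length ≤ d' := by omega
        exact_mod_cast this)
      rw [hd'] at hlen
      have h5 : (xs ++ ys).length = d' := by exact_mod_cast hlen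
      refine ⟨ys, hys, ?_, (Submodule.quotOfListConsSMulTopEquivQuotSMulTopInner M x (xs ++ ys)).symm.isFiniteLength hfl⟩
      rw [hd, List.cons_append, List.length_cons, h5]
      exact_mod_cast (by omega : d' + 1 = d)
    · rintro ⟨ys, hys, hlen, hfl⟩
      rw [hd, List.cons_append, List.length_cons] at hlen
      have h5 : (xs ++ ys).length + 1 = d := by exact_mod_cast hlen
      have hfl' := (Submodule.quotOfListConsSMulTopEquivQuotSMulTopInner M x (xs ++ ys)).isFiniteLength hfl
      have hz := isFiniteLength_iff_supportDim_le_zero.1 hfl'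
      have h6 := supportDim_le_add_length (xs ++ ys) (QuotSMulTop x M) fun z hz =>
        (List.mem_append.1 hz).elim (hxs z) (hys z)
      have h7 := h6.trans (add_le_add_left hz _)
      rw [zero_add, hd', Nat.cast_le] at h7
      have h8 := (ih (QuotSMulTop x M) hxs).2 ⟨ys, hys, by rw [hd']; exact_mod_cast (by omega : (xs ++ ys).length = d'), hfl'⟩
      rw [e1, List.length_cons, Nat.cast_add, Nat.cast_one, ← add_assoc, h8, hd', hd]
      exact_mod_cast (by omega : d' + 1 = d)

end Groth.Agent.Jacob4
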