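import Groth.Agent.S5757
import Groth.Agent.S5758
import Groth.Agent.Jacob4.SemiDim
import Groth.Agent.LC.PdRegular
import Groth.Agent.S5756
import Groth.Agent.S5763
import Groth.Agent.S5766
import Mathlib.RingTheory.Ideal.AssociatedPrime.Localization
import Mathlib.RingTheory.Regular.Flat

/-!
Regular sequences in primes of Cohen–Macaulay modules.
-/

namespace Groth.Agent.Jacob4

open Module IsLocalRing RingTheory.Sequence

universe u

variable {A : Type u} [CommRing A] [IsLocalRing A] [IsNoetherianRing A]

theorem support_quot_smul_prime (M : Type u) [AddCommGroup M] [Module A M] [Module.Finite A M] (p : PrimeSpectrum A)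
    (hp : p ∈ support A M) :
    supportDim A (M ⧸ (p.asIdeal • ⊤ : Submodule A M)) = ringKrullDim (A ⧸ p.asIdeal) := by
  have h : support A (M ⧸ (p.asIdeal • ⊤ : Submodule A M)) = PrimeSpectrum.zeroLocus (p.asIdeal : Set A) := by
    rw [support_quotient, Set.inter_eq_right]
    intro q hq
    exact mem_support_mono ((PrimeSpectrum.mem_zeroLocus _ _).1 hq) hp
  rw [ringKrullDim_quotient, supportDim, h]

theorem isWeaklyRegular_in_prime (M : Type u) [AddCommGroup M] [Module A M] [Module.Finite A M]
    (hM : LocCoh.IsCohenMacaulayModule A M) (p : PrimeSpectrum A) (hp : p ∈ support A M) (r : ℕ)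
    (hr : supportDim A (M ⧸ (p.asIdeal • (⊤ : Submodule A M))) + r = supportDim A M) :
    (∃ xs : List A, xs.length = r ∧ (∀ x ∈ xs, x ∈ p.asIdeal) ∧ IsWeaklyRegular M xs) ∧
      ∀ xs : List A, xs.length = r → (∀ x ∈ xs, x ∈ p.asIdeal) → IsWeaklyRegular M xs →
        supportDim A (M ⧸ (Ideal.ofList xs • (⊤ : Submodule A M))) =
            supportDim A (M ⧸ (p.asIdeal • (⊤ : Submodule A M))) ∧
          supportDim A (M ⧸ (p.asIdeal • (⊤ : Submodule A M))) = ringKrullDim (A ⧸ p.asIdeal) ∧
          p.asIdeal ∈ associatedPrimes A (M ⧸ (Ideal.ofList xs • (⊤ : Submodule A M))) ∧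
          ∀ q ∈ associatedPrimes A (M ⧸ (Ideal.ofList xs • (⊤ : Submodule A M))), q ≤ p.asIdeal → q = p.asIdeal := by
  classical
  haveI := LC.nontrivial_of_isCM M hM
  have hpm : p.asIdeal ≤ maximalIdeal A := le_maximalIdeal p.2.ne_top
  obtain ⟨d, hd⟩ := LC.exists_supportDim_eq_nat (R := A) M
  have hP := support_quot_smul_prime M p hp
  haveI : Nontrivial (A ⧸ p.asIdeal) := Ideal.Quotient.nontrivial_iff.2 p.2.ne_top
  obtain ⟨n, hn⟩ : ∃ n : ℕ, ringKrullDim (A ⧸ p.asIdeal) = n := by
    haveI : Nontrivial (M ⧸ (p.asIdeal • ⊤ : Submodule A M)) := by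
      rw [← supportDim_ne_bot_iff_nontrivial A, hP]
      intro hb
      have h0 := ringKrullDim_nonneg_of_nontrivial (R := A ⧸ p.asIdeal)
      rw [hb] at h0
      exact absurd h0 (by simp)
    obtain ⟨n, hn⟩ := LC.exists_supportDim_eq_nat (R := A) (M ⧸ (p.asIdeal • ⊤ : Submodule A M))
    exact ⟨n, hP ▸ hn⟩
  rw [hP, hn, hd] at hr
  have hnr : n + r = d := by exact_mod_cast hr
  refine ⟨?_, fun xs hlen hxs hreg => ?_⟩
  · have h1 := LC.supportDim_eq_add_idealDepth M hM (I := p.asIdeal) p.2.ne_top
    obtain ⟨rs, hreg, hrs, hlen⟩ := LC.exists_idealDepth_eq_length p.asIdeal (M := M)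
      (LC.smul_top_ne_top_of_le_maximal hpm)
    rw [hlen, hP, hn, hd] at h1
    have : d = n + rs.length := by exact_mod_cast h1
    exact ⟨rs, by omega, hrs, hreg⟩
  · have hxm : ∀ x ∈ xs, x ∈ maximalIdeal A := fun x hx => hpm (hxs x hx)
    obtain ⟨heq, hCM⟩ := S5758.result A M hM xs hxm
    have h2 := heq.1 hreg
    let N := M ⧸ (Ideal.ofList xs • ⊤ : Submodule A M)
    haveI : Nontrivial N := LC.nontrivial_of_isCM N (hCM hreg)
    obtain ⟨e, he⟩ := LC.exists_supportDim_eq_nat (R := A) N
    rw [he, hd, hlen] at h2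
    have he' : e = n := by
      have : e + r = d := by exact_mod_cast h2
      omega
    have hpN : p ∈ support A N := by
      rw [support_quotient]
      exact ⟨hp, (PrimeSpectrum.mem_zeroLocus _ _).2 (Ideal.span_le.2 fun x hx => hxs x hx)⟩
    have hass : ∀ q ∈ associatedPrimes A N, q ≤ p.asIdeal → q = p.asIdeal := fun q hq hqp => by
      by_contra hne
      haveI := hq.isPrime
      haveI : IsDomain (A ⧸ q) := Ideal.Quotient.isDomain q
      have hlt : q < p.asIdeal := lt_of_le_of_ne hqp hne
      obtain ⟨z, hzp, hzq⟩ := Set.exists_of_ssubset hlt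
      have h3 := ringKrullDim_quotient_succ_le_of_nonZeroDivisor (r := Ideal.Quotient.mk q z)
        (mem_nonZeroDivisors_of_ne_zero (by rwa [Ne, Ideal.Quotient.eq_zero_iff_mem]))
      have h4 : ringKrullDim (A ⧸ p.asIdeal) ≤ ringKrullDim ((A ⧸ q) ⧸ Ideal.span {Ideal.Quotient.mk q z}) := by
        have hg : ∀ w ∈ Ideal.span {Ideal.Quotient.mk q z}, Ideal.Quotient.factor hqp w = 0 := fun w hw => by
          obtain ⟨c, rfl⟩ := Ideal.mem_span_singleton'.1 hw
          rw [map_mul, Ideal.Quotient.factor_mk, Ideal.Quotient.eq_zero_iff_mem.2 hzp, mul_zero]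
        exact ringKrullDim_le_of_surjective (Ideal.Quotient.lift _ _ hg)
          (Ideal.Quotient.lift_surjective_of_surjective _ hg (Ideal.Quotient.factor_surjective hqp))
      have h5 := (add_le_add_left h4 1).trans h3
      rw [S5757.result A N (hCM hreg) q hq, hn, he] at h5
      have : n + 1 ≤ e := by exact_mod_cast h5
      omega
    refine ⟨by rw [hP, he, hn, he'], hP, ?_, hass⟩
    obtain ⟨q, hq, hqp⟩ := Ideal.exists_minimalPrimes_le (mem_support_iff_of_finite.1 hpN)
    have hqA := associatedPrimes.minimalPrimes_annihilator_subset_associatedPrimes A N hq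
    rw [← hass q hqA hqp]
    exact hqA

theorem isCM_of_forall_dim : ∀ (d : ℕ) (M : Type u) [AddCommGroup M] [Module A M] [Module.Finite A M] [Nontrivial M],
    supportDim A M = d →
    (∀ xs : List A, (∀ x ∈ xs, x ∈ maximalIdeal A) →
      supportDim A (M ⧸ (Ideal.ofList xs • (⊤ : Submodule A M))) + xs.length = supportDim A M →
        ∀ p ∈ associatedPrimes A (M ⧸ (Ideal.ofList xs • (⊤ : Submodule A M))),
          ringKrullDim (A ⧸ p) = supportDim A (M ⧸ (Ideal.ofList xs • (⊤ : Submodule A M)))) →
    LocCoh.IsCohenMacaulayModule A M := by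
  classical
  intro d
  induction d with
  | zero =>
    intro M _ _ _ _ hd _
    obtain ⟨n, hn⟩ := LC.exists_depth_eq_nat (R := A) M
    have h1 := LC.depth_le_supportDim (R := A) (M := M)
    rw [hn, hd] at h1
    have h2 : n ≤ 0 := by exact_mod_cast h1
    show supportDim A M = _
    rw [hd, hn, Nat.le_zero.1 h2]
    rfl
  | succ d ih =>
    intro M _ _ _ _ hd h
    let e0 : (M ⧸ (Ideal.ofList ([] : List A) • ⊤ : Submodule A M)) ≃ₗ[A] M :=
      Submodule.quotEquivOfEqBot _ (by rw [Ideal.ofList_nil, Submodule.bot_smul])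
    have hass : ∀ p ∈ associatedPrimes A M, ringKrullDim (A ⧸ p) = supportDim A M := fun p hp => by
      have h1 := h [] (fun x hx => absurd hx List.not_mem_nil) (by
        rw [supportDim_eq_of_equiv e0, List.length_nil, Nat.cast_zero, add_zero]) p
        (by rw [LinearEquiv.AssociatedPrimes.eq e0]; exact hp)
      rwa [supportDim_eq_of_equiv e0] at h1
    obtain ⟨x, hxm, hxreg⟩ : ∃ x ∈ maximalIdeal A, IsSMulRegular M x := by
      by_contra hno
      push Not at hno
      have hsub : (maximalIdeal A : Set A) ⊆ ⋃ p ∈ ((associatedPrimes.finite A M).toFinset : Set (Ideal A)), (p : Set A) := by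
        intro x hx
        have hnot := hno x hx
        have hx' : x ∈ ⋃ p ∈ associatedPrimes A M, (p : Set A) := by
          rw [biUnion_associatedPrimes_eq_zero_divisors]
          by_contra hc
          refine hnot fun a b hab => sub_eq_zero.1 (by_contra fun hab0 => hc ⟨a - b, hab0, ?_⟩)
          rw [smul_sub, show x • a = x • b from hab, sub_self]
        obtain ⟨p, hp, hxp⟩ := Set.mem_iUnion₂.1 hx'
        exact Set.mem_biUnion ((associatedPrimes.finite A M).mem_toFinset.2 hp) hxp
      rw [Ideal.subset_union_prime ⊥ ⊥ (fun q hq _ _ => ((associatedPrimes.finite A M).mem_toFinset.1 hq).isPrime)] at hsub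
      obtain ⟨p, hp, hle⟩ := hsub
      rw [Set.Finite.mem_toFinset] at hp
      haveI := hp.isPrime
      have hpe : p = maximalIdeal A := le_antisymm (le_maximalIdeal hp.isPrime.ne_top) hle
      have h1 := hass p hp
      subst hpe
      letI : Field (A ⧸ maximalIdeal A) := Ideal.Quotient.field _
      rw [ringKrullDim_eq_zero_of_field, hd] at h1
      have : 0 = d + 1 := by exact_mod_cast h1
      omega
    haveI : Nontrivial (QuotSMulTop x M) := Submodule.Quotient.nontrivial_iff.mpr
      (Submodule.top_ne_pointwise_smul_of_mem_jacobson_annihilator (maximalIdeal_le_jacobson _ hxm)).symm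
    have hdim : supportDim A (QuotSMulTop x M) + 1 = supportDim A M :=
      supportDim_quotSMulTop_succ_eq_supportDim hxreg hxm
    obtain ⟨e, he⟩ := LC.exists_supportDim_eq_nat (R := A) (QuotSMulTop x M)
    rw [he, hd] at hdim
    have hed : e = d := by
      have : e + 1 = d + 1 := by exact_mod_cast hdim
      omega
    subst hed
    have hCM := ih (QuotSMulTop x M) he fun xs hxs hdimxs p hp => by
      let ec := Submodule.quotOfListConsSMulTopEquivQuotSMulTopInner M x xs
      have h1 := h (x :: xs) (List.forall_mem_cons.2 ⟨hxm, hxs⟩) (by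
        rw [supportDim_eq_of_equiv ec, List.length_cons, Nat.cast_add, Nat.cast_one, ← add_assoc, hdimxs, he, hd]
        norm_cast) p (by rw [LinearEquiv.AssociatedPrimes.eq ec]; exact hp)
      rwa [supportDim_eq_of_equiv ec] at h1
    have hdep : LocCoh.depth A (QuotSMulTop x M) + 1 = LocCoh.depth A M :=
      LC.idealDepth_quotSMulTop_add_one (maximalIdeal A) hxm hxreg
    show supportDim A M = _
    obtain ⟨n, hn⟩ := LC.exists_depth_eq_nat (R := A) (QuotSMulTop x M)
    have h2 : supportDim A (QuotSMulTop x M) = _ := hCM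
    rw [he, hn] at h2
    have h3 : e = n := by exact_mod_cast h2
    rw [hd, ← hdep, hn, h3]
    norm_cast

/-- Flatness of finite maps from regular local rings. -/
theorem free_iff_isCM_and_injective (A B : Type u) [CommRing A] [CommRing B]
    [IsRegularLocalRing A] [IsLocalRing B] [Algebra A B] [IsLocalHom (algebraMap A B)] [Module.Finite A B] :
    Module.Free A B ↔ LocCoh.IsCohenMacaulayLocalRing B ∧ Function.Injective (algebraMap A B) := by
  haveI : IsNoetherianRing B := IsNoetherianRing.of_finite A B
  obtain ⟨n, hn⟩ : ∃ n : ℕ, ringKrullDim A = n :=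
    ⟨_, IsRegularLocalRing.spanFinrank_maximalIdeal.symm⟩
  have hgor := LC.gorenstein_of_isRegularLocalRing (R := A)
  obtain ⟨n', hn', hdepA, -⟩ := LC.gorenstein_basic (R := A)
  obtain rfl : n = n' := by rw [hn] at hn'; exact_mod_cast hn'
  have hdep := S5756.result A B B
  constructor
  · intro hfree
    haveI := hfree
    have hinj : Function.Injective (algebraMap A B) := by
      haveI : Nonempty (Module.Free.ChooseBasisIndex A B) := (Module.Free.chooseBasis A B).index_nonempty
      rw [injective_iff_map_eq_zero]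
      intro a ha
      have i := Classical.arbitrary (Module.Free.ChooseBasisIndex A B)
      have h := congrArg (fun z => (Module.Free.chooseBasis A B).repr z i)
        (show a • (Module.Free.chooseBasis A B) i = 0 by rw [Algebra.smul_def, ha, zero_mul])
      simpa using h
    refine ⟨⟨?_⟩, hinj⟩
    have hdimB : ringKrullDim B = n := ((S5763.result A B).2 hinj).trans hn
    obtain ⟨m, hm⟩ := LC.exists_depth_eq_nat (R := B) B
    have hle := LC.depth_le_supportDim (R := B) (M := B)
    rw [supportDim_self_eq_ringKrullDim, hdimB, hm] at hle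
    rw [supportDim_self_eq_ringKrullDim, hdimB, hm]
    have hge : (n : ℕ∞) ≤ LocCoh.depth A B := by
      obtain ⟨rs, hreg, hrs, hlen⟩ := LC.exists_idealDepth_eq_length (maximalIdeal A) (M := A)
        (LC.smul_top_ne_top_of_le_maximal le_rfl)
      have hregB : IsWeaklyRegular B rs := (isWeaklyRegular_map_algebraMap_iff B B rs).1 (hreg.of_flat (S := B))
      have h0 := LC.idealDepth_quot_ofList (maximalIdeal A) hregB hrs
      rw [show LocCoh.depth A A = LocCoh.idealDepth (maximalIdeal A) A from rfl, hlen] at hdepA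
      rw [show LocCoh.depth A B = LocCoh.idealDepth (maximalIdeal A) B from rfl, ← h0, hdepA]
      exact le_add_self
    rw [hdep, hm] at hge
    have h1 : n ≤ m := by exact_mod_cast hge
    have h2 : m ≤ n := by exact_mod_cast hle
    rw [le_antisymm h2 h1]
    rfl
  · rintro ⟨hCM, hinj⟩
    haveI := hCM
    have h1 := LocCoh.IsCohenMacaulayLocalRing.supportDim_eq_depth (R := B)
    rw [supportDim_self_eq_ringKrullDim, (S5763.result A B).2 hinj, hn] at h1
    have h2 : LocCoh.depth A B = n := by rw [hdep]; exact (by exact_mod_cast h1.symm)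
    have hpd := LC.pdLE_of_le_depth A n hn B 0 (by rw [h2]; simp)
    haveI : Module.Projective A B :=
      RegLoc6.pdLE_zero_iff.1 hpd
    exact Module.free_of_flat_of_isLocalRing

end Groth.Agent.Jacob4
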