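import Groth.Agent.PBasisLib.Inter
import Mathlib.RingTheory.MvPowerSeries.Expand

/-!
Power series in `p`-th powers of the variables with coefficients in a subfield.
-/

set_option linter.style.haveILetI false

universe u

open EGA41 MvPowerSeries Groth.Agent.PBasisLib

namespace Groth.Agent.Jacob4

variable (p : ℕ) [hp : Fact p.Prime] {k K : Type u} [Field k] [Field K] [Algebra k K] (d : ℕ)

/-- Series in the `p`-th powers of the variables with coefficients in `F`. -/
def coeffSub (F : IntermediateField k K) : Subalgebra k (MvPowerSeries (Fin d) K) where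
  carrier := {f | ∀ a, coeff a f ∈ F ∧ ((∃ i, ¬ p ∣ a i) → coeff a f = 0)}
  mul_mem' := fun {f g} hf hg a => by
    classical
    rw [coeff_mul]
    refine ⟨sum_mem fun x _ => mul_mem (hf x.1).1 (hg x.2).1, fun ⟨i, hi⟩ => Finset.sum_eq_zero fun x hx => ?_⟩
    rw [Finset.HasAntidiagonal.mem_antidiagonal] at hx
    by_cases h : p ∣ x.1 i
    · rw [(hg x.2).2 ⟨i, fun h2 => hi ?_⟩, mul_zero]
      rw [← hx, Finsupp.add_apply]
      exact dvd_add h h2
    · rw [(hf x.1).2 ⟨i, h⟩, zero_mul]
  add_mem' := fun {f g} hf hg a => by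
    rw [map_add]
    exact ⟨add_mem (hf a).1 (hg a).1, fun h => by rw [(hf a).2 h, (hg a).2 h, add_zero]⟩
  algebraMap_mem' := fun c a => by
    classical
    rw [MvPowerSeries.algebraMap_apply, coeff_C]
    refine ⟨?_, fun ⟨i, hi⟩ => if_neg fun h => hi (by rw [h]; exact dvd_zero p)⟩
    split_ifs
    exacts [F.algebraMap_mem c, zero_mem F]

variable {p d}

omit hp in
theorem coeffSub_mono {F G : IntermediateField k K} (h : F ≤ G) : coeffSub p d F ≤ coeffSub p d G :=
  fun _ hf a => ⟨h (hf a).1, (hf a).2⟩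

theorem pow_mem_coeffSub [CharP K p] {F : IntermediateField k K} (hF : ∀ z : K, z ^ p ∈ F) (f : MvPowerSeries (Fin d) K) :
    f ^ p ∈ coeffSub p d F := by
  haveI : ExpChar K p := ExpChar.prime hp.out
  intro a
  rw [← map_frobenius_expand (p := p) (hp := hp.out.ne_zero), coeff_map, frobenius_def]
  refine ⟨hF _, fun ⟨i, hi⟩ => ?_⟩
  rw [coeff_expand_of_not_dvd p hp.out.ne_zero f hi, zero_pow hp.out.ne_zero]

omit hp in
theorem mem_of_mul_mem {F : IntermediateField k K} {f b : MvPowerSeries (Fin d) K} (hb : b ∈ coeffSub p d F)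
    (hb0 : b ≠ 0) (hfb : f * b ∈ coeffSub p d F) : f ∈ coeffSub p d F := by
  classical
  obtain ⟨π₀, hπ₀⟩ := (Algebra.linearMap F K).exists_leftInverse_of_injective
    (LinearMap.ker_eq_bot.2 (algebraMap F K).injective)
  have hπF : ∀ c ∈ F, (π₀ c : K) = c := fun c hc =>
    congrArg Subtype.val (LinearMap.congr_fun hπ₀ ⟨c, hc⟩)
  have hπmul : ∀ (z : K) (c : K), c ∈ F → (π₀ (z * c) : K) = π₀ z * c := fun z c hc => by
    have : z * c = (⟨c, hc⟩ : F) • z := mul_comm z c
    rw [this, map_smul]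
    exact mul_comm _ _
  let π : MvPowerSeries (Fin d) K → MvPowerSeries (Fin d) K := fun g a =>
    if ∀ i, p ∣ a i then (π₀ (coeff a g) : K) else 0
  have hπc : ∀ g a, coeff a (π g) = if ∀ i, p ∣ a i then (π₀ (coeff a g) : K) else 0 := fun _ _ => rfl
  have hmem : ∀ g, π g ∈ coeffSub p d F := fun g a => by
    rw [hπc]
    refine ⟨?_, fun ⟨i, hi⟩ => if_neg fun h => hi (h i)⟩
    split_ifs
    exacts [(π₀ _).2, zero_mem F]
  have hfix : ∀ g ∈ coeffSub p d F, π g = g := fun g hg => MvPowerSeries.ext fun a => by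
    rw [hπc]
    split_ifs with h
    · exact hπF _ (hg a).1
    · push Not at h
      exact ((hg a).2 h).symm
  have hlin : π (f * b) = π f * b := MvPowerSeries.ext fun a => by
    rw [hπc, coeff_mul, coeff_mul]
    split_ifs with h
    · rw [map_sum, AddSubmonoidClass.coe_finsetSum]
      refine Finset.sum_congr rfl fun x hx => ?_
      rw [Finset.HasAntidiagonal.mem_antidiagonal] at hx
      rw [hπmul _ _ (hb x.2).1, hπc]
      by_cases h2 : ∀ i, p ∣ x.2 i
      · rw [if_pos fun i => (Nat.dvd_add_left (h2 i)).1 (by rw [← Finsupp.add_apply, hx]; exact h i)]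
      · push Not at h2
        rw [(hb x.2).2 h2, mul_zero, mul_zero]
    · refine (Finset.sum_eq_zero fun x hx => ?_).symm
      rw [Finset.HasAntidiagonal.mem_antidiagonal] at hx
      rw [hπc]
      by_cases h2 : ∀ i, p ∣ x.2 i
      · rw [if_neg fun h1 => h fun i => by rw [← hx, Finsupp.add_apply]; exact dvd_add (h1 i) (h2 i), zero_mul]
      · push Not at h2
        rw [(hb x.2).2 h2, mul_zero]
  have e : π f * b = f * b := hlin.symm.trans (hfix _ hfb)
  haveI : IsDomain (MvPowerSeries (Fin d) K) := NoZeroDivisors.to_isDomain _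
  exact mul_right_cancel₀ hb0 e ▸ hmem f

/-- Series over the whole field are finite over `coeffSub`. -/
theorem exists_span {F : IntermediateField k K} [Module.Finite F K] :
    ∃ (ι : Type) (_ : Fintype ι) (e : ι → MvPowerSeries (Fin d) K), ∀ f, ∃ g : ι → MvPowerSeries (Fin d) K,
      (∀ i, g i ∈ coeffSub p d F) ∧ f = ∑ i, g i * e i := by
  classical
  let b := Module.finBasis F K
  let ι := Fin (Module.finrank F K) × (Fin d → Fin p)
  refine ⟨ι, inferInstance, fun x => monomial (Finsupp.equivFunOnFinite.symm fun i => (x.2 i : ℕ)) (b x.1), fun f => ?_⟩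
  let r : (Fin d → Fin p) → (Fin d →₀ ℕ) := fun e => Finsupp.equivFunOnFinite.symm fun i => (e i : ℕ)
  refine ⟨fun x a => if ∀ i, p ∣ a i then ((b.repr (coeff (a + r x.2) f) x.1 : F) : K) else 0,
    fun x a => ?_, MvPowerSeries.ext fun a => ?_⟩
  · show (if ∀ i, p ∣ a i then ((b.repr (coeff (a + r x.2) f) x.1 : F) : K) else 0) ∈ F ∧ _
    refine ⟨?_, fun ⟨i, hi⟩ => if_neg fun h => hi (h i)⟩
    split_ifs
    exacts [SetLike.coe_mem _, zero_mem F]
  · rw [map_sum]
    let r₀ : Fin d → Fin p := fun i => ⟨a i % p, Nat.mod_lt _ hp.out.pos⟩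
    let G : Fin (Module.finrank F K) → (Fin d → Fin p) → MvPowerSeries (Fin d) K := fun l e c =>
      if ∀ i, p ∣ c i then ((b.repr (coeff (c + r e) f) l : F) : K) else 0
    show _ = ∑ x : ι, coeff a (G x.1 x.2 * monomial (r x.2) (b x.1))
    rw [Fintype.sum_prod_type]
    have key : ∀ (l : Fin (Module.finrank F K)) (e : Fin d → Fin p), coeff a (G l e * monomial (r e) (b l)) =
        if e = r₀ then ((b.repr (coeff a f) l : F) : K) * b l else 0 := by
      intro l e
      rw [coeff_mul_monomial]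
      by_cases he : e = r₀
      · subst he
        have hle : r r₀ ≤ a := fun i => Nat.mod_le _ _
        rw [if_pos hle, if_pos rfl]
        congr 1
        show (if ∀ i, p ∣ (a - r r₀) i then _ else _) = _
        rw [if_pos fun i => by
          rw [Finsupp.tsub_apply]
          exact Nat.dvd_sub_mod (a i), tsub_add_cancel_of_le hle]
      · rw [if_neg he]
        split_ifs with hle
        · refine mul_eq_zero_of_left ?_ _
          show (if ∀ i, p ∣ (a - r e) i then _ else _) = _
          refine if_neg fun h => he (funext fun i => Fin.ext ?_)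
          have h1 := h i
          rw [Finsupp.tsub_apply] at h1
          show (e i : ℕ) = a i % p
          obtain ⟨c, hc⟩ := h1
          have h2 : (e i : ℕ) ≤ a i := hle i
          have h3 : (r e) i = (e i : ℕ) := rfl
          rw [h3] at hc
          rw [show a i = (e i : ℕ) + p * c by omega, Nat.add_mul_mod_self_left, Nat.mod_eq_of_lt (e i).2]
        · rfl
    simp only [key, Finset.sum_ite_eq', Finset.mem_univ, if_true]
    conv_lhs => rw [← b.sum_repr (coeff a f)]
    rfl

/-- With `k` finite over its `p`-th powers, `k(K^p)` consists of combinations of `p`-th powers. -/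
theorem exists_rep_Fp [CharP K p] {ι : Type u} [Fintype ι] (c : ι → k)
    (hc : ∀ x : k, ∃ z : ι → k, x = ∑ i, c i * z i ^ p) :
    ∀ y ∈ Fp p k (∅ : Set K), ∃ z : ι → K, y = ∑ i, algebraMap k K (c i) * z i ^ p := by
  classical
  haveI : ExpChar K p := ExpChar.prime hp.out
  intro y hy
  rw [PBasisLib.mem_Fp_iff, Algebra.adjoin_empty] at hy
  obtain ⟨⟨y, hy'⟩, rfl⟩ := hy
  show ∃ z : ι → K, y = _
  have hmul : ∀ (z w : ι → K), ∃ v : ι → K, (∑ i, algebraMap k K (c i) * z i ^ p) *
      (∑ i, algebraMap k K (c i) * w i ^ p) = ∑ i, algebraMap k K (c i) * v i ^ p := by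
    intro z w
    choose s hs using fun ij : ι × ι => hc (c ij.1 * c ij.2)
    refine ⟨fun l => ∑ ij : ι × ι, algebraMap k K (s ij l) * (z ij.1 * w ij.2), ?_⟩
    rw [Finset.sum_mul_sum, ← Finset.sum_product']
    simp only [sum_pow_char, Finset.mul_sum]
    rw [Finset.sum_comm]
    refine Finset.sum_congr rfl fun ij _ => ?_
    have := congrArg (algebraMap k K) (hs ij)
    rw [map_mul, map_sum] at this
    calc algebraMap k K (c ij.1) * z ij.1 ^ p * (algebraMap k K (c ij.2) * w ij.2 ^ p)
        = (algebraMap k K (c ij.1) * algebraMap k K (c ij.2)) * (z ij.1 * w ij.2) ^ p := by ring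
      _ = _ := by
        rw [this, Finset.sum_mul]
        refine Finset.sum_congr rfl fun l _ => ?_
        rw [map_mul, map_pow]
        ring
  induction hy' using Algebra.adjoin_induction with
  | mem x hx =>
    obtain ⟨x, rfl⟩ := hx
    show ∃ w : ι → K, x ^ p = _
    obtain ⟨z, hz⟩ := hc 1
    refine ⟨fun i => algebraMap k K (z i) * x, ?_⟩
    have := congrArg (algebraMap k K) hz
    rw [map_one, map_sum] at this
    rw [← one_mul (x ^ p), this, Finset.sum_mul]
    refine Finset.sum_congr rfl fun l _ => ?_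
    rw [map_mul, map_pow]
    ring
  | algebraMap r =>
    obtain ⟨z, hz⟩ := hc r
    exact ⟨fun i => algebraMap k K (z i), by rw [hz, map_sum]; simp only [map_mul, map_pow]⟩
  | add x y _ _ hx hy =>
    obtain ⟨z, rfl⟩ := hx
    obtain ⟨w, rfl⟩ := hy
    exact ⟨z + w, by rw [← Finset.sum_add_distrib]; simp only [Pi.add_apply, add_pow_char, mul_add]⟩
  | mul x y _ _ hx hy =>
    obtain ⟨z, rfl⟩ := hx
    obtain ⟨w, rfl⟩ := hy
    exact hmul z w

/-- With `k` finite over its `p`-th powers, series with coefficients in `k(K^p)` come from `k` and `p`-th powers. -/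
theorem coeffSub_Fp_le [CharP K p] {ι : Type u} [Fintype ι] (c : ι → k)
    (hc : ∀ x : k, ∃ z : ι → k, x = ∑ i, c i * z i ^ p) :
    coeffSub p d (Fp p k (∅ : Set K)) ≤ Algebra.adjoin k (Set.range fun g : MvPowerSeries (Fin d) K => g ^ p) := by
  classical
  haveI : ExpChar K p := ExpChar.prime hp.out
  have hrep := exists_rep_Fp (K := K) c hc
  intro f hf
  choose z hz using fun a : Fin d →₀ ℕ => hrep _ (hf (p • a)).1
  let H : ι → MvPowerSeries (Fin d) K := fun i a => z a i
  have e : f = ∑ i, algebraMap k (MvPowerSeries (Fin d) K) (c i) * H i ^ p := by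
    refine MvPowerSeries.ext fun a => ?_
    rw [map_sum]
    simp only [MvPowerSeries.algebraMap_apply, coeff_C_mul, ← map_frobenius_expand (p := p) (hp := hp.out.ne_zero),
      coeff_map, frobenius_def]
    by_cases h : ∀ i, p ∣ a i
    · obtain ⟨b, rfl⟩ : ∃ b, a = p • b := ⟨Finsupp.equivFunOnFinite.symm fun i => a i / p, by
        ext i
        simp [Nat.mul_div_cancel' (h i)]⟩
      rw [hz b]
      refine Finset.sum_congr rfl fun i _ => ?_
      rw [coeff_expand_smul]
      rfl
    · push Not at h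
      rw [(hf a).2 h]
      refine (Finset.sum_eq_zero fun i _ => ?_).symm
      obtain ⟨j, hj⟩ := h
      rw [coeff_expand_of_not_dvd p hp.out.ne_zero _ hj, zero_pow hp.out.ne_zero, mul_zero]
  rw [e]
  exact Subalgebra.sum_mem _ fun i _ => mul_mem (Subalgebra.algebraMap_mem _ _) (Algebra.subset_adjoin ⟨H i, rfl⟩)

section Frac

variable (p d) (Q : Type u) [Field Q] [Algebra (MvPowerSeries (Fin d) K) Q] [Algebra k Q]
  [IsScalarTower k (MvPowerSeries (Fin d) K) Q] [IsFractionRing (MvPowerSeries (Fin d) K) Q]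

/-- The subfield generated by `coeffSub`. -/
def fracSub (F : IntermediateField k K) : IntermediateField k Q :=
  IntermediateField.adjoin k ((coeffSub p d F).map (IsScalarTower.toAlgHom k (MvPowerSeries (Fin d) K) Q) : Set Q)

omit hp [IsFractionRing (MvPowerSeries (Fin d) K) Q] in
theorem exists_div {F : IntermediateField k K} {y : Q} (hy : y ∈ fracSub p d Q F) :
    ∃ a ∈ coeffSub p d F, ∃ b ∈ coeffSub p d F, y = algebraMap _ Q a / algebraMap _ Q b := by
  rw [fracSub, IntermediateField.mem_adjoin_iff_div] at hy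
  obtain ⟨r, hr, s, hs, rfl⟩ := hy
  rw [Algebra.adjoin_eq] at hr hs
  obtain ⟨a, ha, rfl⟩ := hr
  obtain ⟨b, hb, rfl⟩ := hs
  exact ⟨a, ha, b, hb, rfl⟩

omit hp [IsFractionRing (MvPowerSeries (Fin d) K) Q] in
theorem fracSub_mono {F G : IntermediateField k K} (h : F ≤ G) : fracSub p d Q F ≤ fracSub p d Q G :=
  IntermediateField.adjoin.mono _ _ _ (Set.image_mono (coeffSub_mono h))

/-- The generated subfields meet in `k(Q^p)`. -/
theorem iInf_fracSub [CharP K p] [CharP Q p] {ι : Type u} [Fintype ι] (c : ι → k)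
    (hc : ∀ x : k, ∃ z : ι → k, x = ∑ i, c i * z i ^ p)
    {κ : Type u} [Nonempty κ] (F : κ → IntermediateField k K) (hF : ∀ i, ∀ z : K, z ^ p ∈ F i)
    (hinf : (⨅ i, F i) ≤ Fp p k (∅ : Set K)) :
    (⨅ i, fracSub p d Q (F i) ⊔ Fp p k (∅ : Set Q)) = Fp p k ∅ := by
  refine le_antisymm (fun y hy => ?_) (le_iInf fun i => le_sup_right)
  rw [PBasisLib.mem_iInf'] at hy
  have hsup : ∀ i, Fp p k (∅ : Set Q) ≤ fracSub p d Q (F i) := fun i => by
    rw [Fp, IntermediateField.adjoin_le_iff]
    rintro _ (⟨x, rfl⟩ | hx)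
    · obtain ⟨a, b, -, rfl⟩ := IsFractionRing.div_surjective (A := MvPowerSeries (Fin d) K) x
      show (_ / _) ^ p ∈ fracSub p d Q (F i)
      rw [div_pow, ← map_pow, ← map_pow]
      exact div_mem (IntermediateField.subset_adjoin _ _ ⟨_, pow_mem_coeffSub (hF i) a, rfl⟩)
        (IntermediateField.subset_adjoin _ _ ⟨_, pow_mem_coeffSub (hF i) b, rfl⟩)
    · exact absurd hx (Set.notMem_empty _)
  obtain ⟨f, g, hg, rfl⟩ := IsFractionRing.div_surjective (A := MvPowerSeries (Fin d) K) y
  have hg0 : algebraMap _ Q g ≠ 0 := IsFractionRing.to_map_ne_zero_of_mem_nonZeroDivisors hg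
  let h := f * g ^ (p - 1)
  have hp1 : p - 1 + 1 = p := Nat.succ_pred_eq_of_pos hp.out.pos
  have hy' : algebraMap _ Q f / algebraMap _ Q g = algebraMap _ Q h / algebraMap _ Q (g ^ p) := by
    rw [div_eq_div_iff hg0 (by rw [map_pow]; exact pow_ne_zero _ hg0), ← map_mul, ← map_mul]
    congr 1
    rw [show h * g = f * g ^ (p - 1 + 1) by rw [pow_succ]; ring, hp1]
  have hmem : ∀ i, h ∈ coeffSub p d (F i) := fun i => by
    have h1 := hy i
    rw [sup_eq_left.2 (hsup i)] at h1
    obtain ⟨a, ha, b, hb, hab⟩ := exists_div p d Q h1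
    rw [hy'] at hab
    haveI : IsDomain (MvPowerSeries (Fin d) K) := NoZeroDivisors.to_isDomain _
    rcases eq_or_ne b 0 with rfl | hb0
    · rw [map_zero, div_zero, div_eq_zero_iff, map_eq_zero_iff _ (IsFractionRing.injective _ Q)] at hab
      rcases hab with h0 | h0
      · rw [h0]; exact zero_mem _
      · exact absurd h0 (by rw [map_pow]; exact pow_ne_zero _ hg0)
    · rw [div_eq_div_iff (by rw [map_pow]; exact pow_ne_zero _ hg0)
        ((map_ne_zero_iff _ (IsFractionRing.injective _ Q)).2 hb0), ← map_mul, ← map_mul] at hab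
      refine mem_of_mul_mem hb hb0 ?_
      rw [IsFractionRing.injective _ Q hab]
      exact mul_mem ha (pow_mem_coeffSub (hF i) g)
  have hh : h ∈ Algebra.adjoin k (Set.range fun x : MvPowerSeries (Fin d) K => x ^ p) :=
    coeffSub_Fp_le c hc fun a => ⟨hinf (PBasisLib.mem_iInf'.2 fun i => (hmem i a).1), (hmem (Classical.arbitrary κ) a).2⟩
  rw [hy']
  refine div_mem ?_ ?_
  · have hle : Algebra.adjoin k (Set.range fun x : MvPowerSeries (Fin d) K => x ^ p) ≤
        (Fp p k (∅ : Set Q)).toSubalgebra.comap (IsScalarTower.toAlgHom k (MvPowerSeries (Fin d) K) Q) := by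
      refine Algebra.adjoin_le ?_
      rintro _ ⟨x, rfl⟩
      show algebraMap _ Q (x ^ p) ∈ Fp p k (∅ : Set Q)
      rw [map_pow]
      exact PBasisLib.pow_mem_Fp p k ∅ _
    exact hle hh
  · rw [map_pow]
    exact PBasisLib.pow_mem_Fp p k ∅ _

end Frac

end Groth.Agent.Jacob4
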