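import Groth.Agent.Jacob4.CoeffFrac

/-!
The field of series with coefficients in `k(K^p)`.
-/

set_option linter.style.haveILetI false

namespace Groth.Agent.Jacob4

open MvPowerSeries Groth.Agent.PBasisLib

universe u

theorem closure_coeff_eq (p : ℕ) [Fact p.Prime] {k₀ K₀ : Type u} [Field k₀] [Field K₀] [Algebra k₀ K₀] [CharP k₀ p]
    (hfin : Module.Finite (Subfield.closure (Set.range fun x : k₀ => x ^ p)) k₀) (r : ℕ) :
    Subfield.closure (algebraMap (MvPowerSeries (Fin r) K₀) (FractionRing (MvPowerSeries (Fin r) K₀)) ''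
        {f | ∀ n, MvPowerSeries.coeff n f ∈
          Subfield.closure (Set.range (algebraMap k₀ K₀) ∪ Set.range fun y : K₀ => y ^ p)}) =
      Subfield.closure
        (Set.range (algebraMap k₀ (FractionRing (MvPowerSeries (Fin r) K₀))) ∪
          (Subfield.closure (algebraMap (MvPowerSeries (Fin r) K₀) (FractionRing (MvPowerSeries (Fin r) K₀)) ''
            {f | ∀ n, MvPowerSeries.coeff n f ∈ Subfield.closure (Set.range fun y : K₀ => y ^ p)}) :
            Set (FractionRing (MvPowerSeries (Fin r) K₀)))) := by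
  classical
  let A := MvPowerSeries (Fin r) K₀
  haveI : CharP K₀ p := charP_of_injective_algebraMap (algebraMap k₀ K₀).injective p
  haveI : ExpChar k₀ p := ExpChar.prime (Fact.out : p.Prime)
  have hle : Subfield.closure (Set.range fun x : k₀ => x ^ p) ≤ (frobenius k₀ p).fieldRange := by
    rw [Subfield.closure_le]
    rintro _ ⟨x, rfl⟩
    exact ⟨x, rfl⟩
  obtain ⟨N, s, hs⟩ := hfin.exists_fin
  have hc : ∀ x : k₀, ∃ z : ULift.{u} (Fin N) → k₀, x = ∑ i, s i.down * z i ^ p := fun x => by
    obtain ⟨w, hw⟩ := (Submodule.mem_span_range_iff_exists_fun _).1 (hs ▸ Submodule.mem_top : x ∈ Submodule.span _ (Set.range s))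
    choose z hz using fun i => hle (w i).2
    refine ⟨fun i => z i.down, ?_⟩
    calc x = ∑ i, z i ^ p * s i := by
          rw [← hw]
          refine Finset.sum_congr rfl fun i _ => ?_
          rw [Subfield.smul_def, smul_eq_mul, ← hz i]
          rfl
      _ = ∑ i, s i * z i ^ p := Finset.sum_congr rfl fun i _ => mul_comm _ _
      _ = _ := (Equiv.sum_comp Equiv.ulift.{u} fun i => s i * z i ^ p).symm
  refine le_antisymm ?_ ?_
  · rw [Subfield.closure_le]
    rintro _ ⟨f, hf, rfl⟩
    have hF : ∀ n, MvPowerSeries.coeff n f ∈ Fp p k₀ (∅ : Set K₀) := fun n => by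
      have hle' : Subfield.closure (Set.range (algebraMap k₀ K₀) ∪ Set.range fun y : K₀ => y ^ p) ≤
          (Fp p k₀ (∅ : Set K₀)).toSubfield := by
        rw [Subfield.closure_le]
        rintro _ (⟨a, rfl⟩ | ⟨y, rfl⟩)
        · exact (Fp p k₀ (∅ : Set K₀)).algebraMap_mem a
        · exact pow_mem_Fp p k₀ ∅ y
      exact hle' (hf n)
    choose z hz using fun n => exists_rep_Fp (K := K₀) (fun i : ULift.{u} (Fin N) => s i.down) hc _ (hF n)
    let G : ULift.{u} (Fin N) → A := fun i n => z n i ^ p
    have e : f = ∑ i, algebraMap k₀ A (s i.down) * G i := MvPowerSeries.ext fun n => by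
      rw [map_sum, hz n]
      refine Finset.sum_congr rfl fun i _ => ?_
      rw [MvPowerSeries.algebraMap_apply, MvPowerSeries.coeff_C_mul]
      rfl
    rw [SetLike.mem_coe, e, map_sum]
    refine sum_mem fun i _ => ?_
    rw [map_mul, ← IsScalarTower.algebraMap_apply]
    exact mul_mem (Subfield.subset_closure (Or.inl ⟨_, rfl⟩)) (Subfield.subset_closure (Or.inr
      (Subfield.subset_closure ⟨G i, fun n => Subfield.subset_closure ⟨z n i, rfl⟩, rfl⟩)))
  · rw [Subfield.closure_le, Set.union_subset_iff]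
    refine ⟨?_, Subfield.closure_mono (Set.image_mono fun f hf n =>
      Subfield.closure_mono Set.subset_union_right (hf n))⟩
    rintro _ ⟨a, rfl⟩
    refine Subfield.subset_closure ⟨algebraMap k₀ A a, fun n => ?_, (IsScalarTower.algebraMap_apply _ _ _ _).symm⟩
    rw [MvPowerSeries.algebraMap_apply, MvPowerSeries.coeff_C]
    split_ifs
    exacts [Subfield.subset_closure (Or.inl ⟨a, rfl⟩), zero_mem _]

end Groth.Agent.Jacob4
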