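import Groth.Agent.PBasisLib.Admissible
import Mathlib.RingTheory.Kaehler.JacobiZariski
import Mathlib.RingTheory.Extension.Cotangent.Basic

/-!
Cofinite subfields of a field extension in characteristic `p`.
-/

set_option linter.style.haveILetI false

universe u

open EGA41 Groth.Agent.PBasisLib

namespace Groth.Agent.Jacob4

theorem finite_imperfection (k Q L : Type u) [Field k] [Field Q] [Field L] [Algebra k Q] [Algebra Q L]
    [Algebra k L] [IsScalarTower k Q L] [Module.Finite Q L] : Module.Finite L (EGA41.imperfection k Q L) := by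
  haveI : Algebra.FinitePresentation Q L := Algebra.FinitePresentation.of_finiteType.1 inferInstance
  have h : EGA41.imperfection k Q L = LinearMap.range (Algebra.H1Cotangent.δ k Q L) :=
    (Algebra.H1Cotangent.exact_δ_mapBaseChange k Q L).linearMap_ker_eq
  rw [h]
  exact Module.Finite.range _

variable (p : ℕ) [hp : Fact p.Prime] (k K : Type u) [Field k] [Field K] [Algebra k K] [CharP K p]

omit [CharP K p] [Algebra k K] in
theorem finite_of_adjoin_eq_top (F L : Type u) [Field F] [Field L] [Algebra F L]
    (hpow : ∀ x : L, ∃ a : F, algebraMap F L a = x ^ p) {S : Set L} (hS : S.Finite)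
    (htop : IntermediateField.adjoin F S = ⊤) : Module.Finite F L := by
  haveI : Finite S := hS.to_subtype
  have hint : ∀ x ∈ S, IsIntegral F x := fun x _ => by
    obtain ⟨a, ha⟩ := hpow x
    refine ⟨Polynomial.X ^ p - Polynomial.C a, Polynomial.monic_X_pow_sub_C _ hp.out.ne_zero, ?_⟩
    rw [Polynomial.eval₂_sub, Polynomial.eval₂_X_pow, Polynomial.eval₂_C, ha, sub_self]
  haveI h : FiniteDimensional F (IntermediateField.adjoin F S) := IntermediateField.finiteDimensional_adjoin hint
  rw [htop] at h
  exact Module.Finite.equiv (IntermediateField.topEquiv (F := F) (E := L)).toLinearEquiv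

theorem finite_over_Fp (T : Set K) {S : Set K} (hS : S.Finite) (hgen : Fp p k (T ∪ S) = ⊤) :
    Module.Finite (Fp p k T) K := by
  refine finite_of_adjoin_eq_top p (↥(Fp p k T)) K (fun x => ⟨⟨x ^ p, pow_mem_Fp p k _ x⟩, rfl⟩) hS ?_
  refine eq_top_iff.2 fun y _ => ?_
  have hy : y ∈ Fp p k (T ∪ S) := hgen ▸ IntermediateField.mem_top
  refine (?_ : Fp p k (T ∪ S) ≤ (IntermediateField.adjoin (Fp p k T) S).restrictScalars k) hy
  rw [Fp, IntermediateField.adjoin_le_iff]
  rintro z (⟨w, rfl⟩ | hz | hz)
  · exact (IntermediateField.adjoin (Fp p k T) S).algebraMap_mem ⟨w ^ p, pow_mem_Fp p k _ w⟩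
  · exact (IntermediateField.adjoin (Fp p k T) S).algebraMap_mem ⟨z, subset_Fp p k _ hz⟩
  · exact IntermediateField.subset_adjoin (Fp p k T) S hz

/-- Cofinite subfields of `K` over `k` with their dual derivations. -/
theorem exists_cofinite_subfields :
    ∃ (I : Type u) (F : Finset I → IntermediateField k K) (d : I → Derivation k K K) (t : I → K),
      Antitone F ∧ (∀ J, ∀ z : K, z ^ p ∈ F J) ∧ (∀ J, Module.Finite (F J) K) ∧
      (⨅ J, F J) ≤ Fp p k (∅ : Set K) ∧ (∀ J, ∀ i ∈ J, ∀ y ∈ F J, d i y = 0) ∧
      (∀ (J : Finset I) (N : Type u) [AddCommGroup N] [Module K N] [Module k N] [IsScalarTower k K N]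
        (D : Derivation k K N), (∀ y ∈ F J, D y = 0) → ∀ y, D y = ∑ i ∈ J, d i y • D (t i)) := by
  classical
  obtain ⟨B, -, -, hB⟩ := exists_isPBasis p k (Set.empty_subset (Set.univ : Set K))
    (fun t ht => absurd ht (Set.notMem_empty t))
    (eq_top_iff.mpr fun y _ => subset_Fp p k _ (Set.mem_univ y))
  obtain ⟨b, hb⟩ := exists_basis_D hB
  let T : Finset B → Set K := fun J => Subtype.val '' {i : B | i ∉ J}
  let F : Finset B → IntermediateField k K := fun J => Fp p k (T J)
  let d : B → Derivation k K K := fun i => (b.coord i).compDer (KaehlerDifferential.D k K)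
  have hd : ∀ (J : Finset B), ∀ i ∈ J, ∀ y ∈ F J, d i y = 0 := by
    intro J i hi y hy
    show b.coord i (KaehlerDifferential.D k K y) = 0
    have h := derivation_mem_span p k (KaehlerDifferential.D k K) hy
    refine (Submodule.span_le (p := LinearMap.ker (b.coord i))).2 ?_ h
    rintro _ ⟨_, ⟨j, hj, rfl⟩, rfl⟩
    show b.coord i (KaehlerDifferential.D k K (j : K)) = 0
    rw [← hb, Module.Basis.coord_apply, b.repr_self, Finsupp.single_eq_of_ne]
    exact fun h => hj (h ▸ hi)
  refine ⟨B, F, d, fun i => (i : K), ?_, fun J z => pow_mem_Fp p k _ z, fun J => ?_, ?_, hd, ?_⟩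
  · intro J J' hJ
    exact Fp_mono p k (Set.image_mono fun i hi h => hi (hJ h))
  · refine finite_over_Fp p k K (T J) ((J.finite_toSet).image Subtype.val) ?_
    rw [← (isPGenerating_iff_Fp p k _).1 hB.2]
    congr 1
    ext z
    constructor
    · rintro (⟨i, -, rfl⟩ | ⟨i, -, rfl⟩) <;> exact ⟨i, rfl⟩
    · rintro ⟨i, rfl⟩
      by_cases hi : i ∈ J
      · exact Or.inr ⟨i, hi, rfl⟩
      · exact Or.inl ⟨i, hi, rfl⟩
  · intro y hy
    rw [mem_iInf'] at hy
    by_contra hy0
    have hfree : Free p k (fun _ : PUnit.{u + 1} => y) := fun a hmem => hy0 (by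
      refine Fp_mono p k ?_ hmem
      rintro _ ⟨b, hb, -⟩
      exact absurd (Subsingleton.elim b a) hb)
    rw [free_iff_linearIndependent_D] at hfree
    refine hfree.ne_zero PUnit.unit (b.repr.injective (Finsupp.ext fun i => ?_))
    rw [map_zero, Finsupp.zero_apply]
    exact hd {i} i (Finset.mem_singleton_self i) y (hy {i})
  · intro J N _ _ _ _ D hD y
    have h1 : D.liftKaehlerDifferential (KaehlerDifferential.D k K y) = D y :=
      D.liftKaehlerDifferential_comp_D y
    rw [← b.linearCombination_repr (KaehlerDifferential.D k K y), Finsupp.linearCombination_apply,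
      Finsupp.sum, map_sum] at h1
    rw [← h1]
    have h2 : ∀ i : B, D.liftKaehlerDifferential (b.repr (KaehlerDifferential.D k K y) i • b i) = d i y • D (i : K) := by
      intro i
      rw [map_smul, hb, Derivation.liftKaehlerDifferential_comp_D]
      rfl
    simp only [h2]
    refine Finset.sum_congr_of_eq_on_inter ?_ ?_ fun _ _ _ => rfl
    · intro i _ hi
      rw [hD _ (subset_Fp p k _ ⟨i, hi, rfl⟩), smul_zero]
    · intro i _ hi
      rw [Finsupp.notMem_support_iff] at hi
      show b.repr (KaehlerDifferential.D k K y) i • D (i : K) = 0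
      rw [hi, zero_smul]

end Groth.Agent.Jacob4
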