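import Groth.Agent.Jacob4.Coeff
import Groth.Agent.Jacob4.Field
import Groth.Agent.PSLib.Regular

/-!
Fraction fields of power series with coefficients in subfields.
-/

set_option linter.style.haveILetI false

namespace Groth.Agent.Jacob4

open MvPowerSeries

universe u

section Base

variable {k : Type u} [Field k] {r : ℕ}

/-- Series with coefficients in a subfield form a subring. -/
def coeffRing (E : Subfield k) : Subring (MvPowerSeries (Fin r) k) where
  carrier := {f | ∀ n, coeff n f ∈ E}
  mul_mem' := fun {f g} hf hg n => by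
    classical
    rw [coeff_mul]
    exact sum_mem fun x _ => mul_mem (hf _) (hg _)
  one_mem' := fun n => by
    classical
    rw [coeff_one]
    split_ifs
    exacts [one_mem E, zero_mem E]
  add_mem' := fun {f g} hf hg n => by rw [map_add]; exact add_mem (hf n) (hg n)
  zero_mem' := fun n => by rw [map_zero]; exact zero_mem E
  neg_mem' := fun {f} hf n => by rw [map_neg]; exact neg_mem (hf n)

/-- Coefficients in a subfield are detected after multiplication by a series over the subfield. -/
theorem mem_coeffRing_of_mul {E : Subfield k} {f b : MvPowerSeries (Fin r) k} (hb : b ∈ coeffRing E) (hb0 : b ≠ 0)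
    (hfb : f * b ∈ coeffRing E) : f ∈ coeffRing E := by
  classical
  obtain ⟨π₀, hπ₀⟩ := (Algebra.linearMap E k).exists_leftInverse_of_injective
    (LinearMap.ker_eq_bot.2 (algebraMap E k).injective)
  have hπE : ∀ c ∈ E, (π₀ c : k) = c := fun c hc =>
    congrArg Subtype.val (LinearMap.congr_fun hπ₀ ⟨c, hc⟩)
  have hπmul : ∀ (z : k) (c : k), c ∈ E → (π₀ (z * c) : k) = π₀ z * c := fun z c hc => by
    have : z * c = (⟨c, hc⟩ : E) • z := mul_comm z c
    rw [this, map_smul]
    exact mul_comm _ _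
  let g : MvPowerSeries (Fin r) k := fun a => (π₀ (coeff a f) : k)
  have hg : g ∈ coeffRing E := fun a => (π₀ (coeff a f)).2
  have e : g * b = f * b := MvPowerSeries.ext fun a => by
    rw [← hπE _ (hfb a), coeff_mul, coeff_mul, map_sum, AddSubmonoidClass.coe_finsetSum]
    exact Finset.sum_congr rfl fun x _ => (hπmul _ _ (hb x.2)).symm
  haveI : IsDomain (MvPowerSeries (Fin r) k) := NoZeroDivisors.to_isDomain _
  exact mul_right_cancel₀ hb0 e ▸ hg

/-- The coefficients of a power of the exponential characteristic are powers. -/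
theorem coeff_pow_expChar_pow (q : ℕ) [ExpChar k q] (e : ℕ) (g : MvPowerSeries (Fin r) k) (n : Fin r →₀ ℕ) :
    ∃ z : k, coeff n (g ^ q ^ e) = z ^ q ^ e := by
  classical
  induction e generalizing g n with
  | zero => exact ⟨coeff n g, by simp⟩
  | succ e ih =>
    rw [show g ^ q ^ (e + 1) = (g ^ q ^ e) ^ q by rw [pow_succ, pow_mul],
      ← map_frobenius_expand (p := q) (hp := expChar_ne_zero k q), coeff_map, frobenius_def]
    by_cases h : ∀ i, q ∣ n i
    · obtain ⟨m, rfl⟩ : ∃ m, n = q • m := ⟨Finsupp.equivFunOnFinite.symm fun i => n i / q, by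
        ext i
        simp [Nat.mul_div_cancel' (h i)]⟩
      obtain ⟨z, hz⟩ := ih g m
      exact ⟨z, by rw [coeff_expand_smul, hz, ← pow_mul, pow_succ]⟩
    · push Not at h
      obtain ⟨i, hi⟩ := h
      refine ⟨0, ?_⟩
      rw [coeff_expand_of_not_dvd q (expChar_ne_zero k q) _ hi, zero_pow (expChar_ne_zero k q),
        zero_pow (pow_ne_zero _ (expChar_ne_zero k q))]

variable (Q : Type u) [Field Q] [Algebra (MvPowerSeries (Fin r) k) Q] [IsFractionRing (MvPowerSeries (Fin r) k) Q]

theorem exists_div_coeffRing {E : Subfield k} {y : Q}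
    (hy : y ∈ Subfield.closure (algebraMap (MvPowerSeries (Fin r) k) Q '' (coeffRing (r := r) E : Set (MvPowerSeries (Fin r) k)))) :
    ∃ a ∈ coeffRing (r := r) E, ∃ b ∈ coeffRing (r := r) E, y = algebraMap _ Q a / algebraMap _ Q b := by
  rw [Subfield.mem_closure_iff] at hy
  obtain ⟨a, ha, b, hb, rfl⟩ := hy
  rw [← RingHom.map_closure, Subring.closure_eq] at ha hb
  obtain ⟨a, ha', rfl⟩ := ha
  obtain ⟨b, hb', rfl⟩ := hb
  exact ⟨a, ha', b, hb', rfl⟩

/-- Intersections commute with passing to the fields of power series, in bounded exponent. -/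
theorem iInf_closure_coeffRing {ι : Type u} [Nonempty ι] (F : ι → Subfield k) (e : ℕ)
    (hq : ∀ x : k, x ^ ringExpChar k ^ e ∈ ⨅ i, F i) :
    (⨅ i, Subfield.closure (algebraMap (MvPowerSeries (Fin r) k) Q '' (coeffRing (r := r) (F i) : Set (MvPowerSeries (Fin r) k)))) =
      Subfield.closure (algebraMap (MvPowerSeries (Fin r) k) Q '' (coeffRing (r := r) (⨅ i, F i) : Set (MvPowerSeries (Fin r) k))) := by
  refine le_antisymm (fun y hy => ?_) (le_iInf fun i => Subfield.closure_mono (Set.image_mono fun f hf n =>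
    (iInf_le F i) (hf n)))
  let q := ringExpChar k ^ e
  obtain ⟨f, g, hg, rfl⟩ := IsFractionRing.div_surjective (A := MvPowerSeries (Fin r) k) y
  have hg0 : algebraMap _ Q g ≠ 0 := IsFractionRing.to_map_ne_zero_of_mem_nonZeroDivisors hg
  have hgq : g ^ q ∈ coeffRing (⨅ i, F i) := fun n => by
    obtain ⟨z, hz⟩ := coeff_pow_expChar_pow (ringExpChar k) e g n
    rw [hz]
    exact hq z
  have hq0 : q - 1 + 1 = q := Nat.succ_pred_eq_of_pos (pow_pos (expChar_pos k (ringExpChar k)) e)
  let h := f * g ^ (q - 1)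
  have hy' : algebraMap _ Q f / algebraMap _ Q g = algebraMap _ Q h / algebraMap _ Q (g ^ q) := by
    rw [div_eq_div_iff hg0 (by rw [map_pow]; exact pow_ne_zero _ hg0), ← map_mul, ← map_mul]
    congr 1
    rw [show h * g = f * g ^ (q - 1 + 1) by rw [pow_succ]; ring, hq0]
  rw [Subfield.mem_iInf] at hy
  have hmem : ∀ i, h ∈ coeffRing (F i) := fun i => by
    obtain ⟨a, ha, b, hb, hab⟩ := exists_div_coeffRing Q (hy i)
    rw [hy'] at hab
    rcases eq_or_ne b 0 with rfl | hb0
    · rw [map_zero, div_zero, div_eq_zero_iff, map_eq_zero_iff _ (IsFractionRing.injective _ Q)] at hab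
      rcases hab with h0 | h0
      · rw [h0]; exact zero_mem _
      · exact absurd h0 (by rw [map_pow]; exact pow_ne_zero _ hg0)
    · rw [div_eq_div_iff (by rw [map_pow]; exact pow_ne_zero _ hg0)
        ((map_ne_zero_iff _ (IsFractionRing.injective _ Q)).2 hb0), ← map_mul, ← map_mul] at hab
      refine mem_coeffRing_of_mul hb hb0 ?_
      rw [IsFractionRing.injective _ Q hab]
      exact mul_mem ha fun n => (iInf_le F i) (hgq n)
  rw [hy']
  refine div_mem (Subfield.subset_closure ⟨h, fun n => ?_, rfl⟩) (Subfield.subset_closure ⟨_, hgq, rfl⟩)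
  exact Subfield.mem_iInf.2 fun i => hmem i n

end Base

section CharP

variable (p : ℕ) [hp : Fact p.Prime] {k₀ k : Type u} [Field k₀] [Field k] [Algebra k₀ k] (r : ℕ)

/-- Series in `p`-th powers over a subfield form a Noetherian ring. -/
theorem isNoetherianRing_coeffSub (F : IntermediateField k₀ k) : IsNoetherianRing (coeffSub p r F).toSubring := by
  haveI := PSLib.isRegularLocalRing (K := F) (n := r)
  let φ : MvPowerSeries (Fin r) F →+* MvPowerSeries (Fin r) k :=
    (expand (σ := Fin r) (R := k) p hp.out.ne_zero).toRingHom.comp (MvPowerSeries.map (algebraMap F k))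
  have hφ : ∀ G a, coeff a (φ G) ∈ F ∧ ((∃ i, ¬ p ∣ a i) → coeff a (φ G) = 0) := fun G a => by
    show coeff a (expand p hp.out.ne_zero (MvPowerSeries.map (algebraMap F k) G)) ∈ F ∧ _
    by_cases h : ∀ i, p ∣ a i
    · obtain ⟨c, rfl⟩ : ∃ c, a = p • c := ⟨Finsupp.equivFunOnFinite.symm fun i => a i / p, by
        ext i
        simp [Nat.mul_div_cancel' (h i)]⟩
      rw [coeff_expand_smul, coeff_map]
      exact ⟨(coeff c G).2, fun ⟨i, hi⟩ => absurd (h i) hi⟩
    · push Not at h
      obtain ⟨i, hi⟩ := h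
      have h0 := coeff_expand_of_not_dvd p hp.out.ne_zero (MvPowerSeries.map (algebraMap F k) G) hi
      exact ⟨by rw [h0]; exact zero_mem F, fun _ => h0⟩
  refine isNoetherianRing_of_surjective _ (coeffSub p r F).toSubring (φ.codRestrict _ hφ) fun z => ?_
  let G : MvPowerSeries (Fin r) F := fun c => ⟨coeff (p • c) (z : MvPowerSeries (Fin r) k), (z.2 _).1⟩
  refine ⟨G, Subtype.ext (MvPowerSeries.ext fun a => ?_)⟩
  show coeff a (expand p hp.out.ne_zero (MvPowerSeries.map (algebraMap F k) G)) = _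
  by_cases h : ∀ i, p ∣ a i
  · obtain ⟨c, rfl⟩ : ∃ c, a = p • c := ⟨Finsupp.equivFunOnFinite.symm fun i => a i / p, by
      ext i
      simp [Nat.mul_div_cancel' (h i)]⟩
    rw [coeff_expand_smul, coeff_map]
    rfl
  · push Not at h
    obtain ⟨i, hi⟩ := h
    rw [coeff_expand_of_not_dvd p hp.out.ne_zero _ hi, (z.2 a).2 ⟨i, hi⟩]

/-- Power series are free of finite type over series in `p`-th powers over a cofinite subfield. -/
theorem free_coeffSub (F : IntermediateField k₀ k) [Module.Finite F k] :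
    Module.Free (coeffSub p r F).toSubring (MvPowerSeries (Fin r) k) ∧
      Module.Finite (coeffSub p r F).toSubring (MvPowerSeries (Fin r) k) := by
  classical
  let S := (coeffSub p r F).toSubring
  let b := Module.finBasis F k
  let ι := Fin (Module.finrank F k) × (Fin r → Fin p)
  let ρ : (Fin r → Fin p) → (Fin r →₀ ℕ) := fun e => Finsupp.equivFunOnFinite.symm fun i => (e i : ℕ)
  let v : ι → MvPowerSeries (Fin r) k := fun x => monomial (ρ x.2) (b x.1)
  have hρ : ∀ e i, ρ e i = (e i : ℕ) := fun _ _ => rfl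
  have key : ∀ (g : S) (c : Fin r →₀ ℕ), (∀ i, p ∣ c i) → ∀ (e₀ : Fin r → Fin p) (x : ι),
      coeff (c + ρ e₀) ((g : MvPowerSeries (Fin r) k) * v x) =
        if x.2 = e₀ then coeff c (g : MvPowerSeries (Fin r) k) * b x.1 else 0 := by
    intro g c hc e₀ x
    rw [coeff_mul_monomial]
    by_cases he : x.2 = e₀
    · rw [he, if_pos le_add_self, if_pos rfl, add_tsub_cancel_right]
    · rw [if_neg he]
      split_ifs with hle
      · refine mul_eq_zero_of_left ((g.2 _).2 ?_) _
        by_contra hall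
        push Not at hall
        refine he (funext fun i => Fin.ext ?_)
        obtain ⟨u, hu⟩ := hc i
        obtain ⟨w, hw⟩ := hall i
        have h2 : (x.2 i : ℕ) ≤ c i + (e₀ i : ℕ) := hle i
        rw [Finsupp.tsub_apply, Finsupp.add_apply, hρ, hρ] at hw
        have h3 : ((x.2 i : ℕ) + p * w) % p = ((e₀ i : ℕ) + p * u) % p := by congr 1; omega
        rwa [Nat.add_mul_mod_self_left, Nat.add_mul_mod_self_left, Nat.mod_eq_of_lt (x.2 i).2,
          Nat.mod_eq_of_lt (e₀ i).2] at h3
      · rfl
  have hdec : ∀ a : Fin r →₀ ℕ, ∃ c e₀, a = c + ρ e₀ ∧ ∀ i, p ∣ c i := fun a => by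
    refine ⟨Finsupp.equivFunOnFinite.symm fun i => a i - a i % p, fun i => ⟨a i % p, Nat.mod_lt _ hp.out.pos⟩, ?_,
      fun i => ?_⟩
    · ext i
      show a i = a i - a i % p + a i % p
      have := Nat.mod_le (a i) p
      omega
    · show p ∣ a i - a i % p
      exact Nat.dvd_sub_mod (a i)
  have hcoeff : ∀ (g : ι → S) (c : Fin r →₀ ℕ), (∀ i, p ∣ c i) → ∀ e₀, coeff (c + ρ e₀) (∑ x, g x • v x) =
      ∑ l, coeff c (g (l, e₀) : MvPowerSeries (Fin r) k) * b l := fun g c hc e₀ => by
    rw [map_sum, Fintype.sum_prod_type]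
    refine Finset.sum_congr rfl fun l _ => ?_
    simp only [Subring.smul_def, smul_eq_mul, key _ c hc e₀]
    rw [Finset.sum_ite_eq' Finset.univ e₀ fun e => coeff c (g (l, e) : MvPowerSeries (Fin r) k) * b l, if_pos (Finset.mem_univ _)]
  have hli : LinearIndependent S v := by
    rw [Fintype.linearIndependent_iff]
    rintro g hg ⟨l, e₀⟩
    refine Subtype.ext (MvPowerSeries.ext fun c => ?_)
    by_cases hc : ∀ i, p ∣ c i
    · have h := hcoeff g c hc e₀
      rw [hg, map_zero] at h
      have h1 := Fintype.linearIndependent_iff.1 b.linearIndependent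
        (fun l => ⟨coeff c (g (l, e₀) : MvPowerSeries (Fin r) k), ((g (l, e₀)).2 c).1⟩) h.symm l
      exact (congrArg Subtype.val h1).trans (map_zero _).symm
    · push Not at hc
      exact (((g (l, e₀)).2 c).2 hc).trans (map_zero _).symm
  have hspan : ⊤ ≤ Submodule.span S (Set.range v) := fun f _ => by
    let g : ι → S := fun x => ⟨fun c => if ∀ i, p ∣ c i then ((b.repr (coeff (c + ρ x.2) f) x.1 : F) : k) else 0,
      fun c => by
        show (if ∀ i, p ∣ c i then ((b.repr (coeff (c + ρ x.2) f) x.1 : F) : k) else 0) ∈ F ∧ _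
        refine ⟨?_, fun ⟨i, hi⟩ => if_neg fun h => hi (h i)⟩
        split_ifs
        exacts [SetLike.coe_mem _, zero_mem F]⟩
    refine (Submodule.mem_span_range_iff_exists_fun S).2 ⟨g, MvPowerSeries.ext fun a => ?_⟩
    obtain ⟨c, e₀, rfl, hc⟩ := hdec a
    rw [hcoeff g c hc e₀]
    conv_rhs => rw [← b.sum_repr (coeff (c + ρ e₀) f)]
    refine Finset.sum_congr rfl fun l _ => ?_
    show (if ∀ i, p ∣ c i then ((b.repr (coeff (c + ρ e₀) f) l : F) : k) else 0) * b l = _
    rw [if_pos hc]
    rfl
  exact ⟨Module.Free.of_basis (Module.Basis.mk hli hspan), Module.Finite.of_basis (Module.Basis.mk hli hspan)⟩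

/-- A filtered family of subrings of finite index cutting out the `p`-th powers. -/
theorem exists_subrings_iInf (k : Type u) [Field k] [CharP k p] :
    ∃ (ι : Type u) (_ : Nonempty ι) (S : ι → Subring (MvPowerSeries (Fin r) k)),
      (∀ a b : ι, ∃ c, S c ≤ S a ⊓ S b) ∧
      (∀ i, IsNoetherianRing (S i) ∧ Module.Free (S i) (MvPowerSeries (Fin r) k) ∧
        Module.Finite (S i) (MvPowerSeries (Fin r) k)) ∧
      ((⨅ i, Subfield.closure (algebraMap (MvPowerSeries (Fin r) k) (FractionRing (MvPowerSeries (Fin r) k)) '' (S i)) :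
          Set (FractionRing (MvPowerSeries (Fin r) k)))) =
        Set.range fun x : FractionRing (MvPowerSeries (Fin r) k) => x ^ p := by
  classical
  let P₀ := ULift.{u} (ZMod p)
  letI : Algebra P₀ k := ((ZMod.castHom dvd_rfl k).comp (ULift.ringEquiv (R := ZMod p)).toRingHom).toAlgebra
  haveI : IsDomain (MvPowerSeries (Fin r) k) := NoZeroDivisors.to_isDomain _
  let A := MvPowerSeries (Fin r) k
  let Q := FractionRing A
  haveI : CharP P₀ p := charP_of_injective_ringHom (f := (ULift.ringEquiv (R := ZMod p)).symm.toRingHom) (ULift.ringEquiv (R := ZMod p)).symm.injective p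
  haveI : CharP Q p := charP_of_injective_algebraMap (algebraMap P₀ Q).injective p
  obtain ⟨I, F, -, -, hanti, hFpow, hFfin, hFinf, -, -⟩ := exists_cofinite_subfields p P₀ k
  have hfix : ∀ x : P₀, x ^ p = x := fun x => ULift.ext _ _ (ZMod.pow_card x.down)
  have hiInf := iInf_fracSub p r Q (fun _ : PUnit.{u + 1} => (1 : P₀))
    (fun x => ⟨fun _ => x, by simp [hfix]⟩) F hFpow hFinf
  refine ⟨Finset I, ⟨∅⟩, fun J => (coeffSub p r (F J)).toSubring, fun a b => ⟨a ∪ b,
    le_inf (coeffSub_mono (hanti Finset.subset_union_left)) (coeffSub_mono (hanti Finset.subset_union_right))⟩,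
    fun J => ⟨isNoetherianRing_coeffSub p r (F J), haveI := hFfin J; free_coeffSub p r (F J)⟩, ?_⟩
  ext y
  simp only [Set.mem_range, Set.iInf_eq_iInter, Set.mem_iInter, SetLike.mem_coe]
  constructor
  · intro hy
    have h1 : y ∈ ⨅ J, fracSub p r Q (F J) ⊔ PBasisLib.Fp p P₀ (∅ : Set Q) := by
      refine PBasisLib.mem_iInf'.2 fun J => (le_sup_left : fracSub p r Q (F J) ≤ _) ?_
      have hle : Subfield.closure (algebraMap A Q '' ((coeffSub p r (F J)).toSubring : Set A)) ≤
          (fracSub p r Q (F J)).toSubfield := by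
        rw [Subfield.closure_le]
        rintro _ ⟨a, ha, rfl⟩
        exact IntermediateField.subset_adjoin _ _ ⟨a, ha, rfl⟩
      exact hle (hy J)
    rw [hiInf] at h1
    let T : IntermediateField P₀ Q := (frobenius Q p).fieldRange.toIntermediateField fun x =>
      ⟨algebraMap P₀ Q x, by rw [frobenius_def, ← map_pow, hfix]⟩
    have hT : PBasisLib.Fp p P₀ (∅ : Set Q) ≤ T := by
      refine IntermediateField.adjoin_le_iff.2 ?_
      rintro _ (⟨x, rfl⟩ | hx)
      · exact ⟨x, rfl⟩
      · exact absurd hx (Set.notMem_empty _)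
    obtain ⟨x, hx⟩ := hT h1
    exact ⟨x, hx⟩
  · rintro ⟨x, rfl⟩ J
    obtain ⟨a, b, -, rfl⟩ := IsFractionRing.div_surjective (A := A) x
    rw [div_pow, ← map_pow, ← map_pow]
    exact div_mem (Subfield.subset_closure ⟨_, pow_mem_coeffSub (hFpow J) a, rfl⟩)
      (Subfield.subset_closure ⟨_, pow_mem_coeffSub (hFpow J) b, rfl⟩)

end CharP

end Groth.Agent.Jacob4
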