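import Groth.Prelude.Def_FSRel
import Mathlib.RingTheory.AdicCompletion.AsTensorProduct
import Mathlib.RingTheory.AdicCompletion.Algebra
import Mathlib.RingTheory.Kaehler.Basic
import Mathlib.Tactic.LinearCombination

/-!
Derivations extend to adic completions of algebras with finite differentials.
-/

set_option linter.style.haveILetI false

namespace Groth.Agent.Jacob4

open TensorProduct

universe u

/-- Derivations are continuous with a shift by one. -/
theorem derivation_mem_pow_smul {R A M : Type*} [CommRing R] [CommRing A] [Algebra R A] [AddCommGroup M] [Module A M]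
    [Module R M] (D : Derivation R A M) (I : Ideal A) :
    ∀ (n : ℕ), ∀ a ∈ I ^ (n + 1), D a ∈ (I ^ n • ⊤ : Submodule A M) := by
  intro n
  induction n with
  | zero => intro a _; simp
  | succ n ih =>
    intro a ha
    rw [pow_succ] at ha
    induction ha using Submodule.mul_induction_on' with
    | mem_mul_mem x hx y hy =>
      rw [D.leibniz]
      refine add_mem (Submodule.smul_mem_smul hx Submodule.mem_top) ?_
      have h := Submodule.smul_mem_smul hy (ih x hx)
      rwa [← Submodule.smul_assoc, smul_eq_mul, ← pow_succ'] at h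
    | add x _ y _ hx hy => rw [map_add]; exact add_mem hx hy

/-- Derivations into modules over the completion extend from the algebra. -/
theorem exists_derivation_cpl {R A : Type u} [CommRing R] [CommRing A] [Algebra R A] [IsNoetherianRing A]
    [Module.Finite A (Ω[A⁄R])] (I : Ideal A) (M : Type u) [AddCommGroup M] [Module A M] [Module R M]
    [IsScalarTower R A M] [Module (AdicCompletion I A) M] [IsScalarTower A (AdicCompletion I A) M]
    (D : Derivation R A M) :
    ∃ δ : AdicCompletion I A →+ M, (∀ x y, δ (x * y) = x • δ y + y • δ x) ∧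
      ∀ a, δ (algebraMap A _ a) = D a := by
  classical
  choose g hg using AdicCompletion.mk_surjective I A
  let d := KaehlerDifferential.D R A
  have hshift : ∀ (h : AdicCompletion.AdicCauchySequence I A) {m n : ℕ}, m ≤ n →
      d (h.val (m + 1)) ≡ d (h.val (n + 1)) [SMOD (I ^ m • ⊤ : Submodule A (Ω[A⁄R]))] := fun h m n hmn => by
    rw [SModEq.sub_mem, ← map_sub]
    refine derivation_mem_pow_smul d I m _ ?_
    have := SModEq.sub_mem.1 (h.property (Nat.succ_le_succ hmn))
    rwa [smul_eq_mul, Ideal.mul_top] at this
  let dh : AdicCompletion I A → AdicCompletion I (Ω[A⁄R]) := fun x =>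
    AdicCompletion.mk I _ ⟨fun n => d ((g x).val (n + 1)), fun hmn => hshift (g x) hmn⟩
  have hev : ∀ (n : ℕ) (x y : AdicCompletion.AdicCauchySequence I A),
      AdicCompletion.mk I A x = AdicCompletion.mk I A y → x.val n - y.val n ∈ I ^ n := fun n x y h => by
    have := congrArg (AdicCompletion.evalₐ I n) h
    rw [AdicCompletion.evalₐ_mk, AdicCompletion.evalₐ_mk, Ideal.Quotient.eq] at this
    exact this
  have key : ∀ (x : AdicCompletion I A) (n : ℕ) (a : A), AdicCompletion.evalₐ I (n + 1) x = Ideal.Quotient.mk _ a →
      (dh x).val n = Submodule.Quotient.mk (d a) := fun x n a ha => by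
    show Submodule.Quotient.mk (d ((g x).val (n + 1))) = _
    rw [Submodule.Quotient.eq, ← map_sub]
    refine derivation_mem_pow_smul d I n _ ?_
    rw [← Ideal.Quotient.eq, ← ha]
    conv_rhs => rw [← hg x]
    exact (AdicCompletion.evalₐ_mk _ _ _).symm
  have hrep : ∀ x n, AdicCompletion.evalₐ I (n + 1) x = Ideal.Quotient.mk _ ((g x).val (n + 1)) := fun x n => by
    conv_lhs => rw [← hg x]
    exact AdicCompletion.evalₐ_mk _ _ _
  let dhh : AdicCompletion I A →+ AdicCompletion I (Ω[A⁄R]) := AddMonoidHom.mk' dh fun x y => by
    ext n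
    rw [AdicCompletion.val_add_apply, key (x + y) n _ (by rw [map_add, hrep x n, hrep y n, ← map_add]), map_add,
      Submodule.Quotient.mk_add, key x n _ (hrep x n), key y n _ (hrep y n)]
  have hmul : ∀ x y, dhh (x * y) = x • dhh y + y • dhh x := fun x y => by
    ext n
    show (dh (x * y)).val n = _
    have hxn : ∀ z : AdicCompletion I A, AdicCompletion.evalₐ I n z = Ideal.Quotient.mk _ ((g z).val (n + 1)) := fun z => by
      have h1 : AdicCompletion.evalₐ I n z = Ideal.Quotient.mk _ ((g z).val n) := by
        conv_lhs => rw [← hg z]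
        exact AdicCompletion.evalₐ_mk _ _ _
      rw [h1, Ideal.Quotient.eq]
      have := SModEq.sub_mem.1 ((g z).property n.le_succ)
      rwa [smul_eq_mul, Ideal.mul_top] at this
    rw [key (x * y) n _ (by rw [map_mul, hrep x n, hrep y n, ← map_mul]), AdicCompletion.val_add_apply,
      AdicCompletion.smul_eval, AdicCompletion.smul_eval, AdicCompletion.val_smul_eq_evalₐ_smul,
      AdicCompletion.val_smul_eq_evalₐ_smul, hxn x, hxn y]
    show _ = Ideal.Quotient.mk _ _ • (dh y).val n + Ideal.Quotient.mk _ _ • (dh x).val n
    rw [key y n _ (hrep y n), key x n _ (hrep x n), d.leibniz, Submodule.Quotient.mk_add]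
    rfl
  let e := AdicCompletion.ofTensorProductEquivOfFiniteNoetherian I (Ω[A⁄R])
  let Φ : AdicCompletion I (Ω[A⁄R]) →ₗ[AdicCompletion I A] M :=
    (D.liftKaehlerDifferential.liftBaseChange (AdicCompletion I A)).comp e.symm.toLinearMap
  refine ⟨Φ.toAddMonoidHom.comp dhh, fun x y => ?_, fun a => ?_⟩
  · show Φ (dhh (x * y)) = x • Φ (dhh y) + y • Φ (dhh x)
    rw [hmul, map_add, map_smul, map_smul]
  · show Φ (dhh (algebraMap A _ a)) = D a
    have h1 : dhh (algebraMap A _ a) = e ((1 : AdicCompletion I A) ⊗ₜ[A] d a) := by
      rw [AdicCompletion.ofTensorProductEquivOfFiniteNoetherian_apply, AdicCompletion.ofTensorProduct_tmul, one_smul]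
      ext n
      show (dh _).val n = _
      rw [key _ n a (AlgHom.commutes _ a)]
      rfl
    show D.liftKaehlerDifferential.liftBaseChange (AdicCompletion I A) (e.symm (dhh (algebraMap A _ a))) = _
    rw [h1, e.symm_apply_apply, LinearMap.liftBaseChange_tmul, one_smul, Derivation.liftKaehlerDifferential_comp_D]

/-- Completions of algebras with finite differentials are formally smooth relative to the base. -/
theorem isFormallySmoothRel_cpl {R A : Type u} [CommRing R] [CommRing A] [Algebra R A] [IsNoetherianRing A]
    [Module.Finite A (Ω[A⁄R])] (I : Ideal A) : EGA41.IsFormallySmoothRel R A (AdicCompletion I A) := by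
  let B := AdicCompletion I A
  intro C _ _ _ _ J hJ u₀ ⟨u, hu⟩
  have hJJ : ∀ a ∈ J, ∀ b ∈ J, a * b = 0 := fun a ha b hb => by
    have := Ideal.mul_mem_mul ha hb
    rwa [← sq, hJ] at this
  have hmk : ∀ x, Ideal.Quotient.mk J (u x) = u₀ x := fun x => AlgHom.congr_fun hu x
  have hda : ∀ a, u (algebraMap A B a) - algebraMap A C a ∈ J := fun a => by
    rw [← Ideal.Quotient.eq, hmk, AlgHom.commutes]
    rfl
  letI : Module B J := Module.compHom J u.toRingHom
  have hsmul : ∀ (x : B) (j : J), ((x • j : J) : C) = u x * j := fun x j => rfl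
  haveI : IsScalarTower A B J := ⟨fun a x j => Subtype.ext (by
    rw [hsmul, Submodule.coe_smul_of_tower, hsmul, Algebra.smul_def, Algebra.smul_def, map_mul, mul_assoc, ← sub_eq_zero, ← sub_mul]
    exact hJJ _ (hda a) _ (J.mul_mem_left _ j.2))⟩
  let D₀ : A →ₗ[R] J :=
    { toFun := fun a => ⟨_, hda a⟩
      map_add' := fun a b => Subtype.ext (by
        show u (algebraMap A B (a + b)) - algebraMap A C (a + b) = _
        simp only [map_add, Submodule.coe_add]
        ring)
      map_smul' := fun r a => Subtype.ext (by
        show u (algebraMap A B (r • a)) - algebraMap A C (r • a) = _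
        rw [RingHom.id_apply, Submodule.coe_smul_of_tower, smul_sub,
          show algebraMap A B (r • a) = r • algebraMap A B a from map_smul (IsScalarTower.toAlgHom R A B) r a, map_smul,
          show algebraMap A C (r • a) = r • algebraMap A C a from map_smul (IsScalarTower.toAlgHom R A C) r a]) }
  let D : Derivation R A J := Derivation.mk' D₀ fun a b => Subtype.ext (by
    show u (algebraMap A B (a * b)) - algebraMap A C (a * b) =
      a • (u (algebraMap A B b) - algebraMap A C b) + b • (u (algebraMap A B a) - algebraMap A C a)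
    rw [Algebra.smul_def, Algebra.smul_def]
    simp only [map_mul]
    linear_combination hJJ _ (hda a) _ (hda b))
  obtain ⟨δ, hδmul, hδA⟩ := exists_derivation_cpl I J D
  have h0 : ∀ x y, (δ x : C) * (δ y : C) = 0 := fun x y => hJJ _ (δ x).2 _ (δ y).2
  let v : B →ₐ[A] C :=
    { toFun := fun x => u x - (δ x : C)
      map_one' := by
        have h1 : δ 1 = 0 := by
          have := hδmul 1 1
          rw [mul_one, one_smul] at this
          exact left_eq_add.1 this
        rw [map_one, h1, Submodule.coe_zero, sub_zero]
      map_mul' := fun x y => by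
        rw [hδmul, Submodule.coe_add, hsmul, hsmul, map_mul]
        linear_combination -(h0 x y)
      map_zero' := by rw [map_zero, map_zero, Submodule.coe_zero, sub_zero]
      map_add' := fun x y => by rw [map_add, map_add, Submodule.coe_add]; ring
      commutes' := fun a => by
        show u (algebraMap A B a) - (δ (algebraMap A B a) : C) = _
        rw [hδA]
        show u (algebraMap A B a) - (u (algebraMap A B a) - algebraMap A C a) = _
        rw [sub_sub_cancel] }
  refine ⟨v, AlgHom.ext fun x => ?_⟩
  show Ideal.Quotient.mk J (u x - (δ x : C)) = u₀ x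
  rw [map_sub, Ideal.Quotient.eq_zero_iff_mem.2 (δ x).2, sub_zero, hmk]

end Groth.Agent.Jacob4
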