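import Groth.Agent.RegFS6.JacobCrit
import Groth.Agent.CplKaehler4.Gen
import Groth.Agent.AdicLib.Basic
import Mathlib.RingTheory.Kaehler.Basic

/-!
Derivations and differentials of complete adically smooth algebras.
-/

set_option linter.style.haveILetI false

namespace Groth.Agent.Jacob4

open IsLocalRing TensorProduct

universe u

theorem fs_pow {R S : Type u} [CommRing R] [CommRing S] [Algebra R S] {J : Ideal S}
    (h : CAlgX.IsAdicFormallySmooth R S J) {n : ℕ} (hn : 0 < n) : CAlgX.IsAdicFormallySmooth R S (J ^ n) := by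
  intro E _ _ I hI ψ ⟨j, hj⟩
  exact h E I hI ψ ⟨n * j, fun x hx => hj x (by rwa [← pow_mul])⟩

/-- Derivations of the base extend to a complete formally smooth algebra. -/
theorem exists_derivation_extend (k K A : Type u) [CommRing k] [CommRing K] [Algebra k K] [CommRing A]
    [Algebra k A] [Algebra K A] [IsScalarTower k K A] (m : Ideal A) [IsAdicComplete m A]
    (hA : CAlgX.IsAdicFormallySmooth K A m) (δ : Derivation k K A) :
    ∃ D : Derivation k A A, ∀ c, D (algebraMap K A c) = δ c := by
  classical
  let Q : ℕ → Type u := fun n => A ⧸ m ^ (n + 1)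
  let mk : ∀ n, A →ₗ[A] (A ⧸ m ^ (n + 1)) := fun n => (m ^ (n + 1)).mkQ
  let δn : ∀ n, Derivation k K (A ⧸ m ^ (n + 1)) := fun n => ((mk n).restrictScalars K).compDer δ
  let pr : ∀ n, (A ⧸ m ^ (n + 2)) →ₗ[A] (A ⧸ m ^ (n + 1)) := fun n =>
    Submodule.factor (Ideal.pow_le_pow_right (Nat.le_succ _))
  have step : ∀ (n : ℕ) (D : Derivation k A (A ⧸ m ^ (n + 1))), (∀ c, D (algebraMap K A c) = δn n c) →
      ∃ D' : Derivation k A (A ⧸ m ^ (n + 2)),
        (∀ b, pr n (D' b) = D b) ∧ ∀ c, D' (algebraMap K A c) = δn (n + 1) c := by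
    intro n D hD
    exact RegFS6.exists_derivation_of_fs (Λ := k) (A := K) (B := A) (m ^ (n + 2)) (fs_pow hA (Nat.succ_pos _))
      (pr n) (fun z => by
        obtain ⟨z, rfl⟩ := Ideal.Quotient.mk_surjective z
        exact ⟨Ideal.Quotient.mk _ z, rfl⟩) D (δn (n + 1)) fun c => (hD c).symm
  obtain ⟨D₀, -, hD₀⟩ := RegFS6.exists_derivation_of_fs (Λ := k) (A := K) (B := A) (M := A ⧸ m ^ 1)
    (N := PUnit.{u + 1}) (m ^ 1) (fs_pow hA one_pos) 0 (fun x => ⟨0, rfl⟩) 0 (δn 0) fun _ => rfl
  choose next hnext using step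
  let S : ∀ n, {D : Derivation k A (A ⧸ m ^ (n + 1)) // ∀ c, D (algebraMap K A c) = δn n c} := fun n =>
    Nat.rec (motive := fun n => {D : Derivation k A (A ⧸ m ^ (n + 1)) // ∀ c, D (algebraMap K A c) = δn n c})
      ⟨D₀, hD₀⟩ (fun j D => ⟨next j D.1 D.2, (hnext j D.1 D.2).2⟩) n
  have hS : ∀ n b, pr n ((S (n + 1)).1 b) = (S n).1 b := fun n b => (hnext n (S n).1 (S n).2).1 b
  choose lift hlift using fun (n : ℕ) (b : A) => Ideal.Quotient.mk_surjective ((S n).1 b)
  have hmem : ∀ (x : A) (n : ℕ), x ∈ m ^ n ↔ x ∈ (m ^ n • ⊤ : Submodule A A) := fun x n => by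
    rw [smul_eq_mul, Ideal.mul_top]
  have hstep : ∀ b n, lift (n + 1) b - lift n b ∈ m ^ (n + 1) := fun b n => by
    rw [← Ideal.Quotient.eq, hlift n b, ← hS n b, ← hlift (n + 1) b]
    rfl
  have hL : ∀ b, ∃ L : A, ∀ n, L - lift n b ∈ m ^ (n + 1) := fun b => by
    obtain ⟨L, hL⟩ := IsPrecomplete.prec (I := m) (M := A) inferInstance (f := fun n => lift n b) fun {i j} hij => by
      rw [SModEq.sub_mem, ← hmem]
      induction j, hij using Nat.le_induction with
      | base => rw [sub_self]; exact zero_mem _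
      | succ j hij ih =>
        have h1 := Ideal.pow_le_pow_right (Nat.le_succ_of_le hij) (hstep b j)
        have e : lift i b - lift (j + 1) b = (lift i b - lift j b) - (lift (j + 1) b - lift j b) := by ring
        rw [e]
        exact sub_mem ih h1
    refine ⟨L, fun n => ?_⟩
    have h1 := hL (n + 1)
    rw [SModEq.sub_mem, ← hmem] at h1
    have e : L - lift n b = (lift (n + 1) b - lift n b) - (lift (n + 1) b - L) := by ring
    rw [e]
    exact sub_mem (hstep b n) h1
  choose L hL using hL
  have hLD : ∀ b n, Ideal.Quotient.mk (m ^ (n + 1)) (L b) = (S n).1 b := fun b n => by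
    rw [← hlift n b, Ideal.Quotient.eq]
    exact hL b n
  have huniq : ∀ x y : A, (∀ n, Ideal.Quotient.mk (m ^ (n + 1)) x = Ideal.Quotient.mk (m ^ (n + 1)) y) → x = y :=
    fun x y h => sub_eq_zero.1 (IsHausdorff.haus (I := m) (M := A) inferInstance _ fun n => by
      rw [SModEq.zero, ← hmem]
      exact Ideal.pow_le_pow_right n.le_succ (Ideal.Quotient.eq.1 (h n)))
  refine ⟨Derivation.mk'
    { toFun := L
      map_add' := fun x y => huniq _ _ fun n => by rw [map_add, hLD, hLD, hLD, map_add]
      map_smul' := fun c x => huniq _ _ fun n => by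
        rw [RingHom.id_apply, hLD, (S n).1.map_smul, ← hLD]
        rfl }
    fun x y => huniq _ _ fun n => by
      show Ideal.Quotient.mk _ (L (x * y)) = Ideal.Quotient.mk _ (x * L y + y * L x)
      rw [hLD, (S n).1.leibniz, map_add, map_mul, map_mul, hLD, hLD]
      rfl, fun c => huniq _ _ fun n => ?_⟩
  show Ideal.Quotient.mk _ (L (algebraMap K A c)) = _
  rw [hLD, (S n).2 c]
  rfl

variable (K A : Type u) [Field K] [CommRing A] [IsLocalRing A] [IsNoetherianRing A] [Algebra K A]
  [IsAdicComplete (maximalIdeal A) A] [Module.Finite K (ResidueField A)]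

/-- The completed differentials of a formally smooth algebra are free. -/
theorem free_completion (hA : CAlgX.IsAdicFormallySmooth K A (maximalIdeal A)) :
    Module.Free A (AdicCompletion (maximalIdeal A) (Ω[A⁄K])) := by
  classical
  let m := maximalIdeal A
  let M := AdicCompletion m (Ω[A⁄K])
  haveI : Module.Finite A M := CplKaehler4.finite_completion K A
  let V := (A ⧸ m) ⊗[A] (Ω[A⁄K])
  letI : Field (A ⧸ m) := Ideal.Quotient.field m
  haveI : Module.Finite A ((Ω[A⁄K]) ⧸ (m • ⊤ : Submodule A (Ω[A⁄K]))) := CplKaehler4.finite_quot K A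
  haveI : Module.Finite (A ⧸ m) V := by
    haveI : Module.Finite A V := Module.Finite.equiv (TensorProduct.quotTensorEquivQuotSMul (Ω[A⁄K]) m).symm
    exact Module.Finite.of_restrictScalars_finite A (A ⧸ m) V
  let r := Module.finrank (A ⧸ m) V
  let bV := Module.finBasis (A ⧸ m) V
  have hsurj : Function.Surjective (TensorProduct.mk A (A ⧸ m) (Ω[A⁄K]) 1) :=
    TensorProduct.mk_surjective A _ _ Ideal.Quotient.mk_surjective
  choose x hx using fun l => hsurj (bV l)
  let v : Fin r → M := fun l => AdicCompletion.of m _ (x l)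
  have hspan : Submodule.span A (Set.range v) = ⊤ := by
    refine CplKaehler4.span_eq_top m x ?_
    rw [eq_top_iff]
    intro y _
    have h1 := bV.sum_repr ((1 : A ⧸ m) ⊗ₜ[A] y)
    choose c hc using fun l => Ideal.Quotient.mk_surjective (bV.repr ((1 : A ⧸ m) ⊗ₜ[A] y) l)
    have h2 : (1 : A ⧸ m) ⊗ₜ[A] (y - ∑ l, c l • x l) = 0 := by
      rw [TensorProduct.tmul_sub, TensorProduct.tmul_sum, sub_eq_zero]
      refine h1.symm.trans (Finset.sum_congr rfl fun l _ => ?_)
      rw [TensorProduct.tmul_smul, ← hc, ← hx, show Ideal.Quotient.mk m (c l) = algebraMap A (A ⧸ m) (c l) from rfl,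
        algebraMap_smul]
      rfl
    have h3 : y - ∑ l, c l • x l ∈ (m • ⊤ : Submodule A (Ω[A⁄K])) := by
      have h4 := congrArg (TensorProduct.quotTensorEquivQuotSMul (Ω[A⁄K]) m) h2
      rw [map_zero] at h4
      have h5 : TensorProduct.quotTensorEquivQuotSMul (Ω[A⁄K]) m ((1 : A ⧸ m) ⊗ₜ[A] (y - ∑ l, c l • x l)) =
          Submodule.Quotient.mk (y - ∑ l, c l • x l) := by
        rw [← (Ideal.Quotient.mk m).map_one, TensorProduct.quotTensorEquivQuotSMul_mk_tmul, one_smul]
      rw [h5] at h4
      exact (Submodule.Quotient.mk_eq_zero _).1 h4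
    exact Submodule.mem_sup.2 ⟨∑ l, c l • x l, Submodule.sum_mem _ fun l _ =>
      Submodule.smul_mem _ _ (Submodule.subset_span ⟨l, rfl⟩), _, h3, by abel⟩
  have hindep : LinearIndependent A v := by
    rw [Fintype.linearIndependent_iff]
    intro c hc l
    refine IsHausdorff.haus (I := m) (M := A) inferInstance (c l) fun n => ?_
    rw [SModEq.zero, smul_eq_mul, Ideal.mul_top]
    refine Ideal.pow_le_pow_right n.le_succ ?_
    let q := m ^ (n + 1)
    let Mn := (A ⧸ q) ⊗[A] (Ω[A⁄K])
    haveI : IsAdicComplete m Mn := by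
      have hzero : ∀ z : Mn, ∀ a ∈ m ^ (n + 1), a • z = 0 := fun z a ha => by
        induction z using TensorProduct.induction_on with
        | zero => rw [smul_zero]
        | add z w hz hw => rw [smul_add, hz, hw, add_zero]
        | tmul e w =>
          rw [TensorProduct.smul_tmul', Algebra.smul_def,
            show algebraMap A (A ⧸ q) a = 0 from Ideal.Quotient.eq_zero_iff_mem.2 ha, zero_mul, TensorProduct.zero_tmul]
      have hbot : (m ^ (n + 1) • ⊤ : Submodule A Mn) = ⊥ :=
        eq_bot_iff.2 (Submodule.smul_le.2 fun a ha z _ => (Submodule.mem_bot _).2 (hzero z a ha))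
      refine { haus' := fun z hz => ?_, prec' := fun f hf => ?_ }
      · have := hz (n + 1)
        rwa [hbot, SModEq.bot] at this
      · refine ⟨f (n + 1), fun j => ?_⟩
        rcases le_total j (n + 1) with hj | hj
        · exact hf hj
        · have := hf hj
          rw [hbot, SModEq.bot] at this
          rw [this]
    let g : M →ₗ[A] Mn := CplKaehler4.lift m (TensorProduct.mk A (A ⧸ q) (Ω[A⁄K]) 1)
    let F : (Fin r → A ⧸ q) →ₗ[A ⧸ q] Mn := Fintype.linearCombination (A ⧸ q) fun l => (1 : A ⧸ q) ⊗ₜ[A] x l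
    have hF0 : F (fun l => Ideal.Quotient.mk q (c l)) = 0 := by
      have h := congrArg g hc
      rw [map_zero, map_sum] at h
      rw [Fintype.linearCombination_apply, ← h]
      refine Finset.sum_congr rfl fun l _ => ?_
      rw [map_smul, CplKaehler4.lift_of, show Ideal.Quotient.mk q (c l) = algebraMap A (A ⧸ q) (c l) from rfl,
        algebraMap_smul]
      rfl
    have hFs : Function.Surjective F := by
      rw [← LinearMap.range_eq_top, eq_top_iff]
      intro z hz
      clear hz
      induction z using TensorProduct.induction_on with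
      | zero => exact zero_mem _
      | add a b ha hb => exact add_mem ha hb
      | tmul e w =>
        have hw : AdicCompletion.of m _ w ∈ Submodule.span A (Set.range v) := hspan ▸ Submodule.mem_top
        obtain ⟨e', he'⟩ := (Submodule.mem_span_range_iff_exists_fun A).1 hw
        have h := congrArg g he'
        rw [map_sum, CplKaehler4.lift_of] at h
        refine ⟨e • fun l => algebraMap A (A ⧸ q) (e' l), ?_⟩
        rw [map_smul, Fintype.linearCombination_apply,
          show e ⊗ₜ[A] w = e • ((1 : A ⧸ q) ⊗ₜ[A] w) by rw [TensorProduct.smul_tmul', smul_eq_mul, mul_one],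
          show ((1 : A ⧸ q) ⊗ₜ[A] w) = TensorProduct.mk A (A ⧸ q) (Ω[A⁄K]) 1 w from rfl, ← h]
        congr 1
        refine Finset.sum_congr rfl fun l _ => ?_
        rw [algebraMap_smul, map_smul, CplKaehler4.lift_of]
        rfl
    haveI : Module.Projective (A ⧸ q) Mn :=
      RegFS6.projective_kaehler_of_fs (A := K) (B := A) q (fs_pow hA (Nat.succ_pos n))
    obtain ⟨s, hs⟩ := Module.projective_lifting_property F LinearMap.id hFs
    let e : (Fin r → A ⧸ q) →ₗ[A ⧸ q] (Fin r → A ⧸ q) := LinearMap.id - s.comp F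
    let mq : Ideal (A ⧸ q) := m.map (Ideal.Quotient.mk q)
    let N := LinearMap.ker F
    have hker : ∀ z ∈ N, ∀ l, z l ∈ mq := by
      intro z hz l
      choose z' hz' using fun l => Ideal.Quotient.mk_surjective (z l)
      let red : Mn →ₗ[A] V := (Submodule.factor (show q ≤ m from Ideal.pow_le_self n.succ_ne_zero)).rTensor (Ω[A⁄K])
      have h := congrArg red (LinearMap.mem_ker.1 hz)
      rw [map_zero, Fintype.linearCombination_apply, map_sum] at h
      have h' : ∑ l, Ideal.Quotient.mk m (z' l) • bV l = 0 := by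
        rw [← h]
        refine Finset.sum_congr rfl fun l _ => ?_
        rw [← hz', show Ideal.Quotient.mk q (z' l) = algebraMap A (A ⧸ q) (z' l) from rfl, algebraMap_smul, map_smul,
          show Ideal.Quotient.mk m (z' l) = algebraMap A (A ⧸ m) (z' l) from rfl, algebraMap_smul, ← hx]
        rfl
      have := Fintype.linearIndependent_iff.1 bV.linearIndependent _ h' l
      rw [← hz']
      exact Ideal.mem_map_of_mem _ (Ideal.Quotient.eq_zero_iff_mem.1 this)
    have hNle : N ≤ mq • N := by
      intro z hz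
      have hez : e z = z := by
        show z - s (F z) = z
        rw [LinearMap.mem_ker.1 hz, map_zero, sub_zero]
      have hz2 : z = ∑ l, z l • e (fun j => if l = j then 1 else 0) := by
        conv_lhs => rw [← hez, pi_eq_sum_univ z, map_sum]
        exact Finset.sum_congr rfl fun l _ => map_smul _ _ _
      rw [hz2]
      refine Submodule.sum_mem _ fun l _ => Submodule.smul_mem_smul (hker z hz l) ?_
      show F (_ - s (F _)) = 0
      rw [map_sub, sub_eq_zero]
      exact (LinearMap.congr_fun hs _).symm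
    have hnil : mq ^ (n + 1) = ⊥ := by rw [← Ideal.map_pow, Ideal.map_quotient_self]
    have hN : N = ⊥ := by
      have h : ∀ j, N ≤ mq ^ j • N := by
        intro j
        induction j with
        | zero => rw [pow_zero, Ideal.one_eq_top, Submodule.top_smul]
        | succ j ih =>
          refine hNle.trans ((Submodule.smul_mono le_rfl ih).trans ?_)
          rw [← Submodule.smul_assoc, pow_succ', smul_eq_mul]
      have := h (n + 1)
      rwa [hnil, Submodule.bot_smul, le_bot_iff] at this
    have h0 : (fun l => Ideal.Quotient.mk q (c l)) ∈ N := LinearMap.mem_ker.2 hF0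
    rw [hN, Submodule.mem_bot] at h0
    have := congrFun h0 l
    exact Ideal.Quotient.eq_zero_iff_mem.1 this
  exact Module.Free.of_basis (Module.Basis.mk hindep hspan.ge)

end Groth.Agent.Jacob4
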