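import Groth.Agent.Jacob4.Coeff
import Groth.Agent.Jacob4.Field
import Groth.Agent.Jacob4.Smooth
import Groth.Agent.CplKaehler4.Finite
import Groth.Agent.CplKaehler4.Rank
import Groth.Agent.CplKaehler4.Domain
import Groth.Agent.CohenLib.Structure
import Groth.Agent.PSLib.Regular

/-!
Derivations of a complete smooth algebra detect independent differentials at a prime.
-/

set_option linter.style.haveILetI false

namespace Groth.Agent.Jacob4

open IsLocalRing TensorProduct EGA41 Groth.Agent.PBasisLib

universe u

/-- A spanning family of `k` over its `p`-th powers. -/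
theorem exists_span_pow (p : ℕ) [Fact p.Prime] (k : Type u) [Field k] [CharP k p] (hk : (frobenius k p).Finite) :
    ∃ (ι : Type u) (_ : Fintype ι) (c : ι → k), ∀ x : k, ∃ z : ι → k, x = ∑ i, c i * z i ^ p := by
  letI : Algebra k k := (frobenius k p).toAlgebra
  letI : Module k k := (frobenius k p).toAlgebra.toModule
  have hfin : Module.Finite k k := hk
  obtain ⟨n, s, hs⟩ := hfin.exists_fin
  refine ⟨ULift.{u} (Fin n), inferInstance, fun i => s i.down, fun x => ?_⟩
  obtain ⟨z, hz⟩ := (Submodule.mem_span_range_iff_exists_fun k).1 (hs ▸ Submodule.mem_top : x ∈ Submodule.span k (Set.range s))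
  refine ⟨fun i => z i.down, ?_⟩
  calc x = ∑ i, z i ^ p * s i := hz.symm
    _ = ∑ i, s i * z i ^ p := Finset.sum_congr rfl fun i _ => mul_comm (z i ^ p) (s i)
    _ = _ := (Equiv.sum_comp Equiv.ulift.{u} fun i => s i * z i ^ p).symm

/-- Derivations whose values at a prime have full rank have an invertible minor. -/
theorem exists_det_notMem {A : Type u} [CommRing A] (P : Ideal A) [P.IsPrime] {ι : Type*} [Fintype ι] {m : ℕ}
    (E : ι → A → A) (f : Fin m → A) (c : Fin m → ι → P.ResidueField)
    (hc : ∀ i j, ∑ s, c j s * algebraMap A P.ResidueField (E s (f i)) = if i = j then 1 else 0) :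
    ∃ σ : Fin m → ι, Matrix.det (Matrix.of fun i j => E (σ i) (f j)) ∉ P := by
  classical
  let L := P.ResidueField
  let v : ι → (Fin m → L) := fun s i => algebraMap A L (E s (f i))
  have hspan : Submodule.span L (Set.range v) = ⊤ := by
    rw [eq_top_iff, ← (Pi.basisFun L (Fin m)).span_eq, Submodule.span_le]
    rintro _ ⟨j, rfl⟩
    refine (Submodule.mem_span_range_iff_exists_fun L).2 ⟨c j, funext fun i => ?_⟩
    rw [Pi.basisFun_apply, Pi.single_apply, Finset.sum_apply]
    exact hc i j
  obtain ⟨κ, σ, hσ, hsp, hli⟩ := exists_linearIndependent' L v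
  haveI : Finite κ := Finite.of_injective σ hσ
  haveI : Fintype κ := Fintype.ofFinite κ
  let b := Module.Basis.mk hli (by rw [hsp, hspan])
  have hcard : Fintype.card κ = m := by
    rw [← Module.finrank_eq_card_basis b, Module.finrank_fin_fun]
  let e := (Fintype.equivFinOfCardEq hcard).symm
  refine ⟨σ ∘ e, fun h => ?_⟩
  rw [← Ideal.algebraMap_residueField_eq_zero, RingHom.map_det] at h
  have hu : IsUnit ((algebraMap A L).mapMatrix (Matrix.of fun i j => E ((σ ∘ e) i) (f j))) := by
    rw [← Matrix.linearIndependent_rows_iff_isUnit]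
    exact hli.comp e e.injective
  exact ((Matrix.isUnit_iff_isUnit_det _).1 hu).ne_zero h

variable (p : ℕ) [hp : Fact p.Prime] (k K A : Type u) [Field k] [Field K] [Algebra k K] [CharP k p]
  [CommRing A] [IsLocalRing A] [IsNoetherianRing A] [Algebra k A] [Algebra K A] [IsScalarTower k K A]
  [IsAdicComplete (maximalIdeal A) A] [Module.Finite K (ResidueField A)]

include p in
/-- Independent differentials at a prime are detected by derivations of the algebra. -/
theorem exists_derivations (hk : (frobenius k p).Finite)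
    (hA : CAlgX.IsAdicFormallySmooth K A (maximalIdeal A)) (P : Ideal A) [P.IsPrime] {m : ℕ} (f : Fin m → A)
    (δ : Fin m → Derivation k A P.ResidueField) (hδ : ∀ i j, δ j (f i) = if i = j then 1 else 0) :
    ∃ D : Fin m → Derivation k A A, Matrix.det (Matrix.of fun i j => D i (f j)) ∉ P := by
  classical
  haveI : CharP K p := charP_of_injective_algebraMap (algebraMap k K).injective p
  obtain ⟨ιc, _, c, hc⟩ := exists_span_pow p k hk
  obtain ⟨I, F, dI, t, hFanti, hFpow, hFfin, hFinf, hdF, hexp⟩ := exists_cofinite_subfields p k K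
  -- Noether normalization of the point
  let B := A ⧸ P
  haveI : IsDomain B := Ideal.Quotient.isDomain P
  haveI : IsLocalRing B := .of_surjective' (Ideal.Quotient.mk P) Ideal.Quotient.mk_surjective
  haveI : IsLocalHom (Ideal.Quotient.mk P) := .of_surjective _ Ideal.Quotient.mk_surjective
  haveI := CplKaehler4.isAdicComplete_quot P
  haveI : Module.Finite K (ResidueField B) := by
    let g : ResidueField A →ₐ[K] ResidueField B :=
      { ResidueField.map (Ideal.Quotient.mk P) with commutes' := fun c => rfl }
    refine Module.Finite.of_surjective g.toLinearMap fun z => ?_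
    obtain ⟨b, rfl⟩ := residue_surjective z
    obtain ⟨x, rfl⟩ := Ideal.Quotient.mk_surjective b
    exact ⟨residue A x, rfl⟩
  obtain ⟨d, y, hy, hd, hrad⟩ := CohenLib.exists_fin_sop B
  obtain ⟨ψ, hψX, hψfin, -⟩ := CplKaehler4.exists_algHom_finite K y hy hrad
  choose x hx using fun i => Ideal.Quotient.mk_surjective (y i)
  have hxm : ∀ i, x i ∈ maximalIdeal A := fun i => by
    rw [← maximalIdeal_comap (Ideal.Quotient.mk P), Ideal.mem_comap, hx]
    exact hy i
  obtain ⟨φ, hφX⟩ := PSLib.exists_algHom (R := K) (maximalIdeal A) x hxm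
  let R := MvPowerSeries (Fin d) K
  haveI : IsDomain R := NoZeroDivisors.to_isDomain _
  have hψφ : ψ = (Ideal.Quotient.mkₐ K P).comp φ := by
    refine PSLib.algHom_ext (I := maximalIdeal B) ψ _ (fun i => by rw [hψX]; exact hy i) fun i => ?_
    rw [hψX, AlgHom.comp_apply, hφX, ← hx]
    rfl
  have hinj0 : Function.Injective ψ.toRingHom :=
    CohenLib.injective_of_finite ψ.toRingHom hψfin hd (PSLib.ringKrullDim_eq K d).le
  letI : Algebra R A := φ.toRingHom.toAlgebra
  haveI : IsScalarTower K R A := IsScalarTower.of_algebraMap_eq fun c => (φ.commutes c).symm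
  haveI : IsScalarTower k R A := IsScalarTower.of_algebraMap_eq fun c => by
    rw [IsScalarTower.algebraMap_apply k K R, ← IsScalarTower.algebraMap_apply K R A, ← IsScalarTower.algebraMap_apply]
  have halgRB : algebraMap R B = ψ.toRingHom := by
    rw [IsScalarTower.algebraMap_eq R A B, hψφ]
    rfl
  haveI : Module.Finite R B := RingHom.finite_algebraMap.1 (halgRB ▸ hψfin)
  let L := P.ResidueField
  have hinjL : Function.Injective (algebraMap R L) := by
    rw [IsScalarTower.algebraMap_eq R B L]
    have h : Function.Injective (algebraMap R B) := by rw [halgRB]; exact hinj0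
    exact (IsFractionRing.injective B L).comp h
  haveI : FaithfulSMul R L := (faithfulSMul_iff_algebraMap_injective _ _).2 hinjL
  let Q := FractionRing R
  letI : Algebra Q L := FractionRing.liftAlgebra R L
  haveI : IsScalarTower k Q L := IsScalarTower.of_algebraMap_eq fun c => by
    rw [IsScalarTower.algebraMap_apply k R Q, ← IsScalarTower.algebraMap_apply R Q L,
      IsScalarTower.algebraMap_apply R A L, ← IsScalarTower.algebraMap_apply k R A,
      ← IsScalarTower.algebraMap_apply]
  haveI : Module.Finite Q L := CplKaehler4.finite_fractionField R B Q L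
  haveI : CharP Q p := charP_of_injective_algebraMap (algebraMap k Q).injective p
  haveI := finite_imperfection k Q L
  -- comparison of differentials
  let Y := L ⊗[A] (Ω[A⁄k])
  let E0 : Ω[R⁄k] →ₗ[R] Y :=
    ((TensorProduct.mk A L (Ω[A⁄k]) 1).restrictScalars R).comp (KaehlerDifferential.map k k R A)
  have hunit : ∀ u : nonZeroDivisors R, IsUnit (algebraMap R (Module.End R Y) u) := fun u => by
    have hu : IsUnit (algebraMap R L (u : R)) :=
      isUnit_iff_ne_zero.2 ((map_ne_zero_iff _ hinjL).2 (nonZeroDivisors.coe_ne_zero u))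
    rw [Module.End.isUnit_iff]
    have h : ∀ y : Y, (u : R) • y = hu.unit • y := fun y => (algebraMap_smul L (u : R) y).symm
    exact ⟨fun a b hab => by
      simp only [Module.algebraMap_end_apply, h] at hab
      exact smul_left_cancel _ hab, fun a => ⟨hu.unit⁻¹ • a, by simp [Module.algebraMap_end_apply, h]⟩⟩
  let αQ : Ω[Q⁄k] →ₗ[Q] Y := LinearMap.extendScalarsOfIsLocalization (nonZeroDivisors R) Q
    (IsLocalizedModule.lift (nonZeroDivisors R) (KaehlerDifferential.map k k R Q) E0 hunit)
  have hαQ : ∀ r : R, αQ (KaehlerDifferential.D k Q (algebraMap R Q r)) =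
      (1 : L) ⊗ₜ[A] KaehlerDifferential.D k A (algebraMap R A r) := fun r => by
    rw [← KaehlerDifferential.map_D k k R Q r]
    show IsLocalizedModule.lift (nonZeroDivisors R) (KaehlerDifferential.map k k R Q) E0 hunit _ = _
    rw [IsLocalizedModule.lift_apply]
    show (1 : L) ⊗ₜ[A] KaehlerDifferential.map k k R A (KaehlerDifferential.D k R r) = _
    rw [KaehlerDifferential.map_D]
  let α : L ⊗[Q] (Ω[Q⁄k]) →ₗ[L] Y := αQ.liftBaseChange L
  let β : Y →ₗ[L] Ω[L⁄k] := KaehlerDifferential.mapBaseChange k A L
  have hβα : ∀ w, β (α w) = KaehlerDifferential.mapBaseChange k Q L w := by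
    intro w
    induction w using TensorProduct.induction_on with
    | zero => rw [map_zero, map_zero, map_zero]
    | add a b ha hb => rw [map_add, map_add, map_add, ha, hb]
    | tmul l ω =>
      rw [LinearMap.liftBaseChange_tmul, map_smul, KaehlerDifferential.mapBaseChange_tmul]
      congr 1
      have hω : ω ∈ Submodule.span Q (Set.range (KaehlerDifferential.D k Q)) := by
        rw [KaehlerDifferential.span_range_derivation]; trivial
      induction hω using Submodule.span_induction with
      | mem z hz =>
        obtain ⟨z, rfl⟩ := hz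
        obtain ⟨a, b, hb, rfl⟩ := IsFractionRing.div_surjective (A := R) z
        have hD : ∀ r : R, β (αQ (KaehlerDifferential.D k Q (algebraMap R Q r))) =
            KaehlerDifferential.map k k Q L (KaehlerDifferential.D k Q (algebraMap R Q r)) := fun r => by
          rw [hαQ, KaehlerDifferential.mapBaseChange_tmul, one_smul, KaehlerDifferential.map_D,
            KaehlerDifferential.map_D, ← IsScalarTower.algebraMap_apply, ← IsScalarTower.algebraMap_apply]
        rw [Derivation.leibniz_div]
        simp only [map_smul, map_sub, LinearMap.map_smul_of_tower, hD]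
      | zero => simp
      | add a b _ _ ha hb => rw [map_add, map_add, map_add, ha, hb]
      | smul q a _ ha => rw [map_smul, LinearMap.map_smul_of_tower, ha, map_smul]
  -- the finite subspace
  let fv : Fin m → Y := fun i => (1 : L) ⊗ₜ[A] KaehlerDifferential.D k A (f i)
  let V : Submodule L Y := Submodule.span L (Set.range fv)
  haveI : FiniteDimensional L V := FiniteDimensional.span_of_finite L (Set.finite_range fv)
  let V' : Submodule L (L ⊗[Q] (Ω[Q⁄k])) := V.comap α
  haveI : Module.Finite L V' := by
    refine Module.Finite.iff_fg.2 (Submodule.fg_of_fg_map_of_fg_inf_ker α ?_ ?_)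
    · exact Module.Finite.iff_fg.1 (Submodule.finiteDimensional_of_le (S₂ := V) (Submodule.map_comap_le α V))
    · have hle : V' ⊓ LinearMap.ker α ≤ EGA41.imperfection k Q L := fun w hw => by
        show KaehlerDifferential.mapBaseChange k Q L w = 0
        rw [← hβα, LinearMap.mem_ker.1 hw.2, map_zero]
      exact Module.Finite.iff_fg.1 (Submodule.finiteDimensional_of_le hle)
  haveI : Nonempty (Finset I) := ⟨∅⟩
  have hinf := iInf_fracSub p d Q c hc F hFpow hFinf
  obtain ⟨J, hJ⟩ := exists_injOn p (fun J : Finset I => fracSub p d Q (F J)) L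
    (fun J J' h => fracSub_mono p d Q (hFanti h)) hinf V'
  let W : Submodule L Y := (LinearMap.ker (toRel (fun J : Finset I => fracSub p d Q (F J)) L J)).map α
  have hVW : Function.Injective (W.mkQ.comp V.subtype) := by
    rw [injective_iff_map_eq_zero]
    rintro ⟨z, hz⟩ h
    rw [LinearMap.comp_apply, Submodule.mkQ_apply, Submodule.Quotient.mk_eq_zero] at h
    obtain ⟨w, hw, rfl⟩ := h
    have : w = 0 := hJ w hz (LinearMap.mem_ker.1 hw)
    exact Subtype.ext (by show α w = 0; rw [this, map_zero])
  obtain ⟨ρ, hρ⟩ := (W.mkQ.comp V.subtype).exists_leftInverse_of_injective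
    (LinearMap.ker_eq_bot'.2 fun z hz => hVW (hz.trans (map_zero _).symm))
  let g : Fin m → (Y →ₗ[L] L) := fun j =>
    (((δ j).liftKaehlerDifferential.liftBaseChange L).comp V.subtype).comp (ρ.comp W.mkQ)
  let δ' : Fin m → Derivation k A L := fun j =>
    (((g j).restrictScalars A).comp (TensorProduct.mk A L (Ω[A⁄k]) 1)).compDer (KaehlerDifferential.D k A)
  have hδ' : ∀ i j, δ' j (f i) = if i = j then 1 else 0 := fun i j => by
    show (δ j).liftKaehlerDifferential.liftBaseChange L (V.subtype (ρ (W.mkQ (fv i)))) = _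
    have h1 : ρ (W.mkQ (fv i)) = ⟨fv i, Submodule.subset_span ⟨i, rfl⟩⟩ :=
      LinearMap.congr_fun hρ ⟨fv i, Submodule.subset_span ⟨i, rfl⟩⟩
    rw [h1]
    show (δ j).liftKaehlerDifferential.liftBaseChange L ((1 : L) ⊗ₜ[A] KaehlerDifferential.D k A (f i)) = _
    rw [LinearMap.liftBaseChange_tmul, one_smul, Derivation.liftKaehlerDifferential_comp_D, hδ]
  have hkill : ∀ j, ∀ s ∈ coeffSub p d (F J), δ' j (algebraMap R A s) = 0 := fun j s hs => by
    let w : L ⊗[Q] (Ω[Q⁄k]) := (1 : L) ⊗ₜ[Q] KaehlerDifferential.D k Q (algebraMap R Q s)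
    have hw : toRel (fun J : Finset I => fracSub p d Q (F J)) L J w = 0 :=
      toRel_eq_zero_of_mem _ L J (Submodule.subset_span
        ⟨⟨algebraMap R Q s, IntermediateField.subset_adjoin _ _ ⟨s, hs, rfl⟩⟩, rfl⟩)
    have hαw : α w = (1 : L) ⊗ₜ[A] KaehlerDifferential.D k A (algebraMap R A s) := by
      rw [LinearMap.liftBaseChange_tmul, one_smul, hαQ]
    show (δ j).liftKaehlerDifferential.liftBaseChange L
      (V.subtype (ρ (W.mkQ ((1 : L) ⊗ₜ[A] KaehlerDifferential.D k A (algebraMap R A s))))) = 0
    rw [← hαw, Submodule.mkQ_apply, (Submodule.Quotient.mk_eq_zero W).2 ⟨w, LinearMap.mem_ker.2 hw, rfl⟩, map_zero,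
      map_zero, map_zero]
  -- extensions of the field derivations and coordinates
  choose dA hdA using fun i : I => exists_derivation_extend k K A (maximalIdeal A) hA
    ((Algebra.linearMap K A).compDer (dI i))
  haveI := free_completion K A hA
  haveI := CplKaehler4.finite_completion K A
  let bΩ := Module.Free.chooseBasis A (AdicCompletion (maximalIdeal A) (Ω[A⁄K]))
  let dC : Module.Free.ChooseBasisIndex A (AdicCompletion (maximalIdeal A) (Ω[A⁄K])) → Derivation k A A :=
    fun l => (((bΩ.coord l).comp (AdicCompletion.of (maximalIdeal A) (Ω[A⁄K]))).compDer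
      (KaehlerDifferential.D K A)).restrictScalars k
  let E : J ⊕ Module.Free.ChooseBasisIndex A (AdicCompletion (maximalIdeal A) (Ω[A⁄K])) → Derivation k A A :=
    Sum.elim (fun i => dA i) dC
  have hfac : ∀ j, ∃ e : J ⊕ Module.Free.ChooseBasisIndex A (AdicCompletion (maximalIdeal A) (Ω[A⁄K])) → L,
      ∀ a, δ' j a = ∑ s, e s * algebraMap A L (E s a) := by
    intro j
    let D := δ' j
    -- the values lie in a finite submodule
    haveI := hFfin J
    obtain ⟨ιe, _, e, he⟩ := exists_span (p := p) (k := k) (K := K) (d := d) (F := F J)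
    obtain ⟨nb, b₀, hb₀⟩ := Module.Finite.exists_fin (R := R) (M := B)
    choose b hb using fun s => Ideal.Quotient.mk_surjective (b₀ s)
    obtain ⟨np, π, hπ⟩ := Submodule.fg_iff_exists_fin_generating_family.1 (IsNoetherian.noetherian P)
    let Ys : Fin nb ⊕ Fin nb × Fin np → A := Sum.elim b fun su => b su.1 * π su.2
    let N : Submodule A L := Submodule.span A (Set.range fun tw : ιe × (Fin nb ⊕ Fin nb × Fin np) =>
      D (algebraMap R A (e tw.1) * Ys tw.2))
    have hDY : ∀ (r : R) w, D (algebraMap R A r * Ys w) ∈ N := fun r w => by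
      obtain ⟨σ, hσ, hr⟩ := he r
      rw [hr, map_sum, Finset.sum_mul, map_sum]
      refine Submodule.sum_mem _ fun t _ => ?_
      rw [RingHom.map_mul, mul_assoc, D.leibniz, hkill j _ (hσ t), smul_zero, add_zero]
      exact Submodule.smul_mem _ _ (Submodule.subset_span ⟨(t, w), rfl⟩)
    have hDP2 : ∀ z ∈ P * P, D z = 0 := fun z hz => by
      induction hz using Submodule.mul_induction_on' with
      | mem_mul_mem u hu v hv =>
        rw [D.leibniz, Algebra.smul_def, Algebra.smul_def, Ideal.algebraMap_residueField_eq_zero.2 hu,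
          Ideal.algebraMap_residueField_eq_zero.2 hv, zero_mul, zero_mul, add_zero]
      | add u _ v _ hu hv => rw [map_add, hu, hv, add_zero]
    have hdec : ∀ a : A, ∃ r : Fin nb → R, a - ∑ s, algebraMap R A (r s) * b s ∈ P := fun a => by
      obtain ⟨r, hr⟩ := (Submodule.mem_span_range_iff_exists_fun R).1
        (hb₀ ▸ Submodule.mem_top : Ideal.Quotient.mk P a ∈ Submodule.span R (Set.range b₀))
      refine ⟨r, Ideal.Quotient.eq_zero_iff_mem.1 ?_⟩
      rw [map_sub, map_sum, sub_eq_zero, ← hr]
      refine Finset.sum_congr rfl fun s _ => ?_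
      rw [Algebra.smul_def, IsScalarTower.algebraMap_apply R A B, map_mul, hb]
      rfl
    have hN : ∀ a, D a ∈ N := fun a => by
      obtain ⟨r, hr⟩ := hdec a
      obtain ⟨w, hw⟩ := (Submodule.mem_span_range_iff_exists_fun A).1
        (hπ.symm ▸ hr : a - ∑ s, algebraMap R A (r s) * b s ∈ Submodule.span A (Set.range π))
      choose r' hr' using fun u => hdec (w u)
      have e : a = (∑ s, algebraMap R A (r s) * Ys (Sum.inl s)) +
          (∑ u, ∑ s, algebraMap R A (r' u s) * Ys (Sum.inr (s, u))) +
          ∑ u, (w u - ∑ s, algebraMap R A (r' u s) * b s) * π u := by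
        simp only [sub_mul, Finset.sum_sub_distrib, Finset.sum_mul]
        have h1 : ∀ u s, algebraMap R A (r' u s) * Ys (Sum.inr (s, u)) = algebraMap R A (r' u s) * b s * π u :=
          fun u s => (mul_assoc _ _ _).symm
        have h2 : ∀ s, Ys (Sum.inl s) = b s := fun _ => rfl
        simp only [smul_eq_mul] at hw
        simp only [h1, h2]
        linear_combination -hw
      rw [e, map_add, map_add, map_sum, map_sum, map_sum]
      refine add_mem (add_mem (Submodule.sum_mem _ fun s _ => hDY _ _) (Submodule.sum_mem _ fun u _ => ?_)) ?_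
      · rw [map_sum]
        exact Submodule.sum_mem _ fun s _ => hDY _ _
      · refine Submodule.sum_mem _ fun u _ => ?_
        rw [hDP2 _ (Ideal.mul_mem_mul (hr' u) (hπ ▸ Submodule.subset_span ⟨u, rfl⟩))]
        exact zero_mem _
    haveI : Module.Finite A N := Module.Finite.iff_fg.2 (Submodule.fg_span (Set.finite_range _))
    let D₀ : Derivation k A N := Derivation.mk'
      { toFun := fun a => ⟨D a, hN a⟩
        map_add' := fun a b => Subtype.ext (D.map_add a b)
        map_smul' := fun c a => Subtype.ext (D.map_smul c a) }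
      fun a b => Subtype.ext (D.leibniz a b)
    let DK : Derivation k K N := D₀.compAlgebraMap K
    have hDKF : ∀ y ∈ F J, DK y = 0 := fun y hy => Subtype.ext (by
      show D (algebraMap K A y) = 0
      rw [IsScalarTower.algebraMap_apply K R A, MvPowerSeries.algebraMap_apply, Algebra.algebraMap_self, RingHom.id_apply]
      refine hkill j _ fun a => ?_
      rw [MvPowerSeries.coeff_C]
      refine ⟨?_, fun ⟨i, hi⟩ => if_neg fun h => hi (by rw [h]; exact dvd_zero p)⟩
      split_ifs
      exacts [hy, zero_mem _])
    let D₁ : Derivation k A N := D₀ - ∑ i : J, (LinearMap.toSpanSingleton A N (DK (t i))).compDer (dA i)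
    have hsum : ∀ (φi : J → Derivation k A N) (a : A), (∑ i : J, φi i) a = ∑ i : J, φi i a := fun φi a => by
      have : ∀ s : Finset J, (∑ i ∈ s, φi i) a = ∑ i ∈ s, φi i a := fun s => by
        induction s using Finset.induction_on with
        | empty => simp
        | insert i s hi ih => rw [Finset.sum_insert hi, Finset.sum_insert hi, Derivation.add_apply, ih]
      exact this _
    have hD₁ : ∀ a, D₁ a = D₀ a - ∑ i : J, dA i a • DK (t i) := fun a => by
      rw [Derivation.sub_apply, hsum]
      rfl
    have hD₁K : ∀ c : K, D₁ (algebraMap K A c) = 0 := fun c => by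
      rw [hD₁, sub_eq_zero]
      show DK c = _
      rw [hexp J N DK hDKF c, ← Finset.sum_coe_sort J]
      exact Finset.sum_congr rfl fun i _ => by rw [hdA]; exact (algebraMap_smul A _ _).symm
    let D₂ : Derivation K A N := Derivation.mk'
      { toFun := D₁
        map_add' := fun a b => map_add D₁ a b
        map_smul' := fun c a => by
          rw [RingHom.id_apply, Algebra.smul_def, D₁.leibniz, hD₁K, smul_zero, add_zero, algebraMap_smul] }
      fun a b => D₁.leibniz a b
    obtain ⟨Φ, hΦ⟩ := CplKaehler4.exists_lift K A D₂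
    refine ⟨Sum.elim (fun i => ((DK (t i) : N) : L)) fun l => ((Φ (bΩ l) : N) : L), fun a => ?_⟩
    have h1 : D₁ a = ∑ l, dC l a • Φ (bΩ l) := by
      refine (hΦ a).symm.trans ?_
      conv_lhs => rw [← bΩ.sum_repr (AdicCompletion.of (maximalIdeal A) _ (KaehlerDifferential.D K A a))]
      rw [map_sum]
      exact Finset.sum_congr rfl fun l _ => map_smul _ _ _
    have h2 := congrArg Subtype.val ((sub_eq_iff_eq_add.1 ((hD₁ a).symm.trans h1)))
    rw [show δ' j a = ((D₀ a : N) : L) from rfl, h2, Submodule.coe_add, AddSubmonoidClass.coe_finsetSum,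
      AddSubmonoidClass.coe_finsetSum, Fintype.sum_sum_type, add_comm]
    congr 1 <;> refine Finset.sum_congr rfl fun s _ => ?_ <;>
      exact (Algebra.smul_def _ _).trans (mul_comm _ _)
  choose e he using hfac
  obtain ⟨σ, hσ⟩ := exists_det_notMem P (fun s => ⇑(E s)) f e fun i j => (he j (f i)).symm.trans (hδ' i j)
  exact ⟨fun i => E (σ i), hσ⟩

end Groth.Agent.Jacob4
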