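import Groth.Agent.Jacob4.Twist
import Mathlib.RingTheory.Kaehler.Basic

/-!
Residue fields of smooth Noetherian local algebras and their imperfection modules.
-/

set_option linter.style.haveILetI false

namespace Groth.Agent.Jacob4

open IsLocalRing TensorProduct

universe u

attribute [local instance 10000] Ring.toIntAlgebra

/-- The residue field of a smooth Noetherian local algebra has finite imperfection module. -/
theorem finite_imperfection_of_fs {k K A : Type u} [Field k] [Field K] [Algebra k K] [CommRing A] [IsLocalRing A]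
    [IsNoetherianRing A] [Algebra k A] [Algebra A K] [IsScalarTower k A K]
    (hs : Function.Surjective (algebraMap A K)) (hfs : CAlgX.IsAdicFormallySmooth k A (maximalIdeal A)) :
    Module.Finite K (EGA41.imperfection ℤ k K) := by
  have hm : ∀ x ∈ maximalIdeal A, algebraMap A K x = 0 := fun x hx => by
    have hk : (RingHom.ker (algebraMap A K)).IsMaximal := RingHom.ker_isMaximal_of_surjective _ hs
    rw [← RingHom.mem_ker, eq_maximalIdeal hk]
    exact hx
  let φ : K ⊗[k] (Ω[k⁄ℤ]) →ₗ[K] K ⊗[A] (Ω[A⁄ℤ]) :=
    (((TensorProduct.mk A K (Ω[A⁄ℤ]) 1).restrictScalars k).comp (KaehlerDifferential.map ℤ ℤ k A)).liftBaseChange K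
  have hφt : ∀ c, φ ((1 : K) ⊗ₜ KaehlerDifferential.D ℤ k c) =
      (1 : K) ⊗ₜ KaehlerDifferential.D ℤ A (algebraMap k A c) := fun c => by simp [φ]
  have hspan : ∀ {N : Type u} [AddCommGroup N] [Module K N] (g h : K ⊗[k] (Ω[k⁄ℤ]) →ₗ[K] N),
      (∀ c, g ((1 : K) ⊗ₜ KaehlerDifferential.D ℤ k c) = h ((1 : K) ⊗ₜ KaehlerDifferential.D ℤ k c)) → g = h := by
    intro N _ _ g h hgh
    refine LinearMap.ext fun z => ?_
    induction z using TensorProduct.induction_on with
    | zero => simp
    | add a b ha hb => rw [map_add, map_add, ha, hb]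
    | tmul r ω =>
      rw [show r ⊗ₜ[k] ω = r • ((1 : K) ⊗ₜ[k] ω) by rw [smul_tmul', smul_eq_mul, mul_one], map_smul, map_smul]
      congr 1
      have hω : ω ∈ Submodule.span k (Set.range (KaehlerDifferential.D ℤ k)) :=
        (KaehlerDifferential.span_range_derivation ℤ k).symm ▸ Submodule.mem_top
      induction hω using Submodule.span_induction with
      | mem w hw => obtain ⟨c, rfl⟩ := hw; exact hgh c
      | zero => simp
      | add v w _ _ hv hw => simp only [tmul_add, map_add, hv, hw]
      | smul c w _ hw => rw [tmul_smul, ← algebraMap_smul K c, map_smul, map_smul, hw]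
  have hφ : Function.Injective φ := by
    rw [injective_iff_map_eq_zero]
    intro z hz
    by_contra hz0
    obtain ⟨l, hl⟩ := Module.Projective.exists_dual_ne_zero K hz0
    let δ : Derivation ℤ k K :=
      ((l.restrictScalars k).comp (TensorProduct.mk k K (Ω[k⁄ℤ]) 1)).compDer (KaehlerDifferential.D ℤ k)
    obtain ⟨D, hD⟩ := RegFS6.exists_derivation_of_injective (F := K) (RegFS6.injective_lTensor_of_fs hfs) hm δ
    have h : (D.liftKaehlerDifferential.liftBaseChange K).comp φ = l := hspan _ _ fun c => by
      rw [LinearMap.comp_apply, hφt]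
      simp [hD, δ]
    exact hl (by rw [← h, LinearMap.comp_apply, hz, map_zero])
  have hβ : ∀ z, KaehlerDifferential.mapBaseChange ℤ A K (φ z) = KaehlerDifferential.mapBaseChange ℤ k K z := by
    intro z
    have h : (KaehlerDifferential.mapBaseChange ℤ A K).comp φ = KaehlerDifferential.mapBaseChange ℤ k K :=
      hspan _ _ fun c => by
        rw [LinearMap.comp_apply, hφt]
        simp [← IsScalarTower.algebraMap_apply]
    exact LinearMap.congr_fun h z
  let W := LinearMap.ker (KaehlerDifferential.mapBaseChange ℤ A K)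
  have hW : Module.Finite A (W.restrictScalars A) := by
    rw [← KaehlerDifferential.range_kerCotangentToTensor ℤ A K hs]
    haveI : Module.Finite A (RingHom.ker (algebraMap A K)).Cotangent :=
      Module.Finite.of_surjective (RingHom.ker (algebraMap A K)).toCotangent (Ideal.toCotangent_surjective _)
    exact Module.Finite.range _
  haveI : Module.Finite A W := hW
  haveI : Module.Finite K W := Module.Finite.of_restrictScalars_finite A K W
  let ψ : EGA41.imperfection ℤ k K →ₗ[K] W :=
    (φ.comp (EGA41.imperfection ℤ k K).subtype).codRestrict W fun z => by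
      rw [LinearMap.mem_ker, LinearMap.comp_apply, hβ]
      exact z.2
  haveI : IsNoetherian K W := isNoetherian_of_isNoetherianRing_of_finite K W
  exact Module.Finite.of_injective ψ fun a b h => Subtype.ext (hφ (congrArg Subtype.val h))

/-- Existence of smooth local algebras with prescribed residue field. -/
theorem exists_fs_iff_finite_imperfection {k K : Type u} [Field k] [Field K] [Algebra k K] :
    ((∃ (A : Type u) (_ : CommRing A) (_ : IsLocalRing A) (_ : IsNoetherianRing A) (_ : Algebra k A),
        CAlgX.IsAdicFormallySmooth k A (maximalIdeal A) ∧ Nonempty (ResidueField A ≃ₐ[k] K)) ↔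
      Module.Finite K (EGA41.imperfection ℤ k K)) ∧
    (Module.Finite K (EGA41.imperfection ℤ k K) → ∀ n : ℕ, Module.finrank K (EGA41.imperfection ℤ k K) ≤ n →
      ∃ (A : Type u) (_ : CommRing A) (_ : IsLocalRing A) (_ : IsNoetherianRing A) (_ : Algebra k A),
        IsAdicComplete (maximalIdeal A) A ∧ CAlgX.IsAdicFormallySmooth k A (maximalIdeal A) ∧
        Nonempty (ResidueField A ≃ₐ[k] K) ∧ ringKrullDim A = n) := by
  have main : Module.Finite K (EGA41.imperfection ℤ k K) → ∀ n : ℕ,
      Module.finrank K (EGA41.imperfection ℤ k K) ≤ n →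
      ∃ (A : Type u) (_ : CommRing A) (_ : IsLocalRing A) (_ : IsNoetherianRing A) (_ : Algebra k A),
        IsAdicComplete (maximalIdeal A) A ∧ CAlgX.IsAdicFormallySmooth k A (maximalIdeal A) ∧
        Nonempty (ResidueField A ≃ₐ[k] K) ∧ ringKrullDim A = n := by
    intro hfin n hn
    rcases CharP.exists' k with h | ⟨p, hp, hk⟩
    · let P := ULift.{u} ℚ
      letI : Algebra P k := ((Rat.castHom k).comp (ULift.ringEquiv (R := ℚ)).toRingHom).toAlgebra
      haveI : CharZero P := charZero_of_injective_ringHom (f := (ULift.ringEquiv (R := ℚ)).symm.toRingHom)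
        (ULift.ringEquiv (R := ℚ)).symm.injective
      refine exists_fs_of_finite_imperfection P (fun x => ?_) n hn
      show KaehlerDifferential.D ℤ k (Rat.cast x.down) = 0
      have h1 : KaehlerDifferential.D ℤ k (((x.down.den : ℕ) : k) * Rat.cast x.down) = 0 := by
        rw [Rat.cast_def, mul_div_cancel₀ _ (Nat.cast_ne_zero.2 x.down.den_nz)]
        exact Derivation.map_intCast _ _
      rw [Derivation.leibniz, Derivation.map_natCast, smul_zero, add_zero] at h1
      exact (smul_eq_zero.1 h1).resolve_left (Nat.cast_ne_zero.2 x.down.den_nz)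
    · haveI := hp
      let P := ULift.{u} (ZMod p)
      haveI : Finite P := Finite.of_equiv _ Equiv.ulift.symm
      haveI : PerfectField P := PerfectField.ofFinite
      letI : Algebra P k := ((ZMod.castHom dvd_rfl k).comp (ULift.ringEquiv (R := ZMod p)).toRingHom).toAlgebra
      refine exists_fs_of_finite_imperfection P (fun x => ?_) n hn
      have hx : x ^ p = x := ULift.ext _ _ (ZMod.pow_card x.down)
      rw [← hx, map_pow, Derivation.leibniz_pow, ← Nat.cast_smul_eq_nsmul k, CharP.cast_eq_zero, zero_smul]
  refine ⟨⟨?_, fun hfin => ?_⟩, main⟩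
  · rintro ⟨A, _, _, _, _, hfs, ⟨e⟩⟩
    letI : Algebra A K := (e.toRingHom.comp (residue A)).toAlgebra
    haveI : IsScalarTower k A K := IsScalarTower.of_algebraMap_eq fun c => by
      show _ = e (residue A (algebraMap k A c))
      exact (e.commutes c).symm
    exact finite_imperfection_of_fs (A := A) (fun y => by
      obtain ⟨a, ha⟩ := residue_surjective (e.symm y)
      refine ⟨a, ?_⟩
      show e (residue A a) = y
      rw [ha, e.apply_symm_apply]) hfs
  · obtain ⟨A, i1, i2, i3, i4, -, h2, h3, -⟩ := main hfin _ le_rfl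
    exact ⟨A, i1, i2, i3, i4, h2, h3⟩

end Groth.Agent.Jacob4
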