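import Groth.Agent.Jacob4.Detect
import Groth.Agent.RegFS6.SmoothAt
import Groth.Agent.AdicFS4.Rel
import Groth.Agent.S4574
import Groth.Agent.S2451

/-!
The Jacobian criterion at a prime of a complete smooth algebra.
-/

set_option linter.style.haveILetI false

namespace Groth.Agent.Jacob4

open IsLocalRing TensorProduct

universe u

theorem fs_atPrime {k K A : Type u} [Field k] [Field K] [Algebra k K] [Algebra.IsGeometricallyReduced k K]
    [CommRing A] [IsLocalRing A] [IsNoetherianRing A] [Algebra k A] [Algebra K A] [IsScalarTower k K A]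
    (hA : CAlgX.IsAdicFormallySmooth K A (maximalIdeal A)) (P : Ideal A) [P.IsPrime] :
    CAlgX.IsAdicFormallySmooth k (Localization.AtPrime P) (maximalIdeal (Localization.AtPrime P)) := by
  haveI : Algebra.FormallySmooth k K := S2451.result.2 inferInstance
  exact S4574.result (AdicFS4.isAdicFormallySmooth_comp hA) P

variable {k A : Type u} [CommRing k] [CommRing A] [Algebra k A] (q P : Ideal A) [P.IsPrime]
  [(P.map (Ideal.Quotient.mk q)).IsPrime]

local notation "BP" => Localization.AtPrime (P.map (Ideal.Quotient.mk q))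

theorem comap_map_mk (hq : q ≤ P) : P = (P.map (Ideal.Quotient.mk q)).comap (Ideal.Quotient.mk q) := by
  rw [Ideal.comap_map_of_surjective _ Ideal.Quotient.mk_surjective, ← RingHom.ker_eq_comap_bot, Ideal.mk_ker,
    sup_eq_left.2 hq]

/-- The projection of the local rings, with its kernel. -/
theorem exists_proj (hq : q ≤ P) :
    ∃ π : Localization.AtPrime P →ₐ[k] BP, Function.Surjective π ∧
      (∀ a, π (algebraMap A _ a) = algebraMap (A ⧸ q) BP (Ideal.Quotient.mk q a)) ∧
      RingHom.ker π = q.map (algebraMap A (Localization.AtPrime P)) := by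
  let π₀ := Localization.localRingHom P (P.map (Ideal.Quotient.mk q)) (Ideal.Quotient.mk q) (comap_map_mk q P hq)
  have hπ : ∀ a, π₀ (algebraMap A _ a) = algebraMap (A ⧸ q) BP (Ideal.Quotient.mk q a) :=
    fun a => Localization.localRingHom_to_map _ _ _ _ a
  let π : Localization.AtPrime P →ₐ[k] BP :=
    { π₀ with
      commutes' := fun c => by
        show π₀ (algebraMap k _ c) = _
        rw [IsScalarTower.algebraMap_apply k A (Localization.AtPrime P), hπ,
          IsScalarTower.algebraMap_apply k (A ⧸ q) BP]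
        rfl }
  refine ⟨π, fun z => ?_, hπ, le_antisymm (fun z hz => ?_) (Ideal.map_le_iff_le_comap.2 fun x hx => ?_)⟩
  · obtain ⟨⟨x, s⟩, rfl⟩ := IsLocalization.mk'_surjective (P.map (Ideal.Quotient.mk q)).primeCompl z
    obtain ⟨x, rfl⟩ := Ideal.Quotient.mk_surjective x
    obtain ⟨t, ht⟩ := Ideal.Quotient.mk_surjective (s : A ⧸ q)
    have htp : t ∈ P.primeCompl := fun h => s.2 (ht ▸ Ideal.mem_map_of_mem _ h)
    refine ⟨IsLocalization.mk' _ x ⟨t, htp⟩, ?_⟩
    show π₀ (IsLocalization.mk' _ x ⟨t, htp⟩) = _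
    rw [Localization.localRingHom_mk']
    congr 1
    exact Subtype.ext ht
  · obtain ⟨⟨x, s⟩, rfl⟩ := IsLocalization.mk'_surjective P.primeCompl z
    have hz' : π₀ (IsLocalization.mk' _ x s) = 0 := hz
    rw [Localization.localRingHom_mk', IsLocalization.mk'_eq_zero_iff] at hz'
    obtain ⟨⟨c, hc⟩, hcx⟩ := hz'
    obtain ⟨c, rfl⟩ := Ideal.Quotient.mk_surjective c
    rw [← map_mul, Ideal.Quotient.eq_zero_iff_mem] at hcx
    rw [IsLocalization.mk'_mem_iff, IsLocalization.algebraMap_mem_map_algebraMap_iff P.primeCompl]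
    exact ⟨c, fun h => hc (Ideal.mem_map_of_mem _ h), hcx⟩
  · rw [Ideal.mem_comap, RingHom.mem_ker]
    show π₀ (algebraMap A _ x) = 0
    rw [hπ, Ideal.Quotient.eq_zero_iff_mem.2 hx, map_zero]

/-- The sufficiency in the Jacobian criterion. -/
theorem fs_of_det (hq : q ≤ P)
    (hP : CAlgX.IsAdicFormallySmooth k (Localization.AtPrime P) (maximalIdeal (Localization.AtPrime P)))
    {ι : Type*} [Fintype ι] [DecidableEq ι] (D : ι → Derivation k A A) (f : ι → A) (hf : ∀ i, f i ∈ q)
    (hgen : q.map (algebraMap A (Localization.AtPrime P)) =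
      Ideal.span (Set.range fun i => algebraMap A (Localization.AtPrime P) (f i)))
    (hdet : Matrix.det (Matrix.of fun i j => D i (f j)) ∉ P) :
    CAlgX.IsAdicFormallySmooth k BP (maximalIdeal BP) := by
  obtain ⟨π, hπs, hπ, hker⟩ := exists_proj (k := k) q P hq
  let AP := Localization.AtPrime P
  haveI : IsLocalHom π.toRingHom := IsLocalHom.of_surjective π.toRingHom hπs
  intro E _ _ J hJ ψ ⟨N, hN⟩
  obtain ⟨χ, hχ⟩ := hP E J hJ (ψ.comp π) ⟨N, fun x hx => hN _ (by
    have := Ideal.mem_map_of_mem π.toRingHom hx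
    rw [Ideal.map_pow, map_maximalIdeal_of_surjective π.toRingHom hπs] at this
    exact this)⟩
  have hχmk : ∀ x, Ideal.Quotient.mk J (χ x) = ψ (π x) := fun x => AlgHom.congr_fun hχ x
  let φ : A →ₐ[k] E := χ.comp (IsScalarTower.toAlgHom k A AP)
  have hφ : ∀ a, φ a = χ (algebraMap A AP a) := fun _ => rfl
  have hφu : ∀ a ∉ P, IsUnit (φ a) := fun a ha =>
    ((IsLocalization.map_units AP (⟨a, ha⟩ : P.primeCompl))).map χ
  have hφf : ∀ j, φ (f j) ∈ J := fun j => by
    rw [← Ideal.Quotient.eq_zero_iff_mem, hφ, hχmk, hπ, Ideal.Quotient.eq_zero_iff_mem.2 (hf j), map_zero, map_zero]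
  let M : Matrix ι ι E := Matrix.of fun j i => φ (D i (f j))
  have hM : IsUnit M.det := by
    have : M.det = φ (Matrix.det (Matrix.of fun i j => D i (f j))) := by
      rw [AlgHom.map_det, ← Matrix.det_transpose]
      rfl
    rw [this]
    exact hφu _ hdet
  let c : ι → E := M⁻¹.mulVec fun j => φ (f j)
  have hcJ : ∀ i, c i ∈ J := fun i => Ideal.sum_mem _ fun j _ => Ideal.mul_mem_left _ _ (hφf j)
  have hsol : M.mulVec c = fun j => φ (f j) := by
    rw [Matrix.mulVec_mulVec, Matrix.mul_nonsing_inv _ hM, Matrix.one_mulVec]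
  let T : A → E := fun x => ∑ i, φ (D i x) * c i
  have hTJ : ∀ x, T x ∈ J := fun x => Ideal.sum_mem _ fun i _ => Ideal.mul_mem_left _ _ (hcJ i)
  have h0 : ∀ x y, T x * T y = 0 := fun x y => by
    have := Ideal.mul_mem_mul (hTJ x) (hTJ y)
    rwa [← sq, hJ, Ideal.mem_bot] at this
  have hTmul : ∀ x y, T (x * y) = φ x * T y + φ y * T x := fun x y => by
    simp only [T, Derivation.leibniz, smul_eq_mul, map_add, map_mul, Finset.mul_sum, ← Finset.sum_add_distrib]
    exact Finset.sum_congr rfl fun j _ => by ring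
  let φ' : A →+* E :=
    { toFun := fun x => φ x - T x
      map_one' := by simp [T]
      map_zero' := by simp [T]
      map_add' := fun x y => by simp only [T, map_add, add_mul, Finset.sum_add_distrib]; ring
      map_mul' := fun x y => by
        rw [map_mul, hTmul]
        linear_combination -(h0 x y) }
  have hmk : ∀ x, Ideal.Quotient.mk J (φ' x) = Ideal.Quotient.mk J (φ x) := fun x => by
    show Ideal.Quotient.mk J (φ x - T x) = _
    rw [map_sub, Ideal.Quotient.eq_zero_iff_mem.2 (hTJ x), sub_zero]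
  have hu : ∀ s : P.primeCompl, IsUnit (φ' s) := fun s => by
    obtain ⟨v, hv⟩ := (hφu s s.2).exists_right_inv
    have hn : IsNilpotent (φ' s * v - 1) := ⟨2, by
      have h1 : φ' s * v - 1 ∈ J := by
        rw [← Ideal.Quotient.eq_zero_iff_mem, map_sub, map_mul, hmk, ← map_mul, ← map_sub, hv, sub_self, map_zero]
      have := Ideal.pow_mem_pow h1 2
      rwa [hJ, Ideal.mem_bot] at this⟩
    have := hn.isUnit_add_one
    rw [sub_add_cancel] at this
    exact isUnit_of_mul_isUnit_left this
  let G : AP →+* E := IsLocalization.lift hu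
  have hG0 : ∀ z ∈ RingHom.ker π, G z = 0 := by
    rw [hker, hgen]
    intro z hz
    refine RingHom.mem_ker.1 ((Ideal.span_le.2 ?_) hz)
    rintro _ ⟨j, rfl⟩
    show G (algebraMap A AP (f j)) = 0
    rw [IsLocalization.lift_eq]
    show φ (f j) - T (f j) = 0
    rw [sub_eq_zero, ← congrFun hsol j]
    rfl
  let Gk : AP →ₐ[k] E :=
    { G with
      commutes' := fun r => by
        show G (algebraMap k AP r) = _
        rw [IsScalarTower.algebraMap_apply k A AP, IsLocalization.lift_eq]
        show φ (algebraMap k A r) - T (algebraMap k A r) = _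
        simp [T] }
  refine ⟨AlgHom.liftOfSurjective π hπs Gk hG0, AlgHom.ext fun b => ?_⟩
  obtain ⟨z, rfl⟩ := hπs b
  show Ideal.Quotient.mk J (AlgHom.liftOfSurjective π hπs Gk hG0 (π z)) = ψ (π z)
  rw [AlgHom.liftOfSurjective_apply, ← hχmk]
  have : (Ideal.Quotient.mk J).comp G = (Ideal.Quotient.mk J).comp χ.toRingHom :=
    IsLocalization.ringHom_ext P.primeCompl (RingHom.ext fun a => by
      show Ideal.Quotient.mk J (G (algebraMap A AP a)) = Ideal.Quotient.mk J (χ (algebraMap A AP a))
      rw [IsLocalization.lift_eq, hmk]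
      rfl)
  exact RingHom.congr_fun this z

/-- Minimal generators at the prime with dual derivations into the residue field. -/
theorem exists_dual (hq : q ≤ P) [IsNoetherianRing A]
    (hfs : CAlgX.IsAdicFormallySmooth k BP (maximalIdeal BP)) :
    ∃ (m : ℕ) (f : Fin m → A) (δ : Fin m → Derivation k A P.ResidueField), (∀ i, f i ∈ q) ∧
      q.map (algebraMap A (Localization.AtPrime P)) =
        Ideal.span (Set.range fun i => algebraMap A (Localization.AtPrime P) (f i)) ∧
      ∀ i j, δ j (f i) = if i = j then 1 else 0 := by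
  classical
  obtain ⟨π, hπs, -, hker⟩ := exists_proj (k := k) q P hq
  let AP := Localization.AtPrime P
  haveI : IsNoetherianRing AP := IsLocalization.isNoetherianRing P.primeCompl _ inferInstance
  obtain ⟨G, hG⟩ := (IsNoetherian.noetherian q : q.FG)
  let IR := RingHom.ker π
  let m := maximalIdeal AP
  let W := IR ⧸ (m • ⊤ : Submodule AP IR)
  letI : Field (AP ⧸ m) := Ideal.Quotient.field m
  haveI : IsScalarTower AP (AP ⧸ m) W := IsScalarTower.of_algebraMap_smul fun r w => by
    obtain ⟨x, rfl⟩ := Submodule.Quotient.mk_surjective _ w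
    rfl
  have hGI : ∀ a : G, (a : A) ∈ q := fun a => hG.le (Submodule.subset_span a.2)
  let gen : G → IR := fun a => ⟨algebraMap A AP (a : A), hker.ge (Ideal.mem_map_of_mem _ (hGI a))⟩
  have hgen : Submodule.span AP (Set.range gen) = ⊤ := by
    refine Submodule.map_injective_of_injective IR.injective_subtype ?_
    rw [Submodule.map_top, Submodule.range_subtype, Submodule.map_span, ← Set.range_comp]
    show Ideal.span (Set.range fun a : G => algebraMap A AP (a : A)) = RingHom.ker π
    rw [hker, ← hG, Ideal.map_span]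
    congr 1
    ext z
    exact ⟨fun ⟨a, ha⟩ => ⟨a, a.2, ha⟩, fun ⟨a, ha, h⟩ => ⟨⟨a, ha⟩, h⟩⟩
  let w : G → W := fun a => Submodule.Quotient.mk (gen a)
  obtain ⟨ι, a, ha, hspan, hli⟩ := exists_linearIndependent' (AP ⧸ m) w
  haveI : Finite ι := Finite.of_injective a ha
  haveI : Fintype ι := Fintype.ofFinite ι
  let e : Fin (Fintype.card ι) ≃ ι := (Fintype.equivFin ι).symm
  have htop : Submodule.span (AP ⧸ m) (Set.range w) = ⊤ := by
    rw [eq_top_iff]
    intro z hz
    clear hz
    obtain ⟨x, rfl⟩ := Submodule.Quotient.mk_surjective _ z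
    have hx : x ∈ Submodule.span AP (Set.range gen) := hgen ▸ trivial
    induction hx using Submodule.span_induction with
    | mem y hy =>
      obtain ⟨b, rfl⟩ := hy
      exact Submodule.subset_span ⟨b, rfl⟩
    | zero => exact zero_mem _
    | add y y' _ _ hy hy' => exact add_mem hy hy'
    | smul r y _ hy =>
      rw [Submodule.Quotient.mk_smul, ← algebraMap_smul (AP ⧸ m) r]
      exact Submodule.smul_mem _ _ hy
  let b := Module.Basis.mk hli (by rw [hspan, htop])
  have hnak : Submodule.span AP (Set.range fun i => gen (a i)) = ⊤ := by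
    refine top_le_iff.mp (Submodule.le_of_le_smul_of_le_jacobson_bot (IsNoetherian.noetherian _)
      (IsLocalRing.maximalIdeal_le_jacobson _) fun x _ => ?_)
    have hx : (Submodule.Quotient.mk x : W) ∈ Submodule.span AP (Set.range (w ∘ a)) := by
      rw [← Submodule.restrictScalars_span AP (AP ⧸ m) Ideal.Quotient.mk_surjective, Submodule.restrictScalars_mem, hspan, htop]
      trivial
    have h1 : x ∈ Submodule.comap (Submodule.mkQ (m • ⊤ : Submodule AP IR))
        (Submodule.map (Submodule.mkQ (m • ⊤ : Submodule AP IR)) (Submodule.span AP (Set.range fun i => gen (a i)))) := by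
      rw [Submodule.mem_comap, Submodule.map_span, ← Set.range_comp]
      exact hx
    rwa [Submodule.comap_map_eq, Submodule.ker_mkQ] at h1
  have hl : ∀ j, ∃ D : Derivation k AP (ResidueField AP), ∀ x : IR, D x = b.coord j (Submodule.Quotient.mk x) := fun j =>
    RegFS6.exists_derivation_functional π hπs hfs
      (((b.coord j).restrictScalars AP).comp (Submodule.mkQ (m • ⊤ : Submodule AP IR)))
  choose D hD using hl
  refine ⟨Fintype.card ι, fun i => ((a (e i) : G) : A), fun j => (D (e j)).compAlgebraMap A, fun i => hGI _, ?_,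
    fun i j => ?_⟩
  · rw [← hker]
    have h1 := congrArg (Submodule.map IR.subtype) hnak
    rw [Submodule.map_top, Submodule.range_subtype, Submodule.map_span, ← Set.range_comp] at h1
    refine h1.symm.trans ?_
    show Ideal.span _ = Ideal.span _
    congr 1
    exact (e.surjective.range_comp (fun i => algebraMap A AP ((a i : G) : A))).symm
  · show D (e j) (algebraMap A AP ((a (e i) : G) : A)) = _
    refine (hD (e j) (gen (a (e i)))).trans ?_
    show b.coord (e j) (w (a (e i))) = _
    rw [← show b (e i) = w (a (e i)) from Module.Basis.mk_apply hli _ _, Module.Basis.coord_apply, b.repr_self,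
      Finsupp.single_apply]
    simp only [e.injective.eq_iff]
    split_ifs <;> rfl

/-- The locus of the Jacobian condition is open. -/
theorem exists_open_det [IsNoetherianRing A] {m : ℕ} (D : Fin m → Derivation k A A) (f : Fin m → A)
    (hf : ∀ i, f i ∈ q) (hgen : q.map (algebraMap A (Localization.AtPrime P)) =
      Ideal.span (Set.range fun i => algebraMap A (Localization.AtPrime P) (f i)))
    (hdet : Matrix.det (Matrix.of fun i j => D i (f j)) ∉ P) :
    ∃ g : A, g ∉ P ∧ ∀ (P' : Ideal A) [P'.IsPrime], g ∉ P' →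
      q.map (algebraMap A (Localization.AtPrime P')) =
          Ideal.span (Set.range fun i => algebraMap A (Localization.AtPrime P') (f i)) ∧
        Matrix.det (Matrix.of fun i j => D i (f j)) ∉ P' := by
  classical
  obtain ⟨G, hG⟩ := (IsNoetherian.noetherian q : q.FG)
  have hloc : ∀ c : G, ∃ s : A, s ∉ P ∧ s * (c : A) ∈ Ideal.span (Set.range f) := fun c => by
    have h1 : algebraMap A (Localization.AtPrime P) (c : A) ∈
        (Ideal.span (Set.range f)).map (algebraMap A (Localization.AtPrime P)) := by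
      rw [Ideal.map_span, ← Set.range_comp, Function.comp_def, ← hgen]
      exact Ideal.mem_map_of_mem _ (hG.le (Submodule.subset_span c.2))
    obtain ⟨s, hs, hs'⟩ := (IsLocalization.algebraMap_mem_map_algebraMap_iff P.primeCompl _ _ _).mp h1
    exact ⟨s, hs, hs'⟩
  choose s hs hs' using hloc
  refine ⟨(∏ c : G, s c) * Matrix.det (Matrix.of fun i j => D i (f j)), fun h => ?_, fun P' _ hP' => ⟨?_, fun h =>
    hP' (Ideal.mul_mem_left _ _ h)⟩⟩
  · rcases Ideal.IsPrime.mem_or_mem ‹_› h with h | h
    · obtain ⟨c, -, hc⟩ := Ideal.IsPrime.prod_mem_iff.1 h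
      exact hs c hc
    · exact hdet h
  · refine le_antisymm ?_ (Ideal.span_le.2 ?_)
    · rw [← hG, show Submodule.span A (G : Set A) = Ideal.span (G : Set A) from rfl, Ideal.map_span, Ideal.span_le]
      rintro _ ⟨c, hc, rfl⟩
      have hu : s ⟨c, hc⟩ ∉ P' := fun h => hP' (Ideal.mul_mem_right _ _
        (Ideal.IsPrime.prod_mem_iff.2 ⟨⟨c, hc⟩, Finset.mem_univ _, h⟩))
      have h1 := Ideal.mem_map_of_mem (algebraMap A (Localization.AtPrime P')) (hs' ⟨c, hc⟩)
      rw [Ideal.map_span, ← Set.range_comp, map_mul] at h1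
      exact ((Ideal.unit_mul_mem_iff_mem _ (IsLocalization.map_units _ (⟨_, hu⟩ : P'.primeCompl))).1 h1)
    · rintro _ ⟨i, rfl⟩
      exact Ideal.mem_map_of_mem _ (hf i)

end Groth.Agent.Jacob4
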