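import Groth.Agent.Jacob4.Zero
import Groth.Agent.Jacob4.Jacobian

/-!
Nagata's Jacobian criterion.
-/

set_option linter.style.haveILetI false

namespace Groth.Agent.Jacob4

open IsLocalRing TensorProduct

universe u

/-- Finiteness over the subfield of `p`-th powers is finiteness of the Frobenius map. -/
theorem frobenius_finite (p : ℕ) {k : Type u} [Field k] [ExpChar k p]
    (h : Module.Finite (frobenius k p).fieldRange k) : (frobenius k p).Finite := by
  have hs : Function.Surjective (frobenius k p).rangeRestrictField := fun ⟨_, x, hx⟩ => ⟨x, Subtype.ext hx⟩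
  have h' : (frobenius k p).fieldRange.subtype.Finite := RingHom.finite_algebraMap.2 h
  exact h'.comp (RingHom.Finite.of_surjective _ hs)

variable (p : ℕ) {k K A : Type u} [Field k] [ExpChar k p] (hk : p = 1 ∨ Module.Finite (frobenius k p).fieldRange k)
  [Field K] [Algebra k K] [CommRing A] [IsLocalRing A] [IsNoetherianRing A] [IsAdicComplete (maximalIdeal A) A]
  [Algebra k A] [Algebra K A] [IsScalarTower k K A] [Module.Finite K (ResidueField A)]
  (hA : CAlgX.IsAdicFormallySmooth K A (maximalIdeal A)) (q P : Ideal A) [P.IsPrime] (hq : q ≤ P)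
  [(P.map (Ideal.Quotient.mk q)).IsPrime]

include hk hA hq in
/-- The necessity in the Jacobian criterion. -/
theorem exists_det_of_fs (hfs : CAlgX.IsAdicFormallySmooth k (Localization.AtPrime (P.map (Ideal.Quotient.mk q)))
      (maximalIdeal (Localization.AtPrime (P.map (Ideal.Quotient.mk q))))) :
    ∃ (m : ℕ) (D : Fin m → Derivation k A A) (f : Fin m → A), (∀ i, f i ∈ q) ∧
      q.map (algebraMap A (Localization.AtPrime P)) =
        Ideal.span (Set.range fun i => algebraMap A (Localization.AtPrime P) (f i)) ∧
      Matrix.det (Matrix.of fun i j => D i (f j)) ∉ P := by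
  obtain ⟨m, f, δ, hf, hgen, hδ⟩ := exists_dual q P hq hfs
  obtain ⟨D, hD⟩ : ∃ D : Fin m → Derivation k A A, Matrix.det (Matrix.of fun i j => D i (f j)) ∉ P := by
    rcases ‹ExpChar k p› with _ | hp
    · haveI : CharZero K := charZero_of_injective_algebraMap (algebraMap k K).injective
      exact exists_derivations_zero k K A hA P f (fun i => hq (hf i)) δ hδ
    · haveI : Fact p.Prime := ⟨hp⟩
      have hk' := hk.resolve_left hp.one_lt.ne'
      exact exists_derivations p k K A (frobenius_finite p hk') hA P f δ hδ
  exact ⟨m, D, f, hf, hgen, hD⟩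

include hk hA hq in
/-- Nagata's Jacobian criterion. -/
theorem fs_iff_exists_det [Algebra.IsGeometricallyReduced k K] :
    CAlgX.IsAdicFormallySmooth k (Localization.AtPrime (P.map (Ideal.Quotient.mk q)))
        (maximalIdeal (Localization.AtPrime (P.map (Ideal.Quotient.mk q)))) ↔
      ∃ (m : ℕ) (D : Fin m → Derivation k A A) (f : Fin m → A), (∀ i, f i ∈ q) ∧
        q.map (algebraMap A (Localization.AtPrime P)) =
          Ideal.span (Set.range fun i => algebraMap A (Localization.AtPrime P) (f i)) ∧
        Matrix.det (Matrix.of fun i j => D i (f j)) ∉ P :=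
  ⟨exists_det_of_fs p hk hA q P hq, fun ⟨_, D, f, hf, hgen, hD⟩ =>
    fs_of_det q P hq (fs_atPrime hA P) D f hf hgen hD⟩

end Groth.Agent.Jacob4
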