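import Mathlib.RingTheory.AdjoinRoot
import Mathlib.RingTheory.MvPolynomial.Basic
import Mathlib.LinearAlgebra.Dimension.Free
import Mathlib.Data.Fintype.BigOperators

/-!
Quotients by monic polynomials in separate variables are free.
-/

namespace Groth.Agent.Jacob4

universe u

open MvPolynomial

theorem exists_basis_separate_monic : ∀ (r : ℕ) (A : Type u) [CommRing A] (F : Fin r → Polynomial A),
    (∀ i, (F i).Monic) → Nonempty (Module.Basis (∀ i, Fin (F i).natDegree) A
      (MvPolynomial (Fin r) A ⧸ Ideal.span (Set.range fun i => Polynomial.aeval (X i : MvPolynomial (Fin r) A) (F i)))) := by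
  intro r
  induction r with
  | zero =>
    intro A _ F _
    let e : (MvPolynomial (Fin 0) A ⧸ Ideal.span (Set.range fun i => Polynomial.aeval (X i : MvPolynomial (Fin 0) A) (F i)))
        ≃ₐ[A] A :=
      ((Ideal.quotientEquivAlgOfEq A (by rw [Set.range_eq_empty, Ideal.span_empty])).trans
        (AlgEquiv.quotientBot A (MvPolynomial (Fin 0) A))).trans (MvPolynomial.isEmptyAlgEquiv A (Fin 0))
    exact ⟨(Module.Basis.singleton _ A).map e.symm.toLinearEquiv⟩
  | succ r ih =>
    intro A _ F hF
    let I := Ideal.span (Set.range fun i => Polynomial.aeval (X i : MvPolynomial (Fin (r + 1)) A) (F i))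
    rcases Nat.eq_zero_or_pos (F 0).natDegree with h0 | h0
    · have hI : I = ⊤ := by
        rw [Ideal.eq_top_iff_one]
        refine Ideal.subset_span ⟨0, ?_⟩
        show Polynomial.aeval (X 0 : MvPolynomial (Fin (r + 1)) A) (F 0) = 1
        rw [(hF 0).natDegree_eq_zero.1 h0, map_one]
      haveI : Subsingleton (MvPolynomial (Fin (r + 1)) A ⧸ I) := Ideal.Quotient.subsingleton_iff.2 hI
      haveI : IsEmpty (∀ i, Fin (F i).natDegree) := ⟨fun f => absurd (f 0).2 (by omega)⟩
      exact ⟨Module.Basis.empty _⟩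
    rcases subsingleton_or_nontrivial A with hA | hA
    · exact absurd (by rw [Subsingleton.elim (F 0) 0, Polynomial.natDegree_zero] : (F 0).natDegree = 0) h0.ne'
    let pb := AdjoinRoot.powerBasis' (hF 0)
    let A' := AdjoinRoot (F 0)
    haveI : Nontrivial A' :=
      nontrivial_of_ne (pb.basis ⟨0, h0⟩) 0 (pb.basis.ne_zero _)
    let F' : Fin r → Polynomial A' := fun i => (F i.succ).map (algebraMap A A')
    obtain ⟨b⟩ := ih A' F' fun i => (hF _).map _
    let I' := Ideal.span (Set.range fun i => Polynomial.aeval (X i : MvPolynomial (Fin r) A') (F' i))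
    let Q' := MvPolynomial (Fin r) A' ⧸ I'
    let val : Fin (r + 1) → Q' := Fin.cons (algebraMap A' Q' (AdjoinRoot.root (F 0))) fun i => Ideal.Quotient.mk I' (X i)
    let toQ : MvPolynomial (Fin (r + 1)) A →ₐ[A] Q' := MvPolynomial.aeval val
    have htoQ : ∀ i, toQ (Polynomial.aeval (X i : MvPolynomial (Fin (r + 1)) A) (F i)) = 0 := fun i => by
      rw [← Polynomial.aeval_algHom_apply, show toQ (X i) = val i from aeval_X _ _]
      refine Fin.cases ?_ (fun j => ?_) i
      · rw [show val 0 = algebraMap A' Q' (AdjoinRoot.root (F 0)) from Fin.cons_zero _ _, Polynomial.aeval_algebraMap_apply,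
          AdjoinRoot.aeval_eq, AdjoinRoot.mk_self, map_zero]
      · rw [show val j.succ = Ideal.Quotient.mk I' (X j) from Fin.cons_succ _ _ _,
          ← Polynomial.aeval_map_algebraMap A' (Ideal.Quotient.mk I' (X j)) (F j.succ)]
        rw [show Ideal.Quotient.mk I' (X j) = Ideal.Quotient.mkₐ A' I' (X j) from rfl, Polynomial.aeval_algHom_apply]
        exact Ideal.Quotient.eq_zero_iff_mem.2 (Ideal.subset_span ⟨j, rfl⟩)
    let f : (MvPolynomial (Fin (r + 1)) A ⧸ I) →ₐ[A] Q' := Ideal.Quotient.liftₐ I toQ fun z hz => by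
      have hle : I ≤ RingHom.ker toQ := Ideal.span_le.2 (by rintro _ ⟨i, rfl⟩; exact htoQ i)
      exact hle hz
    let ρ : A' →ₐ[A] MvPolynomial (Fin (r + 1)) A ⧸ I :=
      AdjoinRoot.liftAlgHom (F 0) (Algebra.ofId A _) (Ideal.Quotient.mk I (X 0)) (by
        show Polynomial.aeval (Ideal.Quotient.mkₐ A I (X 0)) (F 0) = 0
        rw [Polynomial.aeval_algHom_apply]
        exact Ideal.Quotient.eq_zero_iff_mem.2 (Ideal.subset_span ⟨0, rfl⟩))
    letI : Algebra A' (MvPolynomial (Fin (r + 1)) A ⧸ I) := ρ.toRingHom.toAlgebra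
    haveI : IsScalarTower A A' (MvPolynomial (Fin (r + 1)) A ⧸ I) :=
      IsScalarTower.of_algebraMap_eq fun a => (ρ.commutes a).symm
    let fromP : MvPolynomial (Fin r) A' →ₐ[A'] MvPolynomial (Fin (r + 1)) A ⧸ I :=
      MvPolynomial.aeval fun i => Ideal.Quotient.mk I (X i.succ)
    let g : Q' →ₐ[A] MvPolynomial (Fin (r + 1)) A ⧸ I := (Ideal.Quotient.liftₐ I' fromP fun z hz => by
      have hle : I' ≤ RingHom.ker fromP := Ideal.span_le.2 (by
        rintro _ ⟨j, rfl⟩
        show fromP (Polynomial.aeval (X j : MvPolynomial (Fin r) A') (F' j)) = 0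
        rw [← Polynomial.aeval_algHom_apply, show fromP (X j) = _ from aeval_X _ _, Polynomial.aeval_map_algebraMap,
          show Ideal.Quotient.mk I (X j.succ) = Ideal.Quotient.mkₐ A I (X j.succ) from rfl, Polynomial.aeval_algHom_apply]
        exact Ideal.Quotient.eq_zero_iff_mem.2 (Ideal.subset_span ⟨j.succ, rfl⟩))
      exact hle hz).restrictScalars A
    have hfX : ∀ i, f (Ideal.Quotient.mk I (X i)) = val i := fun i => aeval_X _ _
    have hgX : ∀ j, g (Ideal.Quotient.mk I' (X j)) = Ideal.Quotient.mk I (X j.succ) := fun j => aeval_X _ _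
    have hgC : ∀ a, g (algebraMap A' Q' a) = ρ a := fun a => fromP.commutes a
    have hgf : g.comp f = AlgHom.id A _ := by
      refine Ideal.Quotient.algHom_ext A (MvPolynomial.algHom_ext fun i => ?_)
      show g (f (Ideal.Quotient.mk I (X i))) = Ideal.Quotient.mk I (X i)
      rw [hfX]
      refine Fin.cases ?_ (fun j => ?_) i
      · rw [show val 0 = algebraMap A' Q' (AdjoinRoot.root (F 0)) from Fin.cons_zero _ _, hgC]
        exact AdjoinRoot.liftAlgHom_root _ _ _ _
      · rw [show val j.succ = Ideal.Quotient.mk I' (X j) from Fin.cons_succ _ _ _, hgX]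
    have hfgA : ∀ a, f (g (algebraMap A' Q' a)) = algebraMap A' Q' a := fun a => by
      have h : (f.comp g).comp (IsScalarTower.toAlgHom A A' Q') = IsScalarTower.toAlgHom A A' Q' := by
        refine AdjoinRoot.algHom_ext ?_
        show f (g (algebraMap A' Q' (AdjoinRoot.root (F 0)))) = _
        rw [hgC, show ρ (AdjoinRoot.root (F 0)) = Ideal.Quotient.mk I (X 0) from AdjoinRoot.liftAlgHom_root _ _ _ _, hfX]
        rfl
      exact AlgHom.congr_fun h a
    have hfg : ∀ z, f (g z) = z := fun z => by
      obtain ⟨z, rfl⟩ := Ideal.Quotient.mk_surjective z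
      induction z using MvPolynomial.induction_on with
      | C a => exact hfgA a
      | add p q hp hq => simp only [map_add, hp, hq]
      | mul_X p i hp =>
        simp only [map_mul, hp, hgX, hfX]
        rw [show val i.succ = Ideal.Quotient.mk I' (X i) from Fin.cons_succ _ _ _]
    let e : (MvPolynomial (Fin (r + 1)) A ⧸ I) ≃ₐ[A] Q' := AlgEquiv.ofAlgHom f g (AlgHom.ext hfg) hgf
    have hdeg : ∀ i, (F' i).natDegree = (F i.succ).natDegree := fun i => (hF _).natDegree_map _
    let ei : Fin pb.dim × (∀ i, Fin (F' i).natDegree) ≃ ∀ i, Fin (F i).natDegree :=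
      ((finCongr (AdjoinRoot.powerBasis'_dim (hF 0))).prodCongr (Equiv.piCongrRight fun i => finCongr (hdeg i))).trans
        (Fin.consEquiv fun i => Fin (F i).natDegree)
    exact ⟨((pb.basis.smulTower b).map e.symm.toLinearEquiv).reindex ei⟩

/-- The quotient is free of rank the product of the degrees. -/
theorem free_finrank_separate_monic {A : Type u} [CommRing A] [Nontrivial A] {r : ℕ} (F : Fin r → Polynomial A)
    (hF : ∀ i, (F i).Monic) :
    Module.Free A (MvPolynomial (Fin r) A ⧸ Ideal.span (Set.range fun i => Polynomial.aeval (X i : MvPolynomial (Fin r) A) (F i))) ∧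
      Module.finrank A (MvPolynomial (Fin r) A ⧸ Ideal.span (Set.range fun i => Polynomial.aeval (X i : MvPolynomial (Fin r) A) (F i))) =
        Finset.univ.prod fun i => (F i).natDegree := by
  obtain ⟨b⟩ := exists_basis_separate_monic r A F hF
  refine ⟨Module.Free.of_basis b, ?_⟩
  rw [Module.finrank_eq_card_basis b, Fintype.card_pi]
  simp

end Groth.Agent.Jacob4
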