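import Groth.Agent.Jacob4.Main

/-!
Openness of the formally smooth locus of a quotient of a complete smooth algebra.
-/

set_option linter.style.haveILetI false

namespace Groth.Agent.Jacob4

open IsLocalRing TensorProduct

universe u

/-- The formally smooth locus of a quotient is open. -/
theorem isOpen_fs_locus (p : ℕ) {k K A : Type u} [Field k] [ExpChar k p]
    (hk : p = 1 ∨ Module.Finite (frobenius k p).fieldRange k)
    [Field K] [Algebra k K] [Algebra.IsGeometricallyReduced k K]
    [CommRing A] [IsLocalRing A] [IsNoetherianRing A] [IsAdicComplete (maximalIdeal A) A]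
    [Algebra k A] [Algebra K A] [IsScalarTower k K A] [Module.Finite K (ResidueField A)]
    (hA : CAlgX.IsAdicFormallySmooth K A (maximalIdeal A)) (q : Ideal A) :
    IsOpen {n : PrimeSpectrum (A ⧸ q) |
      CAlgX.IsAdicFormallySmooth k (Localization.AtPrime n.asIdeal) (maximalIdeal (Localization.AtPrime n.asIdeal))} := by
  refine isOpen_iff_forall_mem_open.2 fun n hn => ?_
  let fs : ∀ N : Ideal (A ⧸ q), N.IsPrime → Prop := fun N hN =>
    haveI := hN
    CAlgX.IsAdicFormallySmooth k (Localization.AtPrime N) (maximalIdeal (Localization.AtPrime N))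
  have key : ∀ N : PrimeSpectrum (A ⧸ q), N.asIdeal = (N.asIdeal.comap (Ideal.Quotient.mk q)).map (Ideal.Quotient.mk q) :=
    fun N => (Ideal.map_comap_of_surjective _ Ideal.Quotient.mk_surjective _).symm
  have hle : ∀ N : PrimeSpectrum (A ⧸ q), q ≤ N.asIdeal.comap (Ideal.Quotient.mk q) := fun N x hx => by
    rw [Ideal.mem_comap, Ideal.Quotient.eq_zero_iff_mem.2 hx]
    exact zero_mem _
  have hiff : ∀ (N : PrimeSpectrum (A ⧸ q)) [((N.asIdeal.comap (Ideal.Quotient.mk q)).map (Ideal.Quotient.mk q)).IsPrime],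
      CAlgX.IsAdicFormallySmooth k (Localization.AtPrime ((N.asIdeal.comap (Ideal.Quotient.mk q)).map (Ideal.Quotient.mk q)))
        (maximalIdeal (Localization.AtPrime ((N.asIdeal.comap (Ideal.Quotient.mk q)).map (Ideal.Quotient.mk q)))) ↔
      fs N.asIdeal N.isPrime := fun N hN => by
    have gen : ∀ (I J : Ideal (A ⧸ q)) (hI : I.IsPrime) (hJ : J.IsPrime), I = J → (fs I hI ↔ fs J hJ) := by
      rintro I J hI hJ rfl
      exact Iff.rfl
    exact gen _ _ hN N.isPrime (key N).symm
  haveI : ((n.asIdeal.comap (Ideal.Quotient.mk q)).map (Ideal.Quotient.mk q)).IsPrime := key n ▸ n.isPrime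
  obtain ⟨m, D, f, hf, hgen, hdet⟩ := exists_det_of_fs p hk hA q _ (hle n) ((hiff n).2 hn)
  obtain ⟨g, hg, hopen⟩ := exists_open_det q _ D f hf hgen hdet
  refine ⟨(PrimeSpectrum.basicOpen (Ideal.Quotient.mk q g) : Set _), fun N hN => ?_,
    (PrimeSpectrum.basicOpen _).isOpen, hg⟩
  haveI : ((N.asIdeal.comap (Ideal.Quotient.mk q)).map (Ideal.Quotient.mk q)).IsPrime := key N ▸ N.isPrime
  obtain ⟨hgen', hdet'⟩ := hopen (N.asIdeal.comap (Ideal.Quotient.mk q)) hN
  exact (hiff N).1 (fs_of_det q _ (hle N) (fs_atPrime hA _) D f hf hgen' hdet')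

end Groth.Agent.Jacob4
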