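import Groth.Agent.CoeffField.AdicSmooth
import Groth.Prelude.Def_EGA41

/-!
Continuous homomorphisms out of power series over an adic ring.
-/

set_option linter.style.haveILetI false

namespace Groth.Agent.Jacob4

universe u

variable (A : Type u) [CommRing A] (𝔞 : Ideal A) (n : ℕ)

local notation "𝔟" => 𝔞.map (MvPowerSeries.C : A →+* MvPowerSeries (Fin n) A) ⊔
  RingHom.ker (MvPowerSeries.constantCoeff : MvPowerSeries (Fin n) A →+* A)

theorem X_mem_adicIdeal (i : Fin n) : (MvPowerSeries.X i : MvPowerSeries (Fin n) A) ∈ 𝔟 :=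
  Submodule.mem_sup_right (RingHom.mem_ker.2 (MvPowerSeries.constantCoeff_X i))

theorem isNilpotent_of_continuous {E : Type u} [CommRing E] [Algebra A E] (f : MvPowerSeries (Fin n) A →ₐ[A] E)
    (hf : ∃ m : ℕ, ∀ x ∈ (𝔟) ^ m, f x = 0) (i : Fin n) : IsNilpotent (f (MvPowerSeries.X i)) := by
  obtain ⟨m, hm⟩ := hf
  exact ⟨m, by rw [← map_pow]; exact hm _ (Ideal.pow_mem_pow (X_mem_adicIdeal A 𝔞 n i) m)⟩

/-- The ideal generated by nilpotent elements is nilpotent. -/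
theorem exists_span_pow_eq_bot {E : Type u} [CommRing E] (z : Fin n → E) (hz : ∀ i, IsNilpotent (z i)) :
    ∃ N : ℕ, Ideal.span (Set.range z) ^ N = ⊥ :=
  Ideal.exists_pow_le_of_le_radical_of_fg (I := Ideal.span (Set.range z)) (J := ⊥)
    (Ideal.span_le.2 (by rintro _ ⟨i, rfl⟩; exact hz i)) (Submodule.fg_span (Set.finite_range z))
    |>.imp fun N hN => le_bot_iff.1 hN

theorem existsUnique_algHom {E : Type u} [CommRing E] [Algebra A E]
    (hE : ∃ k : ℕ, (𝔞 ^ k).map (algebraMap A E) = ⊥) (z : Fin n → E) (hz : ∀ i, IsNilpotent (z i)) :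
    ∃! g : MvPowerSeries (Fin n) A →ₐ[A] E,
      (∃ m : ℕ, ∀ x ∈ (𝔟) ^ m, g x = 0) ∧ ∀ i, g (MvPowerSeries.X i) = z i := by
  obtain ⟨N, hN⟩ := exists_span_pow_eq_bot n z hz
  obtain ⟨k, hk⟩ := hE
  haveI := CoeffField.isAdicComplete_of_pow_eq_bot hN
  obtain ⟨g, hg⟩ := PSLib.exists_algHom (R := A) (Ideal.span (Set.range z)) z fun i => Ideal.subset_span ⟨i, rfl⟩
  have hle : (𝔟).map g.toRingHom ≤ 𝔞.map (algebraMap A E) ⊔ Ideal.span (Set.range z) := by
    rw [Ideal.map_sup, sup_le_iff]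
    refine ⟨?_, Ideal.map_le_iff_le_comap.2 fun x hx => ?_⟩
    · rw [Ideal.map_map]
      refine le_sup_of_le_left (le_of_eq ?_)
      congr 1
      exact RingHom.ext fun a => g.commutes a
    · have hx' : x ∈ PSLib.vars n A ^ 1 := by rw [pow_one]; exact PSLib.mem_vars_iff.2 hx
      have h := PSLib.map_pow_le g (I := Ideal.span (Set.range z)) (fun i => by rw [hg]; exact Ideal.subset_span ⟨i, rfl⟩) 1
      rw [Ideal.mem_comap]
      refine Submodule.mem_sup_right ?_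
      have h1 := h (Ideal.mem_map_of_mem _ hx')
      rwa [pow_one] at h1
  refine ⟨g, ⟨⟨k + N, fun x hx => ?_⟩, hg⟩, fun g' hg' => ?_⟩
  · have h1 := Ideal.mem_map_of_mem g.toRingHom hx
    rw [Ideal.map_pow] at h1
    have h2 := (Ideal.pow_right_mono hle (k + N)).trans Ideal.sup_pow_add_le_pow_sup_pow h1
    rwa [← Ideal.map_pow, hk, hN, bot_sup_eq, Ideal.mem_bot] at h2
  · exact PSLib.algHom_ext (I := Ideal.span (Set.range z)) g' g
      (fun i => by rw [hg'.2]; exact Ideal.subset_span ⟨i, rfl⟩) fun i => by rw [hg'.2, hg]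

/-- Power series are formally smooth for the product topology. -/
theorem isFormallySmoothAdic_mvPowerSeries :
    EGA41.IsFormallySmoothAdic A 𝔞 (MvPowerSeries (Fin n) A) (𝔟) := by
  intro C _ _ J hJ hC u hu
  choose c hc using fun i => Ideal.Quotient.mk_surjective (u (MvPowerSeries.X i))
  obtain ⟨j, hj⟩ := hJ
  have hnil : ∀ i, IsNilpotent (c i) := fun i => by
    obtain ⟨m, hm⟩ := isNilpotent_of_continuous A 𝔞 n u hu i
    rw [← hc, ← map_pow, Ideal.Quotient.eq_zero_iff_mem] at hm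
    refine ⟨m * j, ?_⟩
    have := Ideal.pow_mem_pow hm j
    rwa [hj, Ideal.zero_eq_bot, Ideal.mem_bot, ← pow_mul] at this
  obtain ⟨v, ⟨-, hv⟩, -⟩ := existsUnique_algHom A 𝔞 n hC c hnil
  refine ⟨v, ?_⟩
  obtain ⟨k, hk⟩ := hC
  obtain ⟨g, -, huniq⟩ := existsUnique_algHom A 𝔞 n (E := C ⧸ J) ⟨k, by
    rw [IsScalarTower.algebraMap_eq A C (C ⧸ J), ← Ideal.map_map, hk, Ideal.map_bot]⟩
    (fun i => u (MvPowerSeries.X i)) (isNilpotent_of_continuous A 𝔞 n u hu)
  have h2 : ∃ m : ℕ, ∀ x ∈ (𝔟) ^ m, (Ideal.Quotient.mkₐ A J).comp v x = 0 := by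
    obtain ⟨v', ⟨⟨m, hm⟩, hv'⟩, huv⟩ := existsUnique_algHom A 𝔞 n ⟨k, hk⟩ c hnil
    obtain ⟨N, hN⟩ := exists_span_pow_eq_bot n c hnil
    haveI := CoeffField.isAdicComplete_of_pow_eq_bot hN
    have : v = v' := PSLib.algHom_ext (I := Ideal.span (Set.range c)) v v'
      (fun i => by rw [hv]; exact Ideal.subset_span ⟨i, rfl⟩) fun i => by rw [hv, hv']
    exact ⟨m, fun x hx => by rw [AlgHom.comp_apply, this, hm x hx, map_zero]⟩
  exact (huniq _ ⟨h2, fun i => by rw [AlgHom.comp_apply, hv]; exact hc i⟩).trans (huniq u ⟨hu, fun i => rfl⟩).symm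

end Groth.Agent.Jacob4
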