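import Groth.Agent.Jacob4.Main
import Groth.Agent.RegFS6.Perfect
import Groth.Agent.RegFS6.SepResidue
import Groth.Agent.EGA41Lib.IntDim

/-!
Nagata's Jacobian criterion for quotients of power series rings.
-/

set_option linter.style.haveILetI false

namespace Groth.Agent.Jacob4

open IsLocalRing TensorProduct

universe u

/-- Dual derivations into the residue field at a regular point, over the prime field. -/
theorem exists_dual_of_regular (k : Type u) {A : Type u} [Field k] [CommRing A] [IsNoetherianRing A] [Algebra k A]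
    (q P : Ideal A) [P.IsPrime] [(P.map (Ideal.Quotient.mk q)).IsPrime] (hq : q ≤ P)
    [IsRegularLocalRing (Localization.AtPrime (P.map (Ideal.Quotient.mk q)))] :
    ∃ (m : ℕ) (f : Fin m → A) (k₀ : Type u) (_ : CommRing k₀) (_ : Algebra k₀ A)
      (δ : Fin m → Derivation k₀ A P.ResidueField), (∀ i, f i ∈ q) ∧
      q.map (algebraMap A (Localization.AtPrime P)) =
        Ideal.span (Set.range fun i => algebraMap A (Localization.AtPrime P) (f i)) ∧
      ∀ i j, δ j (f i) = if i = j then 1 else 0 := by
  rcases CharP.exists' k with h | ⟨p, hp, hk⟩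
  · obtain ⟨m, f, δ, h⟩ := exists_dual (k := k) q P hq (RegFS6.fs_of_regular k _)
    exact ⟨m, f, k, inferInstance, inferInstance, δ, h⟩
  · haveI := hp
    let P₀ := ULift.{u} (ZMod p)
    haveI : Finite P₀ := Finite.of_equiv _ Equiv.ulift.symm
    haveI : PerfectField P₀ := PerfectField.ofFinite
    letI : Algebra P₀ A := ((algebraMap k A).comp
      ((ZMod.castHom dvd_rfl k).comp (ULift.ringEquiv (R := ZMod p)).toRingHom)).toAlgebra
    obtain ⟨m, f, δ, h⟩ := exists_dual (k := P₀) q P hq (RegFS6.fs_of_regular P₀ _)
    exact ⟨m, f, P₀, inferInstance, inferInstance, δ, h⟩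

variable (k : Type u) [Field k] (r : ℕ)

theorem isAdicComplete_mvPowerSeries :
    IsAdicComplete (maximalIdeal (MvPowerSeries (Fin r) k)) (MvPowerSeries (Fin r) k) := by
  rw [PSLib.maximalIdeal_eq_vars]
  infer_instance

theorem surjective_residue_mvPowerSeries :
    Function.Surjective (algebraMap k (ResidueField (MvPowerSeries (Fin r) k))) := fun z => by
  obtain ⟨f, rfl⟩ := residue_surjective z
  refine ⟨MvPowerSeries.constantCoeff f, ?_⟩
  rw [IsScalarTower.algebraMap_apply k (MvPowerSeries (Fin r) k) (ResidueField _)]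
  show residue _ (algebraMap k _ _) = residue _ f
  rw [← sub_eq_zero, ← map_sub, residue_eq_zero_iff, mem_maximalIdeal, mem_nonunits_iff,
    MvPowerSeries.isUnit_iff_constantCoeff, map_sub, MvPowerSeries.algebraMap_apply, MvPowerSeries.constantCoeff_C,
    Algebra.algebraMap_self, RingHom.id_apply, sub_self]
  exact not_isUnit_zero

theorem fs_mvPowerSeries :
    CAlgX.IsAdicFormallySmooth k (MvPowerSeries (Fin r) k) (maximalIdeal (MvPowerSeries (Fin r) k)) := by
  haveI := PSLib.isRegularLocalRing (K := k) (n := r)
  haveI : Algebra.IsGeometricallyReduced k (ResidueField (MvPowerSeries (Fin r) k)) :=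
    S2451.result.1 (Algebra.FormallySmooth.of_equiv
      (AlgEquiv.ofBijective (Algebra.ofId k (ResidueField (MvPowerSeries (Fin r) k)))
        ⟨(algebraMap k _).injective, surjective_residue_mvPowerSeries k r⟩))
  exact RegFS6.fs_of_regular_of_separable_residue

/-- The criterion for power series, at a point separable over its parameters. -/
theorem tfae_mvPowerSeries {k : Type u} [Field k] (r : ℕ)
    (q p : Ideal (MvPowerSeries (Fin r) k)) [p.IsPrime] (hqp : q ≤ p) [(p.map (Ideal.Quotient.mk q)).IsPrime]
    (s : ℕ) [Algebra (MvPowerSeries (Fin s) k) (MvPowerSeries (Fin r) k ⧸ p)]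
    [IsScalarTower k (MvPowerSeries (Fin s) k) (MvPowerSeries (Fin r) k ⧸ p)]
    [Module.Finite (MvPowerSeries (Fin s) k) (MvPowerSeries (Fin r) k ⧸ p)]
    (hinj : Function.Injective (algebraMap (MvPowerSeries (Fin s) k) (MvPowerSeries (Fin r) k ⧸ p)))
    {L' L : Type u} [Field L'] [Field L]
    [Algebra (MvPowerSeries (Fin s) k) L'] [IsFractionRing (MvPowerSeries (Fin s) k) L']
    [Algebra (MvPowerSeries (Fin r) k ⧸ p) L] [IsFractionRing (MvPowerSeries (Fin r) k ⧸ p) L]
    [Algebra L' L] [Algebra (MvPowerSeries (Fin s) k) L]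
    [IsScalarTower (MvPowerSeries (Fin s) k) (MvPowerSeries (Fin r) k ⧸ p) L]
    [IsScalarTower (MvPowerSeries (Fin s) k) L' L] [Algebra.IsSeparable L' L] :
    [CAlgX.IsAdicFormallySmooth k (Localization.AtPrime (p.map (Ideal.Quotient.mk q)))
        (maximalIdeal (Localization.AtPrime (p.map (Ideal.Quotient.mk q)))),
     ∃ (m : ℕ) (D : Fin m → Derivation k (MvPowerSeries (Fin r) k) (MvPowerSeries (Fin r) k))
        (f : Fin m → MvPowerSeries (Fin r) k), (∀ i, f i ∈ q) ∧
        q.map (algebraMap (MvPowerSeries (Fin r) k) (Localization.AtPrime p)) =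
          Ideal.span (Set.range fun i => algebraMap (MvPowerSeries (Fin r) k) (Localization.AtPrime p) (f i)) ∧
        Matrix.det (Matrix.of fun i j => D i (f j)) ∉ p,
     IsRegularLocalRing (Localization.AtPrime (p.map (Ideal.Quotient.mk q)))].TFAE := by
  haveI := PSLib.isRegularLocalRing (K := k) (n := r)
  haveI := isAdicComplete_mvPowerSeries k r
  haveI : Module.Finite k (ResidueField (MvPowerSeries (Fin r) k)) :=
    Module.Finite.of_surjective (Algebra.linearMap k (ResidueField (MvPowerSeries (Fin r) k)))
      (surjective_residue_mvPowerSeries k r)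
  haveI : Algebra.IsGeometricallyReduced k k := S2451.result.1 inferInstance
  have hA := fs_mvPowerSeries k r
  tfae_have 2 → 1 := fun ⟨_, D, f, hf, hgen, hD⟩ => fs_of_det q p hqp (fs_atPrime hA p) D f hf hgen hD
  tfae_have 1 → 3 := fun h => by
    haveI := FlatLoc6.isRegularRing_of_geometricallyRegular (RegFS6.geometricallyRegular_of_fs h)
    exact IsRegularLocalRing.of_isRegularRing_of_isLocalRing _
  tfae_have 3 → 2 := fun h => by
    haveI := h
    obtain ⟨m, f, k₀, _, _, δ, hf, hgen, hδ⟩ := exists_dual_of_regular k q p hqp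
    haveI : IsRegularRing (MvPowerSeries (Fin r) k) :=
      FlatLoc6.isRegularRing_of_geometricallyRegular (RegFS6.geometricallyRegular_of_fs hA)
    haveI : IsRegularLocalRing (Localization.AtPrime p) := IsRegularRing.isRegularLocalRing_localization p
    obtain ⟨c, x, hc, hxp, hxgen⟩ := exists_generators_atPrime p
    let R := MvPowerSeries (Fin s) k
    let B := MvPowerSeries (Fin r) k ⧸ p
    haveI : IsLocalRing B := .of_surjective' (Ideal.Quotient.mk p) Ideal.Quotient.mk_surjective
    haveI : IsDomain R := NoZeroDivisors.to_isDomain _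
    haveI : FaithfulSMul R B := (faithfulSMul_iff_algebraMap_injective _ _).2 hinj
    haveI : Algebra.IsIntegral R B := Algebra.IsIntegral.of_finite _ _
    haveI := PSLib.isRegularLocalRing (K := k) (n := s)
    haveI : IsIntegrallyClosed R := RegLoc6.isIntegrallyClosed_of_isRegularLocalRing R
    have hd : ringKrullDim B = s :=
      (EGA41Lib.ringKrullDim_eq_of_integral hinj).trans (PSLib.ringKrullDim_eq k s)
    have hX : ∀ i, ∃ y ∈ maximalIdeal (MvPowerSeries (Fin r) k),
        Ideal.Quotient.mk p y = algebraMap R B (MvPowerSeries.X i) := fun i => by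
      obtain ⟨y, hy⟩ := Ideal.Quotient.mk_surjective (algebraMap R B (MvPowerSeries.X i))
      refine ⟨y, ?_, hy⟩
      rw [mem_maximalIdeal, mem_nonunits_iff]
      intro hu
      have h1 := hu.map (Ideal.Quotient.mk p)
      rw [hy] at h1
      have h2 := isUnit_of_map_unit (algebraMap R B) _ h1
      rw [MvPowerSeries.isUnit_iff_constantCoeff, MvPowerSeries.constantCoeff_X] at h2
      exact not_isUnit_zero h2
    have hder : ∀ b : B, Polynomial.aeval b (minpoly R b).derivative ≠ 0 := fun b h0 => by
      have hint : IsIntegral R b := Algebra.IsIntegral.isIntegral _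
      have hmap : Function.Injective (algebraMap B L) := IsFractionRing.injective B L
      have e : minpoly L' (algebraMap B L b) = (minpoly R b).map (algebraMap R L') := by
        rw [minpoly.isIntegrallyClosed_eq_field_fractions L' L hint]
      have hs : (minpoly L' (algebraMap B L b)).Separable := Algebra.IsSeparable.isSeparable L' _
      refine hs.aeval_derivative_ne_zero (minpoly.aeval L' (algebraMap B L b)) ?_
      rw [e, Polynomial.derivative_map, Polynomial.aeval_map_algebraMap, Polynomial.aeval_algebraMap_apply, h0,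
        map_zero]
    obtain ⟨D, hD⟩ := exists_derivations_of_span k k (MvPowerSeries (Fin r) k) hA p x hxp hxgen hc hd
      (CplKaehler4.exists_span_fibre_of_separable k _ p hX hder x hxgen hxp) f (fun i => hqp (hf i)) δ hδ
    exact ⟨m, D, f, hf, hgen, hD⟩
  tfae_finish

end Groth.Agent.Jacob4
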