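import Groth.Prelude.Def_FSRel
import Mathlib.RingTheory.Kaehler.Basic
import Mathlib.Algebra.TrivSqZeroExt.Basic

/-!
Relative formal smoothness extends derivations and makes differentials inject universally.
-/

set_option linter.style.haveILetI false

namespace Groth.Agent.Jacob4

open TensorProduct

universe u

/-- Derivations of the middle ring extend. -/
theorem exists_derivation_of_rel {Λ A B : Type u} [CommRing Λ] [CommRing A] [CommRing B] [Algebra Λ A] [Algebra Λ B]
    [Algebra A B] [IsScalarTower Λ A B] (h : EGA41.IsFormallySmoothRel Λ A B) {N : Type u} [AddCommGroup N] [Module B N]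
    [Module A N] [IsScalarTower A B N] [Module Λ N] [IsScalarTower Λ B N] (D : Derivation Λ A N) :
    ∃ D' : Derivation Λ B N, ∀ a, D' (algebraMap A B a) = D a := by
  letI : Module Bᵐᵒᵖ N := Module.compHom N ((RingHom.id B).fromOpposite mul_comm)
  haveI : IsCentralScalar B N := ⟨fun _ _ => rfl⟩
  let ι : A →+* (TrivSqZeroExt B N) :=
    { toFun := fun a => TrivSqZeroExt.inl (algebraMap A B a) + TrivSqZeroExt.inr (D a)
      map_one' := by ext <;> simp [TrivSqZeroExt.fst_add, TrivSqZeroExt.snd_add]
      map_zero' := by ext <;> simp [TrivSqZeroExt.fst_add, TrivSqZeroExt.snd_add]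
      map_add' := fun a b => by ext <;> simp [TrivSqZeroExt.fst_add, TrivSqZeroExt.snd_add]
      map_mul' := fun a b => by
        ext
        · simp [TrivSqZeroExt.fst_add, TrivSqZeroExt.fst_mul]
        · simp [TrivSqZeroExt.snd_add, TrivSqZeroExt.snd_mul, TrivSqZeroExt.fst_add, D.leibniz, algebraMap_smul] }
  letI algA : Algebra A (TrivSqZeroExt B N) := ι.toAlgebra
  letI algΛ : Algebra Λ (TrivSqZeroExt B N) := ((TrivSqZeroExt.inlHom B N).comp (algebraMap Λ B)).toAlgebra
  haveI : @IsScalarTower Λ A (TrivSqZeroExt B N) _ algA.toSMul algΛ.toSMul := IsScalarTower.of_algebraMap_eq fun r => by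
    show TrivSqZeroExt.inl (algebraMap Λ B r) = TrivSqZeroExt.inl (algebraMap A B (algebraMap Λ A r)) + TrivSqZeroExt.inr (M := N) (D (algebraMap Λ A r))
    rw [D.map_algebraMap, ← IsScalarTower.algebraMap_apply, TrivSqZeroExt.inr_zero, add_zero]
  let π : (TrivSqZeroExt B N) →ₐ[A] B :=
    { (TrivSqZeroExt.fstHom B B N).toRingHom with
      commutes' := fun a => by
        show TrivSqZeroExt.fst (ι a) = _
        simp [ι] }
  have hπ : Function.Surjective π := fun y => ⟨TrivSqZeroExt.inl y, rfl⟩
  let J := RingHom.ker π.toRingHom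
  have hJ : J ^ 2 = ⊥ := by
    rw [eq_bot_iff, sq, Ideal.mul_le]
    intro a ha b hb
    have ha' : TrivSqZeroExt.fst a = 0 := ha
    have hb' : TrivSqZeroExt.fst b = 0 := hb
    rw [Ideal.mem_bot]
    ext <;> simp [ha', hb']
  let e := Ideal.quotientKerAlgEquivOfSurjective hπ
  let u : B →ₐ[Λ] (TrivSqZeroExt B N) := { TrivSqZeroExt.inlHom B N with commutes' := fun _ => rfl }
  obtain ⟨v, hv⟩ := h (TrivSqZeroExt B N) J hJ e.symm.toAlgHom ⟨u, AlgHom.ext fun b => by
    show Ideal.Quotient.mk J (TrivSqZeroExt.inl b) = e.symm b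
    exact (e.symm_apply_eq.2 rfl).symm⟩
  have hfst : ∀ b, TrivSqZeroExt.fst (v b) = b := fun b => by
    have h1 := congrArg e (AlgHom.congr_fun hv b)
    exact h1.trans (e.apply_symm_apply b)
  have hvA : ∀ a, v (algebraMap A B a) = ι a := fun a => v.commutes a
  refine ⟨Derivation.mk'
    { toFun := fun b => TrivSqZeroExt.snd (v b)
      map_add' := fun a b => by simp
      map_smul' := fun r b => by
        rw [RingHom.id_apply, Algebra.smul_def, map_mul, TrivSqZeroExt.snd_mul, hfst, hfst,
          IsScalarTower.algebraMap_apply Λ A B, hvA]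
        simp [ι, ← IsScalarTower.algebraMap_apply, algebraMap_smul] }
    fun a b => by
      show TrivSqZeroExt.snd (v (a * b)) = _
      rw [map_mul, TrivSqZeroExt.snd_mul, hfst, hfst, op_smul_eq_smul]
      rfl, fun a => ?_⟩
  show TrivSqZeroExt.snd (v (algebraMap A B a)) = D a
  rw [hvA]
  simp [ι]

/-- The differentials inject after any base change. -/
theorem injective_baseChange_of_rel {Λ A B C : Type u} [CommRing Λ] [CommRing A] [CommRing B] [CommRing C]
    [Algebra Λ A] [Algebra Λ B] [Algebra A B] [IsScalarTower Λ A B] [Algebra B C]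
    (h : EGA41.IsFormallySmoothRel Λ A B) :
    Function.Injective ((KaehlerDifferential.mapBaseChange Λ A B).baseChange C) := by
  let N := C ⊗[B] (B ⊗[A] (Ω[A⁄Λ]))
  letI : Module A N := Module.compHom N (algebraMap A B)
  haveI : IsScalarTower A B N := IsScalarTower.of_algebraMap_smul fun _ _ => rfl
  letI : Module Λ N := Module.compHom N (algebraMap Λ B)
  haveI : IsScalarTower Λ B N := IsScalarTower.of_algebraMap_smul fun _ _ => rfl
  haveI : IsScalarTower Λ A N := IsScalarTower.of_algebraMap_smul fun r z => by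
    show algebraMap A B (algebraMap Λ A r) • z = algebraMap Λ B r • z
    rw [← IsScalarTower.algebraMap_apply]
  let D : Derivation Λ A N :=
    (((TensorProduct.mk B C (B ⊗[A] (Ω[A⁄Λ])) 1).restrictScalars A).comp (TensorProduct.mk A B (Ω[A⁄Λ]) 1)).compDer
      (KaehlerDifferential.D Λ A)
  obtain ⟨D', hD'⟩ := exists_derivation_of_rel h D
  let r : C ⊗[B] (Ω[B⁄Λ]) →ₗ[C] N := D'.liftKaehlerDifferential.liftBaseChange C
  refine Function.LeftInverse.injective (g := r) fun z => ?_
  induction z using TensorProduct.induction_on with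
  | zero => simp only [map_zero]
  | add a b ha hb => rw [map_add, map_add, ha, hb]
  | tmul c y =>
    rw [show c ⊗ₜ[B] y = c • ((1 : C) ⊗ₜ[B] y) by rw [smul_tmul', smul_eq_mul, mul_one], map_smul, map_smul]
    congr 1
    induction y using TensorProduct.induction_on with
    | zero => simp only [tmul_zero, map_zero]
    | add a b ha hb => simp only [tmul_add, map_add, ha, hb]
    | tmul b ω =>
      rw [show b ⊗ₜ[A] ω = b • ((1 : B) ⊗ₜ[A] ω) by rw [smul_tmul', smul_eq_mul, mul_one], tmul_smul,
        ← algebraMap_smul C b, map_smul, map_smul]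
      congr 1
      have hω : ω ∈ Submodule.span A (Set.range (KaehlerDifferential.D Λ A)) :=
        (KaehlerDifferential.span_range_derivation Λ A).symm ▸ Submodule.mem_top
      induction hω using Submodule.span_induction with
      | mem w hw => obtain ⟨a, rfl⟩ := hw; simp [r, hD', D]
      | zero => simp only [tmul_zero, map_zero]
      | add v w _ _ hv hw => simp only [tmul_add, map_add, hv, hw]
      | smul a w _ hw =>
        rw [tmul_smul, ← algebraMap_smul B a ((1 : B) ⊗ₜ[A] w), tmul_smul, ← algebraMap_smul C (algebraMap A B a),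
          map_smul, map_smul, hw]

end Groth.Agent.Jacob4
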