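import Groth.Agent.RegFS6.Deriv
import Groth.Agent.S2451

/-!
Separability of field extensions and extension of derivations.
-/

set_option linter.style.haveILetI false

namespace Groth.Agent.Jacob4

open IsLocalRing TensorProduct

universe u

attribute [local instance 10000] Ring.toIntAlgebra

variable {k K : Type u} [Field k] [Field K] [Algebra k K]

theorem derivation_extend_of_imperfection_eq_bot (h : EGA41.imperfection ℤ k K = ⊥) (F : Type u) [AddCommGroup F]
    [Module K F] [Module k F] [IsScalarTower k K F] (δ : Derivation ℤ k F) :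
    ∃ D : Derivation ℤ K F, ∀ c, D (algebraMap k K c) = δ c := by
  obtain ⟨r, hr⟩ := LinearMap.exists_leftInverse_of_injective (KaehlerDifferential.mapBaseChange ℤ k K) h
  refine ⟨((δ.liftKaehlerDifferential.liftBaseChange K).comp r).compDer (KaehlerDifferential.D ℤ K), fun c => ?_⟩
  show δ.liftKaehlerDifferential.liftBaseChange K (r (KaehlerDifferential.D ℤ K (algebraMap k K c))) = _
  have e : KaehlerDifferential.D ℤ K (algebraMap k K c) =
      KaehlerDifferential.mapBaseChange ℤ k K ((1 : K) ⊗ₜ KaehlerDifferential.D ℤ k c) := by simp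
  rw [e, ← LinearMap.comp_apply r, hr, LinearMap.id_apply, LinearMap.liftBaseChange_tmul, one_smul,
    Derivation.liftKaehlerDifferential_comp_D]

theorem imperfection_eq_bot_of_derivation_extend
    (h : ∀ D : Derivation ℤ k K, ∃ D' : Derivation ℤ K K, ∀ a : k, D' (algebraMap k K a) = D a) :
    EGA41.imperfection ℤ k K = ⊥ := by
  rw [eq_bot_iff]
  intro z hz
  by_contra hz0
  obtain ⟨l, hl⟩ := Module.Projective.exists_dual_ne_zero K (x := z) fun h0 => hz0 (by rw [h0]; exact zero_mem _)
  let δ : Derivation ℤ k K :=
    ((l.restrictScalars k).comp (TensorProduct.mk k K (Ω[k⁄ℤ]) 1)).compDer (KaehlerDifferential.D ℤ k)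
  obtain ⟨D, hD⟩ := h δ
  have key : ∀ w, D.liftKaehlerDifferential (KaehlerDifferential.mapBaseChange ℤ k K w) = l w := by
    intro w
    induction w using TensorProduct.induction_on with
    | zero => simp
    | add a b ha hb => rw [map_add, map_add, map_add, ha, hb]
    | tmul r ω =>
      rw [show r ⊗ₜ[k] ω = r • ((1 : K) ⊗ₜ[k] ω) by rw [smul_tmul', smul_eq_mul, mul_one], map_smul, map_smul, map_smul]
      congr 1
      have hω : ω ∈ Submodule.span k (Set.range (KaehlerDifferential.D ℤ k)) :=
        (KaehlerDifferential.span_range_derivation ℤ k).symm ▸ Submodule.mem_top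
      induction hω using Submodule.span_induction with
      | mem w hw => obtain ⟨c, rfl⟩ := hw; simp [hD, δ]
      | zero => simp
      | add v w _ _ hv hw => simp only [tmul_add, map_add, hv, hw]
      | smul c w _ hw =>
        rw [tmul_smul, ← algebraMap_smul K c, map_smul, map_smul, map_smul, hw]
  exact hl (by rw [← key, LinearMap.mem_ker.1 hz, map_zero])

theorem maximalIdeal_field : maximalIdeal K = ⊥ :=
  ((isField_iff_maximalIdeal_eq).1 (Field.toIsField K))

theorem formallySmooth_iff_imperfection_eq_bot :
    Algebra.FormallySmooth k K ↔ EGA41.imperfection ℤ k K = ⊥ := by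
  constructor
  · intro h
    have hfs : CAlgX.IsAdicFormallySmooth k K (maximalIdeal K) := fun E _ _ J hJ ψ _ =>
      Algebra.FormallySmooth.comp_surjective k K J hJ ψ
    refine imperfection_eq_bot_of_derivation_extend fun δ => ?_
    exact RegFS6.exists_derivation_of_injective (F := K) (RegFS6.injective_lTensor_of_fs hfs)
      (fun x hx => by rw [maximalIdeal_field, Ideal.mem_bot] at hx; rw [hx, map_zero]) δ
  · intro h
    haveI : IsRegularLocalRing K := IsRegularLocalRing.of_spanFinrank_maximalIdeal_le K (by
      rw [maximalIdeal_field, Submodule.spanFinrank_bot, ringKrullDim_eq_zero_of_field K]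
      exact le_rfl)
    have hfs : CAlgX.IsAdicFormallySmooth k K (maximalIdeal K) := by
      rcases CharP.exists' k with h0 | ⟨p, hp, hk⟩
      · exact RegFS6.fs_of_derivation_extend k fun F _ _ _ _ _ δ => derivation_extend_of_imperfection_eq_bot h F δ
      · haveI := hp
        let P := ULift.{u} (ZMod p)
        haveI : Finite P := Finite.of_equiv _ Equiv.ulift.symm
        haveI : PerfectField P := PerfectField.ofFinite
        letI : Algebra P k := ((ZMod.castHom dvd_rfl k).comp (ULift.ringEquiv (R := ZMod p)).toRingHom).toAlgebra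
        exact RegFS6.fs_of_derivation_extend P fun F _ _ _ _ _ δ => derivation_extend_of_imperfection_eq_bot h F δ
    refine Algebra.FormallySmooth.of_comp_surjective fun E _ _ J hJ ψ => ?_
    obtain ⟨χ, hχ⟩ := hfs E J hJ ψ ⟨1, fun x hx => by
      rw [pow_one, maximalIdeal_field, Ideal.mem_bot] at hx
      rw [hx, map_zero]⟩
    exact ⟨χ, hχ⟩

/-- Separability, vanishing imperfection and extension of derivations are equivalent. -/
theorem isGeometricallyReduced_iff :
    (Algebra.IsGeometricallyReduced k K ↔ EGA41.imperfection ℤ k K = ⊥) ∧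
    (Algebra.IsGeometricallyReduced k K ↔
      ∀ D : Derivation ℤ k K, ∃ D' : Derivation ℤ K K, ∀ a : k, D' (algebraMap k K a) = D a) := by
  have h : Algebra.IsGeometricallyReduced k K ↔ EGA41.imperfection ℤ k K = ⊥ :=
    S2451.result.symm.trans formallySmooth_iff_imperfection_eq_bot
  exact ⟨h, fun hg D => derivation_extend_of_imperfection_eq_bot (h.1 hg) K D,
    fun hd => h.2 (imperfection_eq_bot_of_derivation_extend hd)⟩

end Groth.Agent.Jacob4
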