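import Groth.Agent.RegFS6.Deriv
import Groth.Agent.PSLib.Regular
import Groth.Agent.CoeffField.Smooth
import Mathlib.RingTheory.AdicCompletion.RingHom

/-!
Complete smooth local algebras with a prescribed residue field.
-/

set_option linter.style.haveILetI false

namespace Groth.Agent.Jacob4

open IsLocalRing TensorProduct

universe u

attribute [local instance 10000] Ring.toIntAlgebra

/-- A smooth homomorphism into the square-zero thickening of a complete ring lifts. -/
theorem exists_lift_complete (P k A : Type u) [CommRing P] [CommRing k] [Algebra P k] [Algebra.FormallySmooth P k]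
    [CommRing A] [Algebra P A] (m : Ideal A) [IsAdicComplete m A] (u : k →ₐ[P] A ⧸ m ^ 2) :
    ∃ f : k →+* A, ∀ c, Ideal.Quotient.mk (m ^ 2) (f c) = u c := by
  have step : ∀ (n : ℕ) (g : k →ₐ[P] A ⧸ m ^ (n + 2)), ∃ g' : k →ₐ[P] A ⧸ m ^ (n + 3),
      ∀ c, Ideal.Quotient.factor (Ideal.pow_le_pow_right (Nat.le_succ (n + 2))) (g' c) = g c := by
    intro n g
    let π : (A ⧸ m ^ (n + 3)) →ₐ[P] (A ⧸ m ^ (n + 2)) := Ideal.Quotient.factorₐ P (Ideal.pow_le_pow_right (Nat.le_succ (n + 2)))
    have hπ : Function.Surjective π := fun z => by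
      obtain ⟨z, rfl⟩ := Ideal.Quotient.mk_surjective z
      exact ⟨Ideal.Quotient.mk _ z, rfl⟩
    have hnil : IsNilpotent (RingHom.ker π.toRingHom) := ⟨n + 3, by
      have hker : RingHom.ker π.toRingHom ≤ (m).map (Ideal.Quotient.mk (m ^ (n + 3))) := fun z hz => by
        obtain ⟨z, rfl⟩ := Ideal.Quotient.mk_surjective z
        exact Ideal.mem_map_of_mem _ (Ideal.pow_le_self (by omega) (Ideal.Quotient.eq_zero_iff_mem.1 hz))
      rw [Ideal.zero_eq_bot, eq_bot_iff, ← Ideal.map_quotient_self (m ^ (n + 3)), Ideal.map_pow]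
      exact Ideal.pow_right_mono hker _⟩
    exact ⟨Algebra.FormallySmooth.liftOfSurjective g π hπ hnil,
      fun c => Algebra.FormallySmooth.liftOfSurjective_apply g π hπ hnil c⟩
  choose next hnext using step
  let g : ∀ n, k →ₐ[P] A ⧸ m ^ (n + 2) := fun n =>
    Nat.rec (motive := fun n => k →ₐ[P] A ⧸ m ^ (n + 2)) u next n
  let f : ∀ n, k →+* A ⧸ m ^ n := fun n =>
    (Ideal.Quotient.factor (Ideal.pow_le_pow_right (Nat.le_add_right n 2))).comp (g n).toRingHom
  have hf : ∀ {i j : ℕ} (hle : i ≤ j), (Ideal.Quotient.factorPow m hle).comp (f j) = f i := by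
    intro i j hle
    induction j, hle using Nat.le_induction with
    | base => ext c; simp
    | succ j hij ih =>
      rw [← ih]
      ext c
      simp only [RingHom.comp_apply, f]
      have e := hnext j (g j) c
      change _ = Ideal.Quotient.factorPow m hij (Ideal.Quotient.factor _ ((g j) c))
      rw [← e]
      show _ = Ideal.Quotient.factorPow m hij (Ideal.Quotient.factor _ (Ideal.Quotient.factor _ ((g (j + 1)) c)))
      obtain ⟨w, hw⟩ := Ideal.Quotient.mk_surjective ((g (j + 1)) c)
      change Ideal.Quotient.factorPow m _ (Ideal.Quotient.factor _ ((g (j + 1)) c)) = _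
      rw [← hw]
      simp
  refine ⟨IsAdicComplete.liftRingHom m f hf, fun c => ?_⟩
  rw [IsAdicComplete.mk_liftRingHom]
  obtain ⟨w, hw⟩ := Ideal.Quotient.mk_surjective ((g 2) c)
  have e1 : g 1 c = Ideal.Quotient.mk _ w := by
    rw [← hnext 1 (g 1) c]
    change Ideal.Quotient.factor _ (g 2 c) = _
    rw [← hw]
    rfl
  have e0 : u c = Ideal.Quotient.mk _ w := by
    rw [← hnext 0 u c]
    change Ideal.Quotient.factor _ (g 1 c) = _
    rw [e1]
    rfl
  show Ideal.Quotient.factor (Ideal.pow_le_pow_right (Nat.le_add_right 2 2)) (g 2 c) = u c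
  rw [← hw, e0]
  rfl

/-- Formal smoothness from coordinates dual to the imperfection module. -/
theorem fs_of_coords (P : Type u) [Field P] [PerfectField P] {k K A : Type u} [Field k] [Algebra P k] [Field K]
    [Algebra k K] [CommRing A] [IsRegularLocalRing A] [Algebra k A] {n : ℕ}
    (l : Fin n → (K ⊗[k] (Ω[k⁄ℤ]) →ₗ[K] K)) (v : Fin n → K ⊗[k] (Ω[k⁄ℤ]))
    (hlv : ∀ w ∈ EGA41.imperfection ℤ k K, w = ∑ i, l i w • v i)
    (s : K →+* A) (c₀ : A →+* K) (co : Fin n → A →+ K)
    (hs : ∀ a, a - s (c₀ a) ∈ maximalIdeal A)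
    (hco : ∀ i a b, co i (a * b) = c₀ a * co i b + c₀ b * co i a)
    (hc₀ : ∀ c, c₀ (algebraMap k A c) = algebraMap k K c)
    (hcoc : ∀ i c, co i (algebraMap k A c) = l i (1 ⊗ₜ KaehlerDifferential.D ℤ k c)) :
    CAlgX.IsAdicFormallySmooth k A (maximalIdeal A) := by
  refine RegFS6.fs_of_derivation_extend P fun F _ _ _ _ hm δ => ?_
  letI : Algebra K F := ((algebraMap A F).comp s).toAlgebra
  have hA : ∀ a, algebraMap A F a = algebraMap K F (c₀ a) := fun a => by
    rw [← sub_eq_zero]
    show algebraMap A F a - algebraMap A F (s (c₀ a)) = 0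
    rw [← map_sub]
    exact hm _ (hs a)
  haveI : IsScalarTower k K F := IsScalarTower.of_algebraMap_eq fun c => by
    rw [IsScalarTower.algebraMap_apply k A F, hA, hc₀]
  let L : K ⊗[k] (Ω[k⁄ℤ]) →ₗ[K] F := δ.liftKaehlerDifferential.liftBaseChange K
  let L' : K ⊗[k] (Ω[k⁄ℤ]) →ₗ[K] F := L - ∑ i, (l i).smulRight (L (v i))
  have hL' : ∀ w, L' w = L w - ∑ i, l i w • L (v i) := fun w => by
    simp [L', LinearMap.sub_apply, LinearMap.sum_apply]
  let β := KaehlerDifferential.mapBaseChange ℤ k K
  have hker : LinearMap.ker β ≤ LinearMap.ker L' := fun w hw => by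
    rw [LinearMap.mem_ker, hL']
    conv_lhs => arg 1; rw [hlv w hw, map_sum]
    simp only [map_smul, sub_self]
  obtain ⟨G, hG⟩ := LinearMap.exists_extend
    (((LinearMap.ker β).liftQ L' hker).comp β.quotKerEquivRange.symm.toLinearMap)
  have hGβ : ∀ w, G (β w) = L' w := fun w => by
    have h := LinearMap.congr_fun hG (β.quotKerEquivRange (Submodule.Quotient.mk w))
    rw [LinearMap.comp_apply, LinearMap.comp_apply, LinearEquiv.coe_coe, LinearEquiv.symm_apply_apply] at h
    simpa using h
  have hcK : ∀ c, algebraMap k K c = c₀ (algebraMap k A c) := fun c => (hc₀ c).symm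
  let D : A →+ F := AddMonoidHom.mk' (fun a => G (KaehlerDifferential.D ℤ K (c₀ a)) + ∑ i, co i a • L (v i))
    fun a b => by simp [add_smul, Finset.sum_add_distrib]; abel
  refine ⟨Derivation.mk' D.toIntLinearMap fun a b => ?_, fun c => ?_⟩
  · show D (a * b) = a • D b + b • D a
    rw [Algebra.smul_def, Algebra.smul_def, hA, hA, ← Algebra.smul_def, ← Algebra.smul_def]
    show G _ + _ = c₀ a • (G _ + _) + c₀ b • (G _ + _)
    rw [map_mul, Derivation.leibniz, map_add, map_smul, map_smul, smul_add, smul_add, Finset.smul_sum,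
      Finset.smul_sum]
    simp only [hco, add_smul, Finset.sum_add_distrib, smul_smul]
    abel
  · show G (KaehlerDifferential.D ℤ K (c₀ (algebraMap k A c))) + ∑ i, co i (algebraMap k A c) • L (v i) = δ c
    have e : KaehlerDifferential.D ℤ K (algebraMap k K c) = β ((1 : K) ⊗ₜ KaehlerDifferential.D ℤ k c) := by
      simp [β]
    rw [hc₀, e, hGβ, hL']
    simp only [hcoc, sub_add_cancel]
    simp [L]

/-- The linear coefficient of a variable. -/
noncomputable def lin (K : Type u) [Field K] {n : ℕ} (i : Fin n) : MvPowerSeries (Fin n) K →+ K :=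
  (MvPowerSeries.constantCoeff (σ := Fin n) (R := K)).toAddMonoidHom.comp
    (MvPowerSeries.pderiv K i).toLinearMap.toAddMonoidHom

section PowerSeries

variable {K : Type u} [Field K] {n : ℕ}

theorem mem_maximalIdeal_iff_constantCoeff (a : MvPowerSeries (Fin n) K) :
    a ∈ maximalIdeal (MvPowerSeries (Fin n) K) ↔ MvPowerSeries.constantCoeff a = 0 := by
  rw [mem_maximalIdeal, mem_nonunits_iff, MvPowerSeries.isUnit_iff_constantCoeff, isUnit_iff_ne_zero, not_ne_iff]

theorem lin_mul (i : Fin n) (a b : MvPowerSeries (Fin n) K) :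
    lin K i (a * b) = MvPowerSeries.constantCoeff a * lin K i b + MvPowerSeries.constantCoeff b * lin K i a := by
  show MvPowerSeries.constantCoeff ((MvPowerSeries.pderiv K i) (a * b)) = _
  rw [Derivation.leibniz, map_add, smul_eq_mul, smul_eq_mul, map_mul, map_mul]
  rfl

theorem lin_X (i j : Fin n) : lin K i (MvPowerSeries.X j) = if j = i then 1 else 0 := by
  show MvPowerSeries.constantCoeff ((MvPowerSeries.pderiv K i) (MvPowerSeries.X j)) = _
  rw [MvPowerSeries.pderiv_X]
  rcases eq_or_ne j i with rfl | h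
  · simp
  · simp [h]

theorem lin_C (i : Fin n) (x : K) : lin K i (MvPowerSeries.C x) = 0 := by
  show MvPowerSeries.constantCoeff ((MvPowerSeries.pderiv K i) (algebraMap K (MvPowerSeries (Fin n) K) x)) = 0
  rw [Derivation.map_algebraMap, map_zero]

theorem lin_eq_zero (i : Fin n) (z : MvPowerSeries (Fin n) K) (hz : z ∈ maximalIdeal (MvPowerSeries (Fin n) K) ^ 2) :
    lin K i z = 0 := by
  rw [sq] at hz
  induction hz using Submodule.mul_induction_on' with
  | mem_mul_mem a ha b hb =>
    rw [lin_mul, (mem_maximalIdeal_iff_constantCoeff a).1 ha, (mem_maximalIdeal_iff_constantCoeff b).1 hb,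
      zero_mul, zero_mul, add_zero]
  | add a _ b _ ha hb => rw [map_add, ha, hb, add_zero]

end PowerSeries

section Twist

variable {k K : Type u} [Field k] [Field K] [Algebra k K] {n : ℕ}

/-- The series with prescribed constant and linear part. -/
noncomputable def jet (δ : Fin n → k → K) (c : k) : MvPowerSeries (Fin n) K :=
  MvPowerSeries.C (algebraMap k K c) + ∑ i, MvPowerSeries.C (δ i c) * MvPowerSeries.X i

theorem lin_jet (δ : Fin n → k → K) (i : Fin n) (c : k) : lin K i (jet δ c) = δ i c := by
  rw [jet, map_add, lin_C, zero_add, map_sum, Finset.sum_eq_single i]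
  · rw [lin_mul, lin_C, lin_X, if_pos rfl, mul_zero, add_zero, mul_one, MvPowerSeries.constantCoeff_C]
  · intro j _ hj
    rw [lin_mul, lin_C, lin_X, if_neg hj, mul_zero, mul_zero, add_zero]
  · simp

theorem jet_sub_mem (δ : Fin n → k → K) (c : k) :
    jet δ c - MvPowerSeries.C (algebraMap k K c) ∈ maximalIdeal (MvPowerSeries (Fin n) K) := by
  rw [jet, add_sub_cancel_left]
  exact Ideal.sum_mem _ fun i _ => Ideal.mul_mem_left _ _
    ((mem_maximalIdeal_iff_constantCoeff _).2 (MvPowerSeries.constantCoeff_X i))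

/-- The ring map to the square-zero thickening attached to derivations. -/
noncomputable def jetHom (δ : Fin n → k → K) (hadd : ∀ i a b, δ i (a + b) = δ i a + δ i b)
    (hmul : ∀ i a b, δ i (a * b) = algebraMap k K a * δ i b + algebraMap k K b * δ i a) :
    k →+* MvPowerSeries (Fin n) K ⧸ maximalIdeal (MvPowerSeries (Fin n) K) ^ 2 where
  toFun c := Ideal.Quotient.mk _ (jet δ c)
  map_one' := by
    have h1 : ∀ i, δ i 1 = 0 := fun i => by
      have := hmul i 1 1
      rw [mul_one, map_one, one_mul] at this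
      exact left_eq_add.1 this
    simp [jet, h1]
  map_zero' := by
    have h0 : ∀ i, δ i 0 = 0 := fun i => by
      have := hadd i 0 0
      rw [add_zero] at this
      exact left_eq_add.1 this
    simp [jet, h0]
  map_add' a b := by
    rw [← map_add]
    congr 1
    simp only [jet, hadd, map_add, add_mul, Finset.sum_add_distrib]
    abel
  map_mul' a b := by
    rw [← map_mul, Ideal.Quotient.eq]
    have h2 := neg_mem (Ideal.mul_mem_mul (jet_sub_mem δ a) (jet_sub_mem δ b))
    rw [← sq] at h2
    convert h2 using 1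
    have e : (∑ i, MvPowerSeries.C (δ i (a * b)) * MvPowerSeries.X i : MvPowerSeries (Fin n) K) =
        MvPowerSeries.C (algebraMap k K a) * (∑ i, MvPowerSeries.C (δ i b) * MvPowerSeries.X i) +
          MvPowerSeries.C (algebraMap k K b) * ∑ i, MvPowerSeries.C (δ i a) * MvPowerSeries.X i := by
      rw [Finset.mul_sum, Finset.mul_sum, ← Finset.sum_add_distrib]
      refine Finset.sum_congr rfl fun i _ => ?_
      rw [hmul, map_add, map_mul, map_mul]
      ring
    simp only [jet, e, map_mul]
    ring

/-- Coordinates on a space dual to a finite-dimensional subspace. -/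
theorem exists_coords {V : Type u} [AddCommGroup V] [Module K V] (Y : Submodule K V) [Module.Finite K Y]
    (hn : Module.finrank K Y ≤ n) :
    ∃ (l : Fin n → (V →ₗ[K] K)) (v : Fin n → V), ∀ w ∈ Y, w = ∑ i, l i w • v i := by
  classical
  let m := Module.finrank K Y
  let b := Module.finBasis K Y
  choose e he using fun i : Fin m => LinearMap.exists_extend (b.coord i)
  let l : Fin n → (V →ₗ[K] K) := fun i => if h : (i : ℕ) < m then e ⟨i, h⟩ else 0
  let v : Fin n → V := fun i => if h : (i : ℕ) < m then (b ⟨i, h⟩ : V) else 0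
  refine ⟨l, v, fun w hw => ?_⟩
  have h1 : w = ∑ i : Fin m, e i w • (b i : V) := by
    have h := congrArg Subtype.val (b.sum_repr ⟨w, hw⟩)
    rw [AddSubmonoidClass.coe_finsetSum] at h
    refine h.symm.trans (Finset.sum_congr rfl fun i _ => ?_)
    have := LinearMap.congr_fun (he i) ⟨w, hw⟩
    rw [LinearMap.comp_apply, Submodule.subtype_apply, Module.Basis.coord_apply] at this
    rw [this]
    rfl
  refine h1.trans ?_
  refine Finset.sum_of_injOn (Fin.castLE hn) (Fin.castLE_injective hn).injOn (fun _ _ => Finset.mem_univ _)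
    (fun i _ hi => ?_) fun i _ => ?_
  · have : ¬ (i : ℕ) < m := fun h => hi ⟨⟨i, h⟩, Finset.mem_univ _, rfl⟩
    simp [l, v, dif_neg this]
  · have : ((Fin.castLE hn i : Fin n) : ℕ) < m := i.2
    simp [l, v, dif_pos this]

end Twist

variable {k K : Type u} [Field k] [Field K] [Algebra k K]

/-- Complete smooth algebras of every large dimension with prescribed residue field, over a perfect field. -/
theorem exists_fs_of_finite_imperfection (P : Type u) [Field P] [PerfectField P] [Algebra P k]
    (hP : ∀ x, KaehlerDifferential.D ℤ k (algebraMap P k x) = 0)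
    [Module.Finite K (EGA41.imperfection ℤ k K)] (n : ℕ) (hn : Module.finrank K (EGA41.imperfection ℤ k K) ≤ n) :
    ∃ (A : Type u) (_ : CommRing A) (_ : IsLocalRing A) (_ : IsNoetherianRing A) (_ : Algebra k A),
      IsAdicComplete (maximalIdeal A) A ∧ CAlgX.IsAdicFormallySmooth k A (maximalIdeal A) ∧
      Nonempty (ResidueField A ≃ₐ[k] K) ∧ ringKrullDim A = n := by
  obtain ⟨l, v, hlv⟩ := exists_coords (EGA41.imperfection ℤ k K) hn
  let A := MvPowerSeries (Fin n) K
  haveI := PSLib.isRegularLocalRing (K := K) (n := n)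
  haveI hcpl : IsAdicComplete (maximalIdeal A) A := by
    show IsAdicComplete (maximalIdeal (MvPowerSeries (Fin n) K)) _
    rw [PSLib.maximalIdeal_eq_vars]; infer_instance
  letI : Algebra P K := ((algebraMap k K).comp (algebraMap P k)).toAlgebra
  haveI := CoeffField.formallySmooth_of_perfectField P k
  let δ : Fin n → k → K := fun i c => l i ((1 : K) ⊗ₜ KaehlerDifferential.D ℤ k c)
  let u := jetHom δ (fun i a b => by simp only [δ, map_add, tmul_add])
    fun i a b => by
      simp only [δ, Derivation.leibniz, tmul_add, tmul_smul, map_add, LinearMap.map_smul_of_tower, Algebra.smul_def]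
  letI : Algebra P A := ((MvPowerSeries.C.comp (algebraMap k K)).comp (algebraMap P k)).toAlgebra
  let uP : k →ₐ[P] A ⧸ maximalIdeal A ^ 2 :=
    { u with
      commutes' := fun x => by
        show Ideal.Quotient.mk _ (jet δ (algebraMap P k x)) =
          Ideal.Quotient.mk _ (MvPowerSeries.C (algebraMap k K (algebraMap P k x)))
        have h0 : ∀ i, δ i (algebraMap P k x) = 0 := fun i => by simp [δ, hP]
        congr 1
        simp [jet, h0] }
  obtain ⟨f, hf⟩ := exists_lift_complete P k A (maximalIdeal A) uP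
  letI algf : Algebra k A := f.toAlgebra
  have hfu : ∀ c, f c - jet δ c ∈ maximalIdeal A ^ 2 := fun c => Ideal.Quotient.eq.1 (hf c)
  have hres : ∀ c, f c - MvPowerSeries.C (algebraMap k K c) ∈ maximalIdeal A := fun c => by
    have := add_mem (Ideal.pow_le_self two_ne_zero (hfu c)) (jet_sub_mem δ c)
    rwa [sub_add_sub_cancel] at this
  have hfs : CAlgX.IsAdicFormallySmooth k A (maximalIdeal A) := by
    refine fs_of_coords P l v hlv MvPowerSeries.C MvPowerSeries.constantCoeff (fun i => lin K i) (fun a => ?_)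
      lin_mul (fun c => ?_) fun i c => ?_
    · rw [mem_maximalIdeal_iff_constantCoeff, map_sub, MvPowerSeries.constantCoeff_C, sub_self]
    · have := (mem_maximalIdeal_iff_constantCoeff _).1 (hres c)
      rw [map_sub, MvPowerSeries.constantCoeff_C, sub_eq_zero] at this
      exact this
    · show lin K i (f c) = δ i c
      rw [← lin_jet δ i c, ← sub_eq_zero, ← map_sub]
      exact lin_eq_zero i _ (hfu c)
  let e : K →ₐ[k] ResidueField A :=
    { (residue A).comp MvPowerSeries.C with
      commutes' := fun c => by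
        show residue A (MvPowerSeries.C (algebraMap k K c)) = residue A (f c)
        rw [eq_comm, ← sub_eq_zero, ← map_sub, residue_eq_zero_iff]
        exact hres c }
  refine ⟨A, inferInstance, inferInstance, inferInstance, algf, hcpl, hfs,
    ⟨(AlgEquiv.ofBijective e ⟨?_, fun z => ?_⟩).symm⟩, PSLib.ringKrullDim_eq K n⟩
  · exact ((residue A).comp MvPowerSeries.C).injective
  · obtain ⟨a, rfl⟩ := residue_surjective z
    refine ⟨MvPowerSeries.constantCoeff a, ?_⟩
    show residue A (MvPowerSeries.C (MvPowerSeries.constantCoeff a)) = residue A a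
    rw [eq_comm, ← sub_eq_zero, ← map_sub, residue_eq_zero_iff, mem_maximalIdeal_iff_constantCoeff, map_sub,
      MvPowerSeries.constantCoeff_C, sub_self]

end Groth.Agent.Jacob4
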