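import Groth.Agent.Jacob4.Detect
import Groth.Agent.CplKaehler4.CharZeroBound
import Groth.Agent.CplKaehler4.PointFree
import Groth.Agent.RegFS6.Field

/-!
Derivations of a complete smooth algebra detect independent differentials at a prime whose point is separable
over its parameters, in particular in characteristic zero.
-/

set_option linter.style.haveILetI false

namespace Groth.Agent.Jacob4

open IsLocalRing TensorProduct

universe u

/-- Derivations into the residue field kill the products of elements of the prime. -/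
theorem apply_mul_of_mem {k : Type*} {A : Type u} [CommRing k] [CommRing A] [Algebra k A] (P : Ideal A) [P.IsPrime]
    (δ : Derivation k A P.ResidueField) (a x : A) (hx : x ∈ P) :
    δ (a * x) = algebraMap A P.ResidueField a * δ x := by
  rw [δ.leibniz, Algebra.smul_def, Algebra.smul_def, Ideal.algebraMap_residueField_eq_zero.2 hx, zero_mul, add_zero]

theorem sum_swap {R ι κ : Type*} [CommSemiring R] [Fintype ι] [Fintype κ] (l : ι → R) (α : ι → κ → R) (v : κ → R) :
    ∑ i, l i * ∑ t, α i t * v t = ∑ t, (∑ i, l i * α i t) * v t := by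
  simp only [Finset.mul_sum, Finset.sum_mul, mul_assoc]
  exact Finset.sum_comm

/-- A regular local ring at a prime has as many generators of the prime as its dimension. -/
theorem exists_generators_atPrime {A : Type u} [CommRing A] [IsNoetherianRing A] (P : Ideal A) [P.IsPrime]
    [IsRegularLocalRing (Localization.AtPrime P)] :
    ∃ (c : ℕ) (x : Fin c → A), ringKrullDim (Localization.AtPrime P) = c ∧ (∀ i, x i ∈ P) ∧
      ∀ z ∈ P, ∃ w ∉ P, w * z ∈ Ideal.span (Set.range x) := by
  obtain ⟨G, hGc, hG⟩ := Submodule.FG.exists_span_finset_card_eq_spanFinrank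
    (IsNoetherian.noetherian (maximalIdeal (Localization.AtPrime P)))
  have hreg := (isRegularLocalRing_iff (Localization.AtPrime P)).mp inferInstance
  choose a ha using fun g : G => IsLocalization.surj P.primeCompl (g : Localization.AtPrime P)
  refine ⟨G.card, fun i => (a (G.equivFin.symm i)).1, by rw [hGc]; exact hreg.symm, fun i => ?_, fun z hz => ?_⟩
  · have hg : ((G.equivFin.symm i : G) : Localization.AtPrime P) ∈ maximalIdeal (Localization.AtPrime P) :=
      hG ▸ Submodule.subset_span (G.equivFin.symm i).2
    rw [← IsLocalization.AtPrime.to_map_mem_maximal_iff (Localization.AtPrime P) P]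
    show algebraMap A _ (a _).1 ∈ _
    rw [← ha]
    exact Ideal.mul_mem_right _ _ hg
  · have hle : Submodule.span (Localization.AtPrime P) (G : Set (Localization.AtPrime P)) ≤
        (Ideal.span (Set.range fun i => (a (G.equivFin.symm i)).1)).map
          (algebraMap A (Localization.AtPrime P)) := by
      refine Submodule.span_le.2 fun g hg => ?_
      refine (Ideal.mul_unit_mem_iff_mem _ (IsLocalization.map_units _ (a ⟨g, hg⟩).2)).1 ?_
      rw [show g * algebraMap A _ ((a ⟨g, hg⟩).2 : A) = algebraMap A _ (a ⟨g, hg⟩).1 from ha ⟨g, hg⟩]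
      refine Ideal.mem_map_of_mem _ (Ideal.subset_span ⟨G.equivFin ⟨g, hg⟩, ?_⟩)
      show (a _).1 = _
      rw [Equiv.symm_apply_apply]
    have h1 : algebraMap A (Localization.AtPrime P) z ∈ maximalIdeal (Localization.AtPrime P) :=
      (IsLocalization.AtPrime.to_map_mem_maximal_iff (Localization.AtPrime P) P z).2 hz
    rw [← hG] at h1
    obtain ⟨w, hw, hwz⟩ := (IsLocalization.algebraMap_mem_map_algebraMap_iff P.primeCompl _ _ z).1 (hle h1)
    exact ⟨w, hw, hwz⟩

variable (k K A : Type u) [Field k] [Field K] [Algebra k K]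
  [CommRing A] [IsLocalRing A] [IsNoetherianRing A] [Algebra k A] [Algebra K A] [IsScalarTower k K A]
  [IsAdicComplete (maximalIdeal A) A] [Module.Finite K (ResidueField A)]

local notation "dd₀" => fun a : A => AdicCompletion.of (maximalIdeal A) (Ω[A⁄K]) (KaehlerDifferential.D K A a)

/-- Independent differentials at a prime are detected by derivations of the algebra, when generators of the
prime and parameters modulo it span the fibre of the completed differentials. -/
theorem exists_derivations_of_span
    (hA : CAlgX.IsAdicFormallySmooth K A (maximalIdeal A)) (P : Ideal A) [P.IsPrime] {c d : ℕ}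
    (x : Fin c → A) (hxP : ∀ i, x i ∈ P) (hxgen : ∀ z ∈ P, ∃ w ∉ P, w * z ∈ Ideal.span (Set.range x))
    (hc : ringKrullDim (Localization.AtPrime P) = c) (hd : ringKrullDim (A ⧸ P) = d)
    (hY : ∃ Y : Fin d → A, Submodule.span P.ResidueField (Set.range (Sum.elim
      (fun i => (1 : P.ResidueField) ⊗ₜ[A] dd₀ (x i)) fun i => (1 : P.ResidueField) ⊗ₜ[A] dd₀ (Y i))) = ⊤)
    {m : ℕ} (f : Fin m → A) (hfP : ∀ i, f i ∈ P) {k₀ : Type*} [CommRing k₀] [Algebra k₀ A]
    (δ : Fin m → Derivation k₀ A P.ResidueField) (hδ : ∀ i j, δ j (f i) = if i = j then 1 else 0) :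
    ∃ D : Fin m → Derivation k A A, Matrix.det (Matrix.of fun i j => D i (f j)) ∉ P := by
  classical
  obtain ⟨Y, hY⟩ := hY
  haveI := FlatLoc6.isRegularRing_of_geometricallyRegular (RegFS6.geometricallyRegular_of_fs hA)
  haveI : IsRegularLocalRing A := IsRegularLocalRing.of_isRegularRing_of_isLocalRing A
  haveI := RegLoc6.isDomain_of_isRegularLocalRing A
  haveI := CplKaehler4.finite_completion K A
  haveI := free_completion K A hA
  haveI : IsDomain (Localization.AtPrime P) := IsLocalization.isDomain_localization (Ideal.primeCompl_le_nonZeroDivisors P)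
  haveI : IsLocalRing (A ⧸ (⊥ : Ideal A)) := .of_surjective' (Ideal.Quotient.mk ⊥) Ideal.Quotient.mk_surjective
  obtain ⟨n, -, -, hn, -⟩ := CohenLib.exists_fin_sop (A ⧸ (⊥ : Ideal A))
  have hmin : (⊥ : Ideal A) ∈ minimalPrimes A := by
    rw [IsDomain.minimalPrimes_eq_singleton_bot]; rfl
  have hsum := CplKaehler4.ringKrullDim_quot_eq P hmin bot_le
  rw [hn, hd, hc] at hsum
  have hn' : n = d + c := by exact_mod_cast hsum
  let L := P.ResidueField
  let Om := AdicCompletion (maximalIdeal A) (Ω[A⁄K])
  let F := L ⊗[A] Om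
  obtain ⟨s, hs⟩ := CplKaehler4.exists_genAt P (M := Om)
  have hle : n ≤ Module.finrank L F := by
    have := CplKaehler4.dim_quot_le_of_genAt K A P ⊥ bot_le s hs
    rw [hn, Nat.cast_le] at this
    exact this
  let dd : A → F := fun a => (1 : L) ⊗ₜ[A] AdicCompletion.of (maximalIdeal A) (Ω[A⁄K]) (KaehlerDifferential.D K A a)
  have hcard : Fintype.card (Fin c ⊕ Fin d) = Module.finrank L F := by
    refine le_antisymm ?_ ?_
    · rw [Fintype.card_sum, Fintype.card_fin, Fintype.card_fin]; omega
    · have h := finrank_range_le_card (R := L) (Sum.elim (fun i => dd (x i)) fun i => dd (Y i))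
      rw [Set.finrank, show Submodule.span L (Set.range (Sum.elim (fun i => dd (x i)) fun i => dd (Y i))) = ⊤ from hY,
        finrank_top] at h
      exact h
  have hli : LinearIndependent L fun i => dd (x i) :=
    (linearIndependent_of_top_le_span_of_card_eq_finrank (b := Sum.elim (fun i => dd (x i)) fun i => dd (Y i))
      hY.ge hcard).comp Sum.inl Sum.inl_injective
  -- coefficients on the generators
  have hdd_mul : ∀ (a z : A), z ∈ P → dd (a * z) = algebraMap A L a • dd z := fun a z hz => by
    show (1 : L) ⊗ₜ[A] AdicCompletion.of _ _ _ = _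
    rw [Derivation.leibniz, map_add, map_smul, map_smul, TensorProduct.tmul_add, TensorProduct.tmul_smul,
      TensorProduct.tmul_smul, ← algebraMap_smul L a, ← algebraMap_smul L z,
      Ideal.algebraMap_residueField_eq_zero.2 hz, zero_smul, add_zero]
  choose w hw hwz using fun i => hxgen (f i) (hfP i)
  choose a ha using fun i => Ideal.mem_span_range_iff_exists_fun.1 (hwz i)
  have hwne : ∀ i, algebraMap A L (w i) ≠ 0 := fun i => by
    rw [Ne, Ideal.algebraMap_residueField_eq_zero]; exact hw i
  let α : Fin m → Fin c → L := fun i t => algebraMap A L (a i t) / algebraMap A L (w i)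
  have hfv : ∀ i, dd (f i) = ∑ t, α i t • dd (x t) := fun i => by
    have hsumd : dd (∑ t, a i t * x t) = ∑ t, dd (a i t * x t) := by
      simp only [dd, map_sum, TensorProduct.tmul_sum]
    have h := congrArg dd (ha i)
    rw [hsumd, hdd_mul _ _ (hfP i), Finset.sum_congr rfl fun t _ => hdd_mul (a i t) (x t) (hxP t)] at h
    rw [← smul_right_inj (hwne i), ← h, Finset.smul_sum]
    exact Finset.sum_congr rfl fun t _ => by rw [smul_smul, mul_div_cancel₀ _ (hwne i)]
  have hδf : ∀ i j, δ j (f i) = ∑ t, α i t * δ j (x t) := fun i j => by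
    have h := congrArg (δ j) (ha i)
    rw [map_sum, apply_mul_of_mem P (δ j) _ _ (hfP i),
      Finset.sum_congr rfl fun t _ => apply_mul_of_mem P (δ j) (a i t) (x t) (hxP t)] at h
    refine mul_left_cancel₀ (hwne i) (h.symm.trans ?_)
    rw [Finset.mul_sum]
    exact Finset.sum_congr rfl fun t _ => by rw [← mul_assoc, mul_div_cancel₀ _ (hwne i)]
  have hlif : LinearIndependent L fun i => dd (f i) := by
    rw [Fintype.linearIndependent_iff]
    intro l hl j
    simp only [hfv, Finset.smul_sum, smul_smul] at hl
    rw [Finset.sum_comm] at hl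
    simp only [← Finset.sum_smul] at hl
    have h0 := Fintype.linearIndependent_iff.1 hli _ hl
    calc l j = ∑ i, l i * δ j (f i) := by simp [hδ]
      _ = ∑ t, (∑ i, l i * α i t) * δ j (x t) := by
        simp only [hδf]
        exact sum_swap l α fun t => δ j (x t)
      _ = 0 := by simp [h0]
  -- coordinates
  let bΩ := Module.Free.chooseBasis A Om
  let E : Module.Free.ChooseBasisIndex A Om → Derivation k A A := fun l =>
    (((bΩ.coord l).comp (AdicCompletion.of (maximalIdeal A) (Ω[A⁄K]))).compDer
      (KaehlerDifferential.D K A)).restrictScalars k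
  obtain ⟨ψ, hψ⟩ := (Fintype.linearCombination L fun i => dd (f i)).exists_leftInverse_of_injective
    (LinearMap.ker_eq_bot.2 hlif.fintypeLinearCombination_injective)
  have hψf : ∀ i j, ψ (dd (f i)) j = if i = j then 1 else 0 := fun i j => by
    have h := congrFun (LinearMap.congr_fun hψ (Pi.single i 1)) j
    rw [LinearMap.comp_apply, Fintype.linearCombination_apply_single, one_smul, LinearMap.id_apply, Pi.single_apply] at h
    rw [h]
    exact if_congr eq_comm rfl rfl
  obtain ⟨σ, hσ⟩ := exists_det_notMem P (fun l => ⇑(E l)) f (fun j l => ψ ((1 : L) ⊗ₜ[A] bΩ l) j) fun i j => by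
    have h : dd (f i) = ∑ l, algebraMap A L (E l (f i)) • ((1 : L) ⊗ₜ[A] bΩ l) := by
      show (1 : L) ⊗ₜ[A] AdicCompletion.of _ _ _ = _
      conv_lhs => rw [← bΩ.sum_repr (AdicCompletion.of (maximalIdeal A) _ (KaehlerDifferential.D K A (f i)))]
      rw [TensorProduct.tmul_sum]
      exact Finset.sum_congr rfl fun l _ => by rw [algebraMap_smul, TensorProduct.tmul_smul]; rfl
    rw [← hψf i j, h, map_sum, Finset.sum_apply]
    exact Finset.sum_congr rfl fun l _ => by rw [map_smul, Pi.smul_apply, smul_eq_mul, mul_comm]
  exact ⟨fun i => E (σ i), hσ⟩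


/-- Independent differentials at a prime are detected by derivations of the algebra, in characteristic zero. -/
theorem exists_derivations_zero [CharZero K]
    (hA : CAlgX.IsAdicFormallySmooth K A (maximalIdeal A)) (P : Ideal A) [P.IsPrime] {m : ℕ} (f : Fin m → A)
    (hfP : ∀ i, f i ∈ P)
    (δ : Fin m → Derivation k A P.ResidueField) (hδ : ∀ i j, δ j (f i) = if i = j then 1 else 0) :
    ∃ D : Fin m → Derivation k A A, Matrix.det (Matrix.of fun i j => D i (f j)) ∉ P := by
  haveI := FlatLoc6.isRegularRing_of_geometricallyRegular (RegFS6.geometricallyRegular_of_fs hA)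
  haveI : IsRegularLocalRing (Localization.AtPrime P) := IsRegularRing.isRegularLocalRing_localization P
  obtain ⟨c, x, hc, hxP, hxgen⟩ := exists_generators_atPrime P
  haveI : IsLocalRing (A ⧸ P) := .of_surjective' (Ideal.Quotient.mk P) Ideal.Quotient.mk_surjective
  obtain ⟨d, -, -, hd, -⟩ := CohenLib.exists_fin_sop (A ⧸ P)
  exact exists_derivations_of_span k K A hA P x hxP hxgen hc hd
    (CplKaehler4.exists_span_fibre_of_charZero K A P hd x hxgen hxP) f hfP δ hδ

end Groth.Agent.Jacob4
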